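import Mathlib

/-!
The properties of the groups `S₃ × A₆`, `S₃ × S₆` and the even part of `S₃ × S₆` that are used.
-/

set_option autoImplicit false

namespace CfsgLib.SmithNine70

/-- The alternating group of degree six. -/
abbrev Asix := ↥(alternatingGroup (Fin 6))

/-- A permutation from its table and the table of its inverse. -/
def permOf (f g : Fin 6 → Fin 6) (h1 : ∀ i, g (f i) = i) (h2 : ∀ i, f (g i) = i) :
    Equiv.Perm (Fin 6) := ⟨f, g, h1, h2⟩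

/-- The 3-cycle `(0 1 2)`. -/
def pA : Asix :=
  ⟨permOf ![1, 2, 0, 3, 4, 5] ![2, 0, 1, 3, 4, 5] (by decide) (by decide), by
    rw [Equiv.Perm.mem_alternatingGroup]; decide +kernel⟩

/-- The 3-cycle `(3 4 5)`. -/
def pB : Asix :=
  ⟨permOf ![0, 1, 2, 4, 5, 3] ![0, 1, 2, 5, 3, 4] (by decide) (by decide), by
    rw [Equiv.Perm.mem_alternatingGroup]; decide +kernel⟩

/-- The element `(0 3 1 4)(2 5)`. -/
def pF : Asix :=
  ⟨permOf ![3, 4, 5, 1, 0, 2] ![4, 3, 5, 0, 1, 2] (by decide) (by decide), by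
    rw [Equiv.Perm.mem_alternatingGroup]; decide +kernel⟩

/-- The element `(0 3)(1 4)`. -/
def pC : Asix :=
  ⟨permOf ![3, 4, 2, 0, 1, 5] ![3, 4, 2, 0, 1, 5] (by decide) (by decide), by
    rw [Equiv.Perm.mem_alternatingGroup]; decide +kernel⟩

variable {L : Type*} [Group L]

/-- An element that normalizes the subgroups generated by the chosen generators. -/
def Special (ι : Asix →* L) (t : L) : Prop :=
  t * ι pA = ι pA * t ∧ (t * ι pB * t⁻¹ = ι pB ∨ t * ι pB * t⁻¹ = (ι pB)⁻¹) ∧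
    (t * ι pF * t⁻¹ = ι pF ∨ t * ι pF * t⁻¹ = (ι pF)⁻¹)

/-- The properties used of a group like `S₃ × A₆`. -/
structure LSpec (x : L) (ι : Asix →* L) : Prop where
  x_cube : x * x * x = 1
  x_ne : x ≠ 1
  x_normal : ∀ l, l * x * l⁻¹ = x ∨ l * x * l⁻¹ = x⁻¹
  comm : ∀ σ, x * ι σ = ι σ * x
  injective : Function.Injective ι
  inverter : ∃ t, t * x * t⁻¹ = x⁻¹
  gens : ∀ S : Subgroup L, x ∈ S → (∀ σ, ι σ ∈ S) → (∀ t, Special ι t → t ∈ S) → S = ⊤
  rank_centralizer : ∀ R : Subgroup L, (∀ r ∈ R, r * r = 1) → (∀ r ∈ R, r * x = x * r) →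
    Nat.card ↥R ≤ 8
  rank : ∀ R : Subgroup L, (∀ r ∈ R, r * r = 1) → Nat.card ↥R ≤ 16 ∧
    (Nat.card ↥R = 16 → ∃ r ∈ R, r * x * r⁻¹ = x⁻¹ ∧ ∀ σ, r * ι σ = ι σ * r)
  index_two : ∃ K : Subgroup L, K.index = 2

end CfsgLib.SmithNine70
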