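import Mathlib
import Cfsg.Agent.SmithNine70.Spec

/-!
`S₃ × A₆`, `S₃ × S₆` and the even part of `S₃ × S₆` have the properties in `LSpec`.
-/

set_option autoImplicit false

namespace CfsgLib.SmithNine70

open Equiv

/-- The three generators of `A₆`. -/
def genElt : Fin 3 → Asix := ![pA, pB, pC * pA * pC]

/-- Words moving `i` to `j` and fixing the points below `i`. -/
def chainWord : List (List (List (Fin 3))) :=
  [[[], [0], [0, 0], [2, 0, 0], [1, 2, 0, 0], [1, 1, 2, 0, 0]],
   [[], [], [2, 0, 0, 1, 2, 0], [0, 0, 2, 0], [0, 0, 1, 2, 0], [0, 0, 1, 1, 2, 0]],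
   [[], [], [], [2], [1, 2], [1, 1, 2]],
   [[], [], [], [], [1], [1, 1]]]

/-- The element of a word. -/
def chainElt (i : Fin 4) (j : Fin 6) : Asix :=
  (((chainWord.getD i []).getD j []).map genElt).prod

theorem chainElt_spec : ∀ (i : Fin 4) (j : Fin 6), (i : ℕ) ≤ j →
    (chainElt i j).1 (Fin.castLE (by norm_num) i) = j ∧
      ∀ t : Fin 6, (t : ℕ) < i → (chainElt i j).1 t = t := by
  decide +kernel

theorem eq_one_of_fix_four : ∀ τ : Perm (Fin 6), (∀ t : Fin 6, (t : ℕ) < 4 → τ t = t) →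
    Perm.sign τ = 1 → τ = 1 := by
  decide +kernel

theorem gen_asix : Subgroup.closure ({pA, pB, pC * pA * pC} : Set Asix) = ⊤ := by
  set T := Subgroup.closure ({pA, pB, pC * pA * pC} : Set Asix)
  have hg : ∀ k, genElt k ∈ T := fun k => Subgroup.subset_closure (by fin_cases k <;> simp [genElt])
  have hc : ∀ i j, chainElt i j ∈ T := fun i j => Subgroup.list_prod_mem T fun y hy => by
    obtain ⟨k, -, rfl⟩ := List.mem_map.mp hy
    exact hg k
  suffices h : ∀ (d : ℕ), d ≤ 4 → ∀ σ : Asix, (∀ t : Fin 6, (t : ℕ) < 4 - d → σ.1 t = t) → σ ∈ T by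
    rw [eq_top_iff]
    exact fun σ _ => h 4 le_rfl σ fun t ht => absurd ht (by omega)
  intro d
  induction d with
  | zero =>
    intro _ σ hσ
    have : σ = 1 := Subtype.ext (eq_one_of_fix_four σ.1 hσ (Perm.mem_alternatingGroup.mp σ.2))
    exact this ▸ T.one_mem
  | succ d ih =>
    intro hd σ hσ
    let i : Fin 4 := ⟨4 - (d + 1), by omega⟩
    let i' : Fin 6 := Fin.castLE (by norm_num) i
    have hij : (i : ℕ) ≤ σ.1 i' := by
      by_contra hlt
      have e := σ.1.injective (hσ (σ.1 i') (not_le.mp hlt))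
      rw [e] at hlt
      exact hlt le_rfl
    obtain ⟨h1, h2⟩ := chainElt_spec i (σ.1 i') hij
    have := ih (by omega) ((chainElt i (σ.1 i'))⁻¹ * σ) fun t ht => by
      show ((chainElt i (σ.1 i')).1)⁻¹ (σ.1 t) = t
      rw [Perm.inv_eq_iff_eq]
      rcases Nat.lt_or_ge (t : ℕ) i with hlt | hge
      · rw [h2 t hlt, hσ t hlt]
      · have : t = i' := Fin.ext (by simp only [i, i'] at hge ⊢; simp; omega)
        rw [this]
        exact h1.symm
    simpa using T.mul_mem (hc i (σ.1 i')) this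

/-! ### Elementary subgroups of `S₆` -/

/-- A subgroup of exponent two of the symmetric group of degree six has order at most eight. -/
theorem card_le_eight (R : Subgroup (Perm (Fin 6))) (hR : ∀ r ∈ R, r * r = 1) : Nat.card R ≤ 8 := by
  classical
  haveI : Fact (Nat.Prime 2) := ⟨Nat.prime_two⟩
  have hp : IsPGroup 2 R := fun r => ⟨1, Subtype.ext (by
    rw [pow_one, pow_two]; exact hR r.1 r.2)⟩
  obtain ⟨n, hn⟩ := IsPGroup.iff_card.mp hp
  have h720 : Nat.card (Perm (Fin 6)) = 720 := by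
    rw [Nat.card_perm, Nat.card_eq_fintype_card, Fintype.card_fin]; rfl
  by_contra hlt
  have hn4 : 4 ≤ n := by
    by_contra hn4
    have : 2 ^ n ≤ 2 ^ 3 := Nat.pow_le_pow_right (by norm_num) (by omega)
    omega
  obtain ⟨P, hP⟩ := hp.exists_le_sylow
  have hf : (720 : ℕ).factorization 2 = 4 := by decide +kernel
  have hPc : Nat.card (P : Subgroup (Perm (Fin 6))) = 16 := by
    rw [P.card_eq_multiplicity, h720, hf]; rfl
  have h16 : 2 ^ 4 ≤ 2 ^ n := Nat.pow_le_pow_right (by norm_num) hn4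
  have hRP : R = (P : Subgroup (Perm (Fin 6))) :=
    Subgroup.eq_of_le_of_card_ge hP (by rw [hPc, hn]; omega)
  let c : Perm (Fin 6) :=
    permOf ![1, 2, 3, 0, 4, 5] ![3, 0, 1, 2, 4, 5] (by decide) (by decide)
  have hc : IsPGroup 2 (Subgroup.zpowers c) := by
    intro y
    refine ⟨2, Subtype.ext ?_⟩
    obtain ⟨k, hk⟩ := Subgroup.mem_zpowers_iff.mp y.2
    have e : c ^ (4 : ℤ) = 1 := by decide +kernel
    rw [Subgroup.coe_pow, ← hk, ← zpow_natCast, ← zpow_mul, mul_comm, zpow_mul]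
    simpa using (by rw [e, one_zpow] : (c ^ (4 : ℤ)) ^ k = 1)
  obtain ⟨Q, hQ⟩ := hc.exists_le_sylow
  obtain ⟨g, rfl⟩ := MulAction.exists_smul_eq (Perm (Fin 6)) Q P
  have hmem : g * c * g⁻¹ ∈ R := by
    rw [hRP, Sylow.coe_subgroup_smul]
    exact ⟨c, hQ (Subgroup.mem_zpowers c), rfl⟩
  have := hR _ hmem
  have h2 : c * c = 1 := by
    calc c * c = g⁻¹ * ((g * c * g⁻¹) * (g * c * g⁻¹)) * g := by group
      _ = 1 := by rw [this]; group
  exact absurd h2 (by decide +kernel)

/-! ### The first factor -/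

/-- The 3-cycle. -/
def x3 : Perm (Fin 3) := Equiv.swap 0 1 * Equiv.swap 1 2

/-- The transposition. -/
def t3 : Perm (Fin 3) := Equiv.swap 0 1

/-- The transposition `(3 4)`. -/
def s6 : Perm (Fin 6) := Equiv.swap 3 4

theorem perm3_facts : x3 * x3 * x3 = 1 ∧ x3 ≠ 1 ∧
    (∀ l : Perm (Fin 3), l * x3 * l⁻¹ = x3 ∨ l * x3 * l⁻¹ = x3⁻¹) ∧
    (∀ l : Perm (Fin 3), l * l = 1 → l * x3 = x3 * l → l = 1) ∧
    (∀ l : Perm (Fin 3), l * l = 1 → l ≠ 1 → l * x3 * l⁻¹ = x3⁻¹) ∧
    t3 * x3 * t3⁻¹ = x3⁻¹ ∧ Perm.sign t3 = -1 ∧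
    (∀ l : Perm (Fin 3), Perm.sign l = 1 → l = 1 ∨ l = x3 ∨ l = x3 * x3) := by
  decide +kernel

theorem s6_facts : Perm.sign s6 = -1 ∧ s6 * pA.1 = pA.1 * s6 ∧
    s6 * pB.1 * s6⁻¹ = (pB.1)⁻¹ ∧ s6 * pF.1 * s6⁻¹ = (pF.1)⁻¹ := by
  decide +kernel

theorem card_le_two (R : Subgroup (Perm (Fin 3))) (hR : ∀ r ∈ R, r * r = 1) : Nat.card R ≤ 2 := by
  classical
  haveI : Fact (Nat.Prime 2) := ⟨Nat.prime_two⟩
  have hp : IsPGroup 2 R := fun r => ⟨1, Subtype.ext (by
    rw [pow_one, pow_two]; exact hR r.1 r.2)⟩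
  obtain ⟨n, hn⟩ := IsPGroup.iff_card.mp hp
  have h6 : Nat.card (Perm (Fin 3)) = 6 := by
    rw [Nat.card_perm, Nat.card_eq_fintype_card, Fintype.card_fin]; rfl
  have hd := R.card_subgroup_dvd_card
  rw [h6, hn] at hd
  rw [hn]
  have hn1 : n ≤ 1 := by
    by_contra hn1
    have : 2 ^ 2 ∣ 6 := (pow_dvd_pow 2 (by omega)).trans hd
    norm_num at this
  exact (Nat.pow_le_pow_right (by norm_num) hn1).trans (by norm_num)

/-! ### The three groups -/

variable {L : Type*} [Group L]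

/-- The properties coming from an embedding into `S₃ × S₆`. -/
theorem lspec_of_embedding (f : L →* Perm (Fin 3) × Perm (Fin 6)) (hf : Function.Injective f)
    (x : L) (ι : Asix →* L) (hx : f x = (x3, 1)) (hι : ∀ σ, f (ι σ) = (1, σ.1))
    (t : L) (ht : (f t).1 = t3) (s : L) (hs : Special ι s)
    (hgen : ∀ S : Subgroup L, x ∈ S → (∀ σ, ι σ ∈ S) → s ∈ S →
      (∀ t', Special ι t' → t' ∈ S) → S = ⊤) : LSpec x ι := by
  obtain ⟨c3, xne, xnorm, xcent, xinv, tinv, tsign, -⟩ := perm3_facts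
  have comm : ∀ σ, x * ι σ = ι σ * x := fun σ => hf (by simp [map_mul, hx, hι])
  have fstInj : ∀ a b : L, (f a).2 = (f b).2 → (f a).1 = (f b).1 → a = b :=
    fun a b e2 e1 => hf (Prod.ext e1 e2)
  refine
    { x_cube := hf ?_
      x_ne := ?_
      x_normal := ?_
      comm := comm
      injective := ?_
      inverter := ⟨t, hf ?_⟩
      gens := fun S hxS hιS hsp => hgen S hxS hιS (hsp s hs) hsp
      rank_centralizer := ?_
      rank := ?_
      index_two := ?_ }
  · simp [map_mul, hx, c3]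
  · intro e
    rw [e, map_one] at hx
    exact xne (congrArg Prod.fst hx).symm
  · intro l
    rcases xnorm (f l).1 with e | e
    · left; apply hf; simp [map_mul, hx, Prod.ext_iff, e]
    · right; apply hf; simp [map_mul, hx, Prod.ext_iff, e]
  · intro a b e
    have := congrArg f e
    rw [hι, hι] at this
    exact Subtype.ext (congrArg Prod.snd this)
  · simp [map_mul, hx, Prod.ext_iff, ht, tinv]
  · intro R hR hRc
    have hinj : Function.Injective (((MonoidHom.snd _ _).comp f).comp R.subtype) := by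
      rw [injective_iff_map_eq_one]
      intro r hr
      have h1 : (f r.1).1 = 1 := by
        refine xcent _ ?_ ?_
        · simpa using congrArg (fun l => (f l).1) (hR r.1 r.2)
        · simpa [hx] using congrArg (fun l => (f l).1) (hRc r.1 r.2)
      exact Subtype.ext (fstInj _ _ (by simpa using hr) (by simpa using h1))
    rw [Nat.card_congr (MonoidHom.ofInjective hinj).toEquiv]
    exact card_le_eight _ (by
      rintro _ ⟨r, rfl⟩
      simpa using congrArg (fun l => (f l).2) (hR r.1 r.2))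
  · intro R hR
    let p1 := ((MonoidHom.fst _ _).comp f).comp R.subtype
    let p2 := ((MonoidHom.snd _ _).comp f).comp R.subtype
    have h2 : Nat.card p1.range ≤ 2 := card_le_two _ (by
      rintro _ ⟨r, rfl⟩
      simpa [p1] using congrArg (fun l => (f l).1) (hR r.1 r.2))
    have h8 : Nat.card p2.range ≤ 8 := card_le_eight _ (by
      rintro _ ⟨r, rfl⟩
      simpa [p2] using congrArg (fun l => (f l).2) (hR r.1 r.2))
    let Φ : R → p1.range × p2.range := fun r => (⟨p1 r, r, rfl⟩, ⟨p2 r, r, rfl⟩)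
    have hΦ : Function.Injective Φ := fun a b e => Subtype.ext (fstInj _ _
      (congrArg (fun q => (q.2 : Perm (Fin 6))) e) (congrArg (fun q => (q.1 : Perm (Fin 3))) e))
    have hle := Nat.card_le_card_of_injective Φ hΦ
    rw [Nat.card_prod] at hle
    refine ⟨hle.trans (Nat.mul_le_mul h2 h8), fun h16 => ?_⟩
    have hb : Function.Bijective Φ := (Nat.bijective_iff_injective_and_card Φ).mpr
      ⟨hΦ, by rw [Nat.card_prod]; nlinarith⟩
    haveI : Nontrivial p1.range := Finite.one_lt_card_iff_nontrivial.mp (by nlinarith)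
    obtain ⟨a, ha⟩ := exists_ne (1 : p1.range)
    obtain ⟨r, hr⟩ := hb.2 (a, 1)
    have e1 : (f r.1).1 = a.1 := congrArg (fun q => (q.1 : Perm (Fin 3))) hr
    have e2 : (f r.1).2 = 1 := congrArg (fun q => (q.2 : Perm (Fin 6))) hr
    have hne : (f r.1).1 ≠ 1 := fun e => ha (Subtype.ext (e1.symm.trans e))
    have hsq : (f r.1).1 * (f r.1).1 = 1 := by
      simpa using congrArg (fun l => (f l).1) (hR r.1 r.2)
    refine ⟨r.1, r.2, hf ?_, fun σ => hf ?_⟩
    · simp [map_mul, hx, Prod.ext_iff, e2, xinv _ hsq hne]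
    · simp [map_mul, hι, Prod.ext_iff, e2]
  · refine ⟨((Perm.sign.comp (MonoidHom.fst _ _)).comp f).ker, ?_⟩
    have hsurj : Function.Surjective ((Perm.sign.comp (MonoidHom.fst _ _)).comp f) := by
      intro u
      rcases Int.units_eq_one_or u with rfl | rfl
      · exact ⟨1, map_one _⟩
      · exact ⟨t, by simp [ht, tsign]⟩
    rw [Subgroup.index_ker, MonoidHom.range_eq_top.mpr hsurj, Subgroup.card_top,
      Nat.card_eq_fintype_card]
    rfl

theorem perm3_mem (S : Subgroup L) (x : L) (f : L →* Perm (Fin 3) × Perm (Fin 6))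
    (hx : f x = (x3, 1)) (hxS : x ∈ S) (l : L) (hl : Perm.sign (f l).1 = 1) :
    ∃ a ∈ S, f a = ((f l).1, 1) := by
  rcases perm3_facts.2.2.2.2.2.2.2 (f l).1 hl with e | e | e
  · exact ⟨1, S.one_mem, by rw [e, map_one]; rfl⟩
  · exact ⟨x, hxS, by rw [e, hx]⟩
  · exact ⟨x * x, S.mul_mem hxS hxS, by simp [map_mul, hx, e]⟩

theorem exists_lspec_alt :
    ∃ (x : Perm (Fin 3) × Asix) (ι : Asix →* Perm (Fin 3) × Asix), LSpec x ι := by
  let f : Perm (Fin 3) × Asix →* Perm (Fin 3) × Perm (Fin 6) :=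
    (MonoidHom.fst _ _).prod ((alternatingGroup (Fin 6)).subtype.comp (MonoidHom.snd _ _))
  have hf : Function.Injective f := fun a b e =>
    Prod.ext (congrArg Prod.fst e :) (Subtype.ext (congrArg Prod.snd e :))
  refine ⟨(x3, 1), MonoidHom.inr _ _,
    lspec_of_embedding f hf _ _ rfl (fun σ => rfl) (t3, 1) rfl (t3, 1) ?_ ?_⟩
  · exact ⟨Prod.ext (by simp) (by simp), Or.inl (Prod.ext (by simp) (by simp)),
      Or.inl (Prod.ext (by simp) (by simp))⟩
  · intro S hxS hιS hsS _
    rw [eq_top_iff]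
    rintro ⟨a, σ⟩ -
    have hσ : ((1 : Perm (Fin 3)), σ) ∈ S := hιS σ
    rcases Int.units_eq_one_or (Perm.sign a) with e | e
    · obtain ⟨y, hy, ey⟩ := perm3_mem S _ f rfl hxS (a, σ) e
      convert S.mul_mem hy hσ using 1
      exact hf (by simp [map_mul, ey, f])
    · obtain ⟨y, hy, ey⟩ := perm3_mem S _ f rfl hxS (t3 * a, σ)
        (by simp [f, perm3_facts.2.2.2.2.2.2.1, e])
      convert S.mul_mem (S.mul_mem (S.inv_mem hsS) hy) hσ using 1
      exact hf (by simp [map_mul, ey, f])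

theorem exists_lspec_sym :
    ∃ (x : Perm (Fin 3) × Perm (Fin 6)) (ι : Asix →* Perm (Fin 3) × Perm (Fin 6)), LSpec x ι := by
  obtain ⟨hsgn, hsA, hsB, hsF⟩ := s6_facts
  refine ⟨(x3, 1), (MonoidHom.inr _ _).comp (alternatingGroup (Fin 6)).subtype,
    lspec_of_embedding (MonoidHom.id _) (fun a b e => e) _ _ rfl (fun σ => rfl) (t3, 1) rfl
      (t3, 1) ?_ ?_⟩
  · exact ⟨Prod.ext (by simp) (by simp), Or.inl (Prod.ext (by simp) (by simp)),
      Or.inl (Prod.ext (by simp) (by simp))⟩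
  · intro S hxS hιS hsS hsp
    have hs6 : ((1 : Perm (Fin 3)), s6) ∈ S := hsp _
      ⟨Prod.ext (by simp) (by simpa using hsA), Or.inr (Prod.ext (by simp) (by simpa using hsB)),
        Or.inr (Prod.ext (by simp) (by simpa using hsF))⟩
    have h6 : ∀ σ : Perm (Fin 6), ((1 : Perm (Fin 3)), σ) ∈ S := by
      intro σ
      rcases Int.units_eq_one_or (Perm.sign σ) with e | e
      · exact hιS ⟨σ, Perm.mem_alternatingGroup.mpr e⟩
      · have := S.mul_mem (S.inv_mem hs6)
          (hιS ⟨s6 * σ, Perm.mem_alternatingGroup.mpr (by simp [hsgn, e])⟩)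
        simpa using this
    rw [eq_top_iff]
    rintro ⟨a, σ⟩ -
    rcases Int.units_eq_one_or (Perm.sign a) with e | e
    · obtain ⟨y, hy, ey⟩ := perm3_mem S _ (MonoidHom.id _) rfl hxS (a, σ) e
      convert S.mul_mem hy (h6 σ) using 1
      simp only [MonoidHom.id_apply] at ey
      simp [ey]
    · obtain ⟨y, hy, ey⟩ := perm3_mem S _ (MonoidHom.id _) rfl hxS (t3 * a, σ)
        (by simp [perm3_facts.2.2.2.2.2.2.1, e])
      convert S.mul_mem (S.mul_mem (S.inv_mem hsS) hy) (h6 σ) using 1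
      simp only [MonoidHom.id_apply] at ey
      simp [ey]

theorem exists_lspec_even :
    ∃ (x : ↥(MonoidHom.ker (Equiv.Perm.sign.comp (MonoidHom.fst (Equiv.Perm (Fin 3))
        (Equiv.Perm (Fin 6))) * Equiv.Perm.sign.comp (MonoidHom.snd _ _))))
      (ι : Asix →* ↥(MonoidHom.ker (Equiv.Perm.sign.comp (MonoidHom.fst (Equiv.Perm (Fin 3))
        (Equiv.Perm (Fin 6))) * Equiv.Perm.sign.comp (MonoidHom.snd _ _)))), LSpec x ι := by
  obtain ⟨hsgn, hsA, hsB, hsF⟩ := s6_facts
  set K := MonoidHom.ker (Equiv.Perm.sign.comp (MonoidHom.fst (Equiv.Perm (Fin 3))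
    (Equiv.Perm (Fin 6))) * Equiv.Perm.sign.comp (MonoidHom.snd _ _)) with hK
  have hmem : ∀ a : Perm (Fin 3) × Perm (Fin 6),
      a ∈ K ↔ Perm.sign a.1 * Perm.sign a.2 = 1 := fun a => by
    simp [hK, MonoidHom.mem_ker]
  let x : K := ⟨(x3, 1), (hmem _).mpr (by decide +kernel)⟩
  let ι : Asix →* K :=
    ((MonoidHom.inr _ _).comp (alternatingGroup (Fin 6)).subtype).codRestrict K fun σ =>
      (hmem _).mpr (by simpa using Perm.mem_alternatingGroup.mp σ.2)
  let t : K := ⟨(t3, s6), (hmem _).mpr (by decide +kernel)⟩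
  refine ⟨x, ι, lspec_of_embedding K.subtype K.subtype_injective x ι rfl (fun σ => rfl) t rfl
    t ?_ ?_⟩
  · exact ⟨Subtype.ext (Prod.ext (by simp [t, ι]) (by simpa [t, ι] using hsA)),
      Or.inr (Subtype.ext (Prod.ext (by simp [t, ι]) (by simpa [t, ι] using hsB))),
      Or.inr (Subtype.ext (Prod.ext (by simp [t, ι]) (by simpa [t, ι] using hsF)))⟩
  · intro S hxS hιS htS _
    rw [eq_top_iff]
    rintro ⟨⟨a, σ⟩, hl⟩ -
    have hs := (hmem _).mp hl
    rcases Int.units_eq_one_or (Perm.sign a) with e | e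
    · obtain ⟨y, hy, ey⟩ := perm3_mem S x K.subtype rfl hxS ⟨(a, σ), hl⟩ e
      have hσ : Perm.sign σ = 1 := by simpa [e] using hs
      convert S.mul_mem hy (hιS ⟨σ, Perm.mem_alternatingGroup.mpr hσ⟩) using 1
      exact Subtype.ext (by simp only [Subgroup.coe_mul]; simp at ey; simp [ey, ι])
    · have hσ : Perm.sign σ = -1 := by
        rcases Int.units_eq_one_or (Perm.sign σ) with e' | e'
        · simp [e, e'] at hs
        · exact e'
      obtain ⟨y, hy, ey⟩ := perm3_mem S x K.subtype rfl hxS (t * ⟨(a, σ), hl⟩)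
        (by simp [t, perm3_facts.2.2.2.2.2.2.1, e])
      convert S.mul_mem (S.mul_mem (S.inv_mem htS) hy)
        (hιS ⟨s6 * σ, Perm.mem_alternatingGroup.mpr (by simp [hsgn, hσ])⟩) using 1
      exact Subtype.ext (by
        simp only [Subgroup.coe_mul, Subgroup.coe_inv]; simp at ey; simp [ey, ι, t])

/-- Transport along an isomorphism. -/
theorem LSpec.of_mulEquiv {L' : Type*} [Group L'] (e : L ≃* L') {x : L} {ι : Asix →* L}
    (h : LSpec x ι) : LSpec (e x) (e.toMonoidHom.comp ι) := by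
  have heq : ∀ a b : L, e a = e b ↔ a = b := fun a b => e.injective.eq_iff
  have hsp : ∀ t : L, Special ι t → Special (e.toMonoidHom.comp ι) (e t) := by
    intro t ht
    simpa [Special, ← map_mul, ← map_inv, heq] using ht
  have hcard : ∀ R : Subgroup L', Nat.card (R.comap e.toMonoidHom) = Nat.card R := fun R =>
    Nat.card_congr ((e.toEquiv.subtypeEquiv fun a => Iff.rfl))
  refine
    { x_cube := by rw [← map_mul, ← map_mul, h.x_cube, map_one]
      x_ne := fun he => h.x_ne (e.map_eq_one_iff.mp he)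
      x_normal := fun l => ?_
      comm := fun σ => by simp [← map_mul, h.comm σ]
      injective := e.injective.comp h.injective
      inverter := ?_
      gens := fun S hx hι hs => ?_
      rank_centralizer := fun R hR hc => ?_
      rank := fun R hR => ?_
      index_two := ?_ }
  · obtain ⟨a, rfl⟩ := e.surjective l
    simpa [← map_mul, ← map_inv, heq] using h.x_normal a
  · obtain ⟨t, ht⟩ := h.inverter
    exact ⟨e t, by rw [← map_inv, ← map_mul, ← map_mul, ht, map_inv]⟩
  · have := h.gens (S.comap e.toMonoidHom) hx hι fun t ht => hs _ (hsp t ht)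
    rw [eq_top_iff]
    intro l _
    obtain ⟨a, rfl⟩ := e.surjective l
    exact (this ▸ Subgroup.mem_top a : a ∈ S.comap e.toMonoidHom)
  · rw [← hcard R]
    exact h.rank_centralizer _ (fun r hr => e.injective (by simpa using hR _ hr))
      fun r hr => e.injective (by simpa using hc _ hr)
  · obtain ⟨h1, h2⟩ := h.rank (R.comap e.toMonoidHom) fun r hr =>
      e.injective (by simpa using hR _ hr)
    rw [hcard R] at h1 h2
    refine ⟨h1, fun h16 => ?_⟩
    obtain ⟨r, hr, hrx, hrc⟩ := h2 h16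
    exact ⟨e r, hr, by rw [← map_inv, ← map_mul, ← map_mul, hrx, map_inv],
      fun σ => by simp [← map_mul, hrc σ]⟩
  · obtain ⟨K, hK⟩ := h.index_two
    exact ⟨K.map (e : L →* L'), (K.index_map_equiv e).trans hK⟩

end CfsgLib.SmithNine70
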