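import Cfsg.Agent.SmithNine70.Coords
import Cfsg.Agent.SmithNine70.Groups

/-!
Either the elementary group of order nine has a nonsingular eigenvector in the space moved by the
normal subgroup of order three, or that subgroup has a six dimensional fixed space.
-/

set_option autoImplicit false
set_option linter.unusedSectionVars false
set_option synthInstance.maxSize 2000

namespace CfsgLib.SmithNine70

namespace Decomp

/-- The form on two orthogonal lines of nonsingular vectors. -/
def qT (t : F4 × F4) : ZMod 2 := (if t.1 = 0 then 0 else 1) + (if t.2 = 0 then 0 else 1)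

/-- The additive map with given images of the four basis vectors. -/
def linT (a b c d t : F4 × F4) : F4 × F4 :=
  sm t.1.1 a + sm t.1.2 b + sm t.2.1 c + sm t.2.2 d

/-- There is no isometry of order five of two orthogonal lines of nonsingular vectors. -/
theorem no_five : ∀ a : F4 × F4, qT a = 1 → ∀ b : F4 × F4, qT b = 1 → qT (a + b) = 1 →
    ∀ c : F4 × F4, qT c = 1 → qT (a + c) = 0 → qT (b + c) = 0 → ∀ d : F4 × F4, qT d = 1 →
    qT (a + d) = 0 → qT (b + d) = 0 → qT (c + d) = 1 →
    (linT a b c d (linT a b c d (linT a b c d (linT a b c d a))) = ((1, 0), 0)) →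
    (linT a b c d (linT a b c d (linT a b c d (linT a b c d b))) = ((0, 1), 0)) →
    (linT a b c d (linT a b c d (linT a b c d (linT a b c d c))) = (0, (1, 0))) →
    (linT a b c d (linT a b c d (linT a b c d (linT a b c d d))) = (0, (0, 1))) →
    a = ((1, 0), 0) ∧ b = ((0, 1), 0) ∧ c = (0, (1, 0)) ∧ d = (0, (0, 1)) := by
  decide +kernel

/-- An element of order five. -/
def fiveElt : Asix :=
  ⟨permOf ![1, 2, 3, 4, 0, 5] ![4, 0, 1, 2, 3, 5] (by decide) (by decide), by
    rw [Equiv.Perm.mem_alternatingGroup]; decide +kernel⟩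

theorem fiveElt_spec :
    fiveElt * (fiveElt * (fiveElt * (fiveElt * fiveElt))) = 1 ∧ fiveElt ≠ 1 := by decide +kernel

theorem pA_ne : pA ≠ 1 := by decide +kernel

theorem asix_conj : pF * pA = pB * pF ∧ pF * (pA * pB) = pA * pA * pB * pF ∧
    pF * pA * pA = pB * pB * pF ∧ pA * pB * (pA * pA * pB) = pA * pA * pB * (pA * pB) ∧
    pA * pB * (pA * pB * (pA * pB)) = 1 ∧ pA * pA * pB * (pA * pA * pB * (pA * pA * pB)) = 1 ∧
    pA * pF = pF * pB * pB ∧ pA * pB * pF = pF * (pA * pA * pB) * (pA * pA * pB) := by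
  decide +kernel

variable {L : Type*} [Group L] {U : Type*} [AddCommGroup U] {ρ : L → U → U} {q : U → ZMod 2}
  {B : U → U → ZMod 2} {x : L} {ι : Asix →* L}

/-- The predicate of lying in the part without fixed vectors. -/
def Moved (ρ : L → U → U) (k : L) (v : U) : Prop := v + ρ k v + ρ k (ρ k v) = 0

/-- Powers of `x`. -/
def xp (ρ : L → U → U) (x : L) : Fin 3 → U → U
  | 0, v => v
  | 1, v => ρ x v
  | 2, v => ρ x (ρ x v)

/-- Projection to an eigenspace of `k`. -/
def proj (ρ : L → U → U) (x k : L) (j : Fin 3) (v : U) : U :=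
  v + xp ρ x (-j) (ρ k v) + xp ρ x (-j + -j) (ρ k (ρ k v))

variable (R : Rep ρ q B) (S : LSpec x ι)

section
include R

theorem eq_of_add {u v : U} (h : u + v = 0) : u = v :=
  calc u = u + (v + v) := by rw [R.add_self, add_zero]
    _ = v := by rw [← add_assoc, h, zero_add]

theorem neg_eq (u : U) : -u = u := neg_eq_of_add_eq_zero_left (R.add_self u)

theorem moved_zero (k : L) : Moved ρ k 0 := by simp [Moved, R.zero]

theorem moved_add {k : L} {u v : U} (hu : Moved ρ k u) (hv : Moved ρ k v) :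
    Moved ρ k (u + v) := by
  show u + v + ρ k (u + v) + ρ k (ρ k (u + v)) = 0
  calc u + v + ρ k (u + v) + ρ k (ρ k (u + v))
      = (u + ρ k u + ρ k (ρ k u)) + (v + ρ k v + ρ k (ρ k v)) := by simp only [R.add]; abel
    _ = 0 := by rw [hu, hv, add_zero]

theorem moved_fixed {k : L} {u : U} (hu : Moved ρ k u) (hf : ρ k u = u) : u = 0 := by
  unfold Moved at hu
  rwa [hf, hf, R.add_self, zero_add] at hu

theorem moved_map {k l : L} (h : l * k = k * l) {u : U} (hu : Moved ρ k u) :
    Moved ρ k (ρ l u) := by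
  unfold Moved
  rw [← R.mul, ← h, R.mul, ← R.mul k l, ← h, R.mul, ← R.add, ← R.add, hu, R.zero]

theorem cube_apply {k : L} (hk : k * (k * k) = 1) (u : U) : ρ k (ρ k (ρ k u)) = u := by
  rw [← R.mul, ← R.mul, mul_assoc, hk, R.one]

theorem fixed_part_fixed {k : L} (hk : k * (k * k) = 1) (u : U) :
    ρ k (u + ρ k u + ρ k (ρ k u)) = u + ρ k u + ρ k (ρ k u) := by
  simp only [R.add, cube_apply R hk]; abel

theorem moved_part_moved {k : L} (hk : k * (k * k) = 1) (u : U) :
    Moved ρ k (ρ k u + ρ k (ρ k u)) := by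
  show _ = _
  simp only [R.add, cube_apply R hk]
  calc ρ k u + ρ k (ρ k u) + (ρ k (ρ k u) + u) + (u + ρ k u)
      = (ρ k u + ρ k u) + (ρ k (ρ k u) + ρ k (ρ k u)) + (u + u) := by abel
    _ = 0 := by simp [R.add_self]

theorem split_apply (k : L) (u : U) :
    u + ρ k u + ρ k (ρ k u) + (ρ k u + ρ k (ρ k u)) = u := by
  calc u + ρ k u + ρ k (ρ k u) + (ρ k u + ρ k (ρ k u))
      = u + (ρ k u + ρ k u) + (ρ k (ρ k u) + ρ k (ρ k u)) := by abel
    _ = u := by simp [R.add_self]

theorem moved_sq {k : L} {u : U} (hu : Moved ρ k u) : ρ k (ρ k u) = u + ρ k u :=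
  (eq_of_add R hu).symm

theorem line_eq_zero {k : L} {e : U} (he : Moved ρ k e) (hne : e ≠ 0) {p : F4}
    (h : line ρ k e p = 0) : p = 0 := by
  have hz : ∀ a : ZMod 2, a = 0 ∨ a = 1 := by decide
  have h1 : ρ k e ≠ 0 := fun h0 => hne (R.inj k (h0.trans (R.zero k).symm))
  obtain ⟨p1, p2⟩ := p
  rcases hz p1 with rfl | rfl <;> rcases hz p2 with rfl | rfl
  · rfl
  · exact absurd h (by simpa [line] using h1)
  · exact absurd h (by simpa [line] using hne)
  · refine absurd ?_ hne
    have h2 : ρ k e = e := (eq_of_add R (by simpa [line] using h)).symm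
    exact moved_fixed R he h2

theorem line_fixed {k l : L} {e : U} (hkl : k * l = l * k) (h : ρ k e = e) (p : F4) :
    ρ k (line ρ l e p) = line ρ l e p := by
  rw [R.map_line hkl, h]

theorem xp_add (j : Fin 3) (u v : U) : xp ρ x j (u + v) = xp ρ x j u + xp ρ x j v := by
  fin_cases j <;> simp [xp, R.add]

theorem xp_comm {l : L} (hl : l * x = x * l) (j : Fin 3) (v : U) :
    ρ l (xp ρ x j v) = xp ρ x j (ρ l v) := by
  have h : ∀ w, ρ l (ρ x w) = ρ x (ρ l w) := fun w => by rw [← R.mul, hl, R.mul]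
  fin_cases j <;> simp [xp, h]

theorem xp_line {e : U} (he : Moved ρ x e) (j : Fin 3) :
    xp ρ x j e = line ρ x e (wpow j (1, 0)) := by
  fin_cases j
  · simp [xp, wpow, line]
  · simp [xp, wpow, wmul, line]
  · simp [xp, wpow, wmul, line, moved_sq R he]

end

section
include R S

theorem x_three : x * (x * x) = 1 := by rw [← mul_assoc]; exact S.x_cube

theorem comm_x' (σ : Asix) : ι σ * x = x * ι σ := (S.comm σ).symm

theorem iota_three {σ : Asix} (h : σ * (σ * σ) = 1) : ι σ * (ι σ * ι σ) = 1 := by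
  rw [← map_mul, ← map_mul, h, map_one]

theorem iota_mul (σ τ : Asix) (v : U) : ρ (ι σ) (ρ (ι τ) v) = ρ (ι (σ * τ)) v := by
  rw [map_mul, R.mul]

theorem iota_comm {σ τ : Asix} (h : σ * τ = τ * σ) : ι σ * ι τ = ι τ * ι σ := by
  rw [← map_mul, h, map_mul]

theorem moved_xp {v : U} (hv : Moved ρ x v) (j : Fin 3) : Moved ρ x (xp ρ x j v) := by
  fin_cases j
  · exact hv
  · exact moved_map R rfl hv
  · exact moved_map R rfl (moved_map R rfl hv)

theorem proj_moved {k : L} (hk : k * x = x * k) (j : Fin 3) {v : U} (hv : Moved ρ x v) :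
    Moved ρ x (proj ρ x k j v) :=
  moved_add R (moved_add R hv (moved_xp R S (moved_map R hk hv) _))
    (moved_xp R S (moved_map R hk (moved_map R hk hv)) _)

theorem proj_eigen {k : L} (hk : k * x = x * k) (hk3 : k * (k * k) = 1) (j : Fin 3) (v : U) :
    ρ k (proj ρ x k j v) = xp ρ x j (proj ρ x k j v) := by
  simp only [proj, R.add, xp_comm R hk, xp_add R, cube_apply R hk3]
  fin_cases j <;>
    simp only [Fin.zero_eta, Fin.mk_one, Fin.reduceFinMk, neg_zero, add_zero,
      show -(1 : Fin 3) = 2 from rfl, show -(2 : Fin 3) = 1 from rfl,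
      show (2 : Fin 3) + 2 = 1 from rfl, show (1 : Fin 3) + 1 = 2 from rfl, xp,
      cube_apply R (x_three R S)] <;> abel

theorem proj_comm {k l : L} (hl : l * x = x * l) (hlk : l * k = k * l) (j : Fin 3) (v : U) :
    ρ l (proj ρ x k j v) = proj ρ x k j (ρ l v) := by
  have h : ∀ w, ρ l (ρ k w) = ρ k (ρ l w) := fun w => by rw [← R.mul, hlk, R.mul]
  simp only [proj, R.add, xp_comm R hl, h]

theorem proj_xp {k : L} (hk : k * x = x * k) (i j : Fin 3) (v : U) :
    xp ρ x i (proj ρ x k j v) = proj ρ x k j (xp ρ x i v) := by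
  have hx := proj_comm R S (l := x) rfl hk.symm j
  fin_cases i <;> simp [xp, hx]

theorem proj_sum {k : L} (hk : k * x = x * k) {v : U} (hv : Moved ρ x v) :
    proj ρ x k 0 v + proj ρ x k 1 v + proj ρ x k 2 v = v := by
  have h1 : Moved ρ x (ρ k v) := moved_map R hk hv
  have h2 : Moved ρ x (ρ k (ρ k v)) := moved_map R hk h1
  unfold Moved at h1 h2
  simp only [proj, neg_zero, add_zero, show -(1 : Fin 3) = 2 from rfl, show -(2 : Fin 3) = 1 from rfl,
    show (2 : Fin 3) + 2 = 1 from rfl, show (1 : Fin 3) + 1 = 2 from rfl, xp]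
  calc _ = (v + v) + v + (ρ k v + ρ x (ρ k v) + ρ x (ρ x (ρ k v))) +
        (ρ k (ρ k v) + ρ x (ρ k (ρ k v)) + ρ x (ρ x (ρ k (ρ k v)))) := by abel
    _ = v := by rw [h1, h2, R.add_self]; abel

/-- A nonzero eigenvector in a component of a moved vector, moved if the vector is. -/
theorem exists_proj {k : L} (hk : k * x = x * k) (hk3 : k * (k * k) = 1) {v : U}
    (hv : Moved ρ x v) (hne : v ≠ 0) :
    ∃ j, proj ρ x k j v ≠ 0 ∧ (ρ k v ≠ v → j ≠ 0) := by
  by_cases hf : ρ k v = v
  · by_contra hcon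
    simp only [not_exists, not_and] at hcon
    have h : ∀ j, proj ρ x k j v = 0 := fun j => by
      by_contra hj
      exact hcon j hj fun h => absurd hf h
    have := proj_sum R S hk hv
    rw [h, h, h, add_zero, add_zero] at this
    exact hne this.symm
  · by_contra hcon
    simp only [not_exists, not_and] at hcon
    have h : ∀ j, j ≠ 0 → proj ρ x k j v = 0 := fun j hj => by
      by_contra hj'
      exact hcon j hj' fun _ => hj
    have hsum := proj_sum R S hk hv
    rw [h 1 (by decide), h 2 (by decide), add_zero, add_zero] at hsum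
    refine hf ?_
    rw [← hsum, proj_eigen R S hk hk3]
    rfl

/-- An element of `K` fixed by the first two generators of `A₆` is fixed by `A₆`. -/
theorem fixed_all (P : U → Prop) (hP : ∀ σ v, P v → P (ρ (ι σ) v))
    (ha : ∀ v, P v → ρ (ι pA) v = v) (hb : ∀ v, P v → ρ (ι pB) v = v) :
    ∀ σ v, P v → ρ (ι σ) v = v := by
  let T : Subgroup Asix :=
    { carrier := {σ | ∀ v, P v → ρ (ι σ) v = v}
      one_mem' := fun v _ => by rw [map_one, R.one]
      mul_mem' := fun {a b} h1 h2 v hv => by rw [map_mul, R.mul, h2 v hv, h1 v hv]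
      inv_mem' := fun {a} h1 v hv => R.inj (ι a) (by rw [map_inv, R.apply_inv, h1 v hv]) }
  have hsub : Subgroup.closure ({pA, pB, pC * pA * pC} : Set Asix) ≤ T := by
    rw [Subgroup.closure_le]
    rintro σ (rfl | rfl | rfl)
    · exact ha
    · exact hb
    · intro v hv
      rw [← iota_mul R S, ← iota_mul R S, ha _ (hP pC v hv), iota_mul R S, asix_rel.2.2.2.2.1,
        map_one, R.one]
  rw [gen_asix] at hsub
  exact fun σ => hsub (Subgroup.mem_top σ)

/-- An eigenvector of the elementary group of order nine. -/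
structure Eig (ρ : L → U → U) (x : L) (ι : Asix →* L) (e : U) (α β : Fin 3) : Prop where
  moved : Moved ρ x e
  ne : e ≠ 0
  eigA : ρ (ι pA) e = line ρ x e (wpow α (1, 0))
  eigB : ρ (ι pB) e = line ρ x e (wpow β (1, 0))

theorem eig_step {e : U} {α β : Fin 3} (E : Eig ρ x ι e α β) :
    Eig ρ x ι (ρ (ι pF) e) (-β) α where
  moved := moved_map R (comm_x' R S pF) E.moved
  ne h := E.ne (R.inj _ (h.trans (R.zero _).symm))
  eigA := by
    rw [iota_mul R S, asix_rel.1, ← iota_mul R S, eigen_inv R S E.moved E.eigB,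
      R.map_line (comm_x' R S pF)]
  eigB := by
    rw [iota_mul R S, asix_rel.2.1, ← iota_mul R S, E.eigA, R.map_line (comm_x' R S pF)]

theorem exists_eig {v : U} (hv : Moved ρ x v) (hm : ρ (ι pA) v ≠ v ∨ ρ (ι pB) v ≠ v) :
    ∃ e α β, Eig ρ x ι e α β ∧ (α ≠ 0 ∨ β ≠ 0) := by
  have hA := comm_x' R S pA
  have hB := comm_x' R S pB
  have hA3 := iota_three R S asix_rel.2.2.2.2.2.2.2.1
  have hB3 := iota_three R S asix_rel.2.2.2.2.2.2.2.2
  have hAB := iota_comm R S asix_rel.2.2.2.2.2.2.1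
  have hne : v ≠ 0 := by
    rintro rfl
    rcases hm with h | h <;> exact h (R.zero _)
  have mk : ∀ (k k' : L), k * x = x * k → k * (k * k) = 1 → k' * x = x * k' →
      k' * (k' * k') = 1 → k * k' = k' * k → ρ k v ≠ v →
      ∃ e i j, Moved ρ x e ∧ e ≠ 0 ∧ ρ k e = xp ρ x i e ∧ ρ k' e = xp ρ x j e ∧ i ≠ 0 := by
    intro k k' hk hk3 hk' hk'3 hkk hmv
    obtain ⟨i, hi, hi0⟩ := exists_proj R S hk hk3 hv hne
    obtain ⟨j, hj, -⟩ := exists_proj R S hk' hk'3 (proj_moved R S hk i hv) hi
    refine ⟨_, i, j, proj_moved R S hk' j (proj_moved R S hk i hv), hj, ?_,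
      proj_eigen R S hk' hk'3 j _, hi0 hmv⟩
    rw [proj_comm R S hk hkk, proj_eigen R S hk hk3, proj_xp R S hk']
  rcases hm with h | h
  · obtain ⟨e, i, j, h1, h2, h3, h4, h5⟩ := mk _ _ hA hA3 hB hB3 hAB h
    exact ⟨e, i, j, ⟨h1, h2, h3.trans (xp_line R h1 i), h4.trans (xp_line R h1 j)⟩, Or.inl h5⟩
  · obtain ⟨e, i, j, h1, h2, h3, h4, h5⟩ := mk _ _ hB hB3 hA hA3 hAB.symm h
    exact ⟨e, j, i, ⟨h1, h2, h4.trans (xp_line R h1 j), h3.trans (xp_line R h1 i)⟩, Or.inr h5⟩

theorem normalize {e : U} {α β : Fin 3} (E : Eig ρ x ι e α β) (h : α ≠ 0 ∨ β ≠ 0) :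
    ∃ o : Fin 2, ∃ e, Eig ρ x ι e (chA o 0) (chB o 0) := by
  have E1 := eig_step R S E
  have E2 := eig_step R S E1
  have E3 := eig_step R S E2
  have key : ∀ α β : Fin 3, α ≠ 0 ∨ β ≠ 0 → ∃ o : Fin 2,
      (α = chA o 0 ∧ β = chB o 0) ∨ (-β = chA o 0 ∧ α = chB o 0) ∨
      (-α = chA o 0 ∧ -β = chB o 0) ∨ (-(-β) = chA o 0 ∧ -α = chB o 0) := by decide
  obtain ⟨o, h1 | h1 | h1 | h1⟩ := key α β h <;> obtain ⟨ha, hb⟩ := h1
  · exact ⟨o, e, ha ▸ hb ▸ E⟩
  · exact ⟨o, _, ha ▸ hb ▸ E1⟩
  · exact ⟨o, _, ha ▸ hb ▸ E2⟩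
  · exact ⟨o, _, ha ▸ hb ▸ E3⟩

theorem seed_of_eig {o : Fin 2} {e : U} (E : Eig ρ x ι e (chA o 0) (chB o 0)) :
    ∃ e', Seed ρ q x ι o e' := by
  have hz : ∀ a : ZMod 2, a = 0 ∨ a = 1 := by decide
  rcases hz (q e) with h0 | h1
  swap
  · exact ⟨e, E.moved, h1, E.eigA, E.eigB⟩
  obtain ⟨u, hu⟩ := R.nondeg e E.ne
  have hx3 := x_three R S
  rw [← split_apply R x u, R.B_add] at hu
  have hperp : B (u + ρ x u + ρ x (ρ x u)) e = 0 := by
    rw [R.B_comm]; exact R.orth_fixed_moved x (fixed_part_fixed R hx3 u) E.moved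
  rw [hperp, zero_add] at hu
  generalize hu1 : ρ x u + ρ x (ρ x u) = u1 at hu
  have hm1 : Moved ρ x u1 := hu1 ▸ moved_part_moved R hx3 u
  have hA := comm_x' R S pA
  have hB := comm_x' R S pB
  have hA3 := iota_three R S asix_rel.2.2.2.2.2.2.2.1
  have hB3 := iota_three R S asix_rel.2.2.2.2.2.2.2.2
  have hAB := iota_comm R S asix_rel.2.2.2.2.2.2.1
  have pick : ∀ (k : L) (w : U), k * x = x * k → Moved ρ x w → B w e = 1 →
      ∃ j, B (proj ρ x k j w) e = 1 := by
    intro k w hk hw h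
    rw [← proj_sum R S hk hw, R.B_add, R.B_add] at h
    revert h
    rcases hz (B (proj ρ x k 0 w) e) with a | a
    · rcases hz (B (proj ρ x k 1 w) e) with b | b
      · intro h; rw [a, b, zero_add, zero_add] at h; exact ⟨2, h⟩
      · exact fun _ => ⟨1, b⟩
    · exact fun _ => ⟨0, a⟩
  obtain ⟨i, hi⟩ := pick _ _ hA hm1 hu
  obtain ⟨j, hj⟩ := pick _ _ hB (proj_moved R S hA i hm1) hi
  generalize hp : proj ρ x (ι pB) j (proj ρ x (ι pA) i u1) = p at hj
  have hpm : Moved ρ x p := hp ▸ proj_moved R S hB j (proj_moved R S hA i hm1)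
  have hpA : ρ (ι pA) p = line ρ x p (wpow i (1, 0)) := by
    rw [← xp_line R hpm, ← hp, proj_comm R S hA hAB, proj_eigen R S hA hA3, proj_xp R S hB]
  have hpB : ρ (ι pB) p = line ρ x p (wpow j (1, 0)) := by
    rw [← xp_line R hpm, ← hp, proj_eigen R S hB hB3]
  have hl : line ρ x e (1, 0) = e := by simp [line]
  have hi0 : i = chA o 0 := by
    by_contra hne
    have h := R.orth_eigen hA hpm E.moved i _ hne hpA E.eigA (1, 0)
    rw [hl, hj] at h
    exact one_ne_zero h
  have hj0 : j = chB o 0 := by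
    by_contra hne
    have h := R.orth_eigen hB hpm E.moved j _ hne hpB E.eigB (1, 0)
    rw [hl, hj] at h
    exact one_ne_zero h
  subst hi0 hj0
  rcases hz (q p) with hq | hq
  · refine ⟨p + e, moved_add R hpm E.moved, ?_, ?_, ?_⟩
    · rw [R.q_add, hq, h0, hj]; simp
    · rw [R.add, hpA, E.eigA]; simp only [line, R.add, sm_add_right]; abel
    · rw [R.add, hpB, E.eigB]; simp only [line, R.add, sm_add_right]; abel
  · exact ⟨p, hpm, hq, hpA, hpB⟩

/-- The two lines spanned in the fixed space. -/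
structure Pick (ρ : L → U → U) (ι : Asix →* L) (k k' : Asix) (e e' : U) : Prop where
  comm : k * k' = k' * k
  fixed_k : ρ (ι k) e = e
  moved_k' : Moved ρ (ι k') e
  ne : e ≠ 0
  fixed_k' : ρ (ι k') e' = e'
  moved_k : Moved ρ (ι k) e'
  ne' : e' ≠ 0

/-- A suitable pair of vectors in an invariant subgroup. -/
theorem exists_pick (P : U → Prop) (hP : ∀ σ v, P v → P (ρ (ι σ) v))
    (hadd : ∀ u v, P u → P v → P (u + v)) {w : U} {τ : Asix} (hw : P w) (hτ : ρ (ι τ) w ≠ w) :
    ∃ k k' e, Pick ρ ι k k' e (ρ (ι pF) e) ∧ P e := by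
  obtain ⟨v, hv, hva⟩ : ∃ v, P v ∧ ρ (ι pA) v ≠ v := by
    by_contra hcon
    simp only [not_exists, not_and, not_not] at hcon
    refine hτ (fixed_all R S P hP hcon ?_ τ w hw)
    intro v hv
    have h := hcon _ (hP pF v hv)
    rw [iota_mul R S, asix_rel.1, ← iota_mul R S] at h
    have h' := R.inj _ h
    rw [map_inv] at h'
    conv_lhs => rw [← h', R.apply_inv]
  have hA3 := iota_three R S asix_rel.2.2.2.2.2.2.2.1
  have hB3 := iota_three R S asix_rel.2.2.2.2.2.2.2.2
  have hAB := iota_comm R S asix_rel.2.2.2.2.2.2.1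
  generalize hm : ρ (ι pA) v + ρ (ι pA) (ρ (ι pA) v) = m
  have hmm : Moved ρ (ι pA) m := hm ▸ moved_part_moved R hA3 v
  have hmne : m ≠ 0 := by
    intro h0
    refine hva ?_
    have h := split_apply R (ι pA) v
    rw [hm, h0, add_zero] at h
    rw [← h]
    exact fixed_part_fixed R hA3 v
  have hmP : P m := hm ▸ hadd _ _ (hP _ _ hv) (hP _ _ (hP _ _ hv))
  have finish : ∀ k k' : Asix, k * k' = k' * k → pF * k = k' * pF → k * pF = pF * k' * k' →
      k' * (k' * k') = 1 → ∀ e, e ≠ 0 → P e → ρ (ι k) e = e → Moved ρ (ι k') e →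
      ∃ k k' e, Pick ρ ι k k' e (ρ (ι pF) e) ∧ P e := by
    intro k k' hc h1 h2 hk'3 e hne he hfix hmov
    refine ⟨k, k', e, ⟨hc, hfix, hmov, hne, ?_, ?_, ?_⟩, he⟩
    · rw [iota_mul R S, ← h1, ← iota_mul R S, hfix]
    · have hstep : ∀ w, ρ (ι k) (ρ (ι pF) w) = ρ (ι pF) (ρ (ι k') (ρ (ι k') w)) := fun w => by
        rw [iota_mul R S, h2, ← iota_mul R S, ← iota_mul R S]
      unfold Moved at hmov ⊢
      rw [hstep, hstep, cube_apply R (iota_three R S hk'3), ← R.add, ← R.add, add_right_comm, hmov,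
        R.zero]
    · exact fun h => hne (R.inj _ (h.trans (R.zero _).symm))
  obtain ⟨c1, c2, c3, c4, c5, c6, c7, c8⟩ := asix_conj
  by_cases hm1 : m + ρ (ι pB) m + ρ (ι pB) (ρ (ι pB) m) = 0
  · -- moved without fixed vectors by both generators
    have hmB : Moved ρ (ι pB) m := hm1
    have hsum : (m + ρ (ι (pA * pB)) m + ρ (ι (pA * pB)) (ρ (ι (pA * pB)) m)) +
        (m + ρ (ι (pA * pA * pB)) m + ρ (ι (pA * pA * pB)) (ρ (ι (pA * pA * pB)) m)) = m := by
      simp only [iota_mul R S]
      have e1 : pA * pB * (pA * pB) = pA * pA * (pB * pB) ∧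
          pA * pA * pB * (pA * pA * pB) = pA * (pB * pB) := by decide +kernel
      rw [e1.1, e1.2]
      simp only [← iota_mul R S, moved_sq R hmB, R.add]
      simp only [moved_sq R hmm]
      calc _ = (ρ (ι pA) (ρ (ι pB) m) + ρ (ι pA) (ρ (ι pB) m)) +
            (ρ (ι pA) (ρ (ι pA) (ρ (ι pB) m)) + ρ (ι pA) (ρ (ι pA) (ρ (ι pB) m))) +
            (m + m) + (ρ (ι pA) m + ρ (ι pA) m) + m := by abel
        _ = m := by simp [R.add_self]
    have hprod : ∀ w : U, Moved ρ (ι pA) w → ∀ k k' : Asix, k * k' = k' * k →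
        (k = pA * pB ∧ k' = pA * pA * pB) ∨ (k' = pA * pB ∧ k = pA * pA * pB) →
        Moved ρ (ι k') (w + ρ (ι k) w + ρ (ι k) (ρ (ι k) w)) := by
      intro w hw k k' hkk hkk'
      have e9 : ∀ k k' : Asix,
          (k = pA * pB ∧ k' = pA * pA * pB) ∨ (k' = pA * pB ∧ k = pA * pA * pB) →
          (k' * k = pB * pB) ∧ (k' * (k * k) = pA ∨ k' * (k * k) = pA * pA) ∧
          (k' * (k' * k) = pA ∨ k' * (k' * k) = pA * pA) ∧ k' * (k' * (k * k)) = pB := by
        rintro k k' (⟨rfl, rfl⟩ | ⟨rfl, rfl⟩) <;> decide +kernel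
      show _ = _
      rcases hkk' with ⟨rfl, rfl⟩ | ⟨rfl, rfl⟩
      all_goals
        simp only [R.add, iota_mul R S]
        have hwz : w + ρ (ι pA) w + ρ (ι (pA * pA)) w = 0 := by rw [← iota_mul R S]; exact hw
        have hwb : ∀ σ : Asix, σ * pA = pA * σ →
            ρ (ι σ) w + ρ (ι (pA * σ)) w + ρ (ι (pA * pA * σ)) w = 0 := by
          intro σ hσ
          have h := moved_map R (iota_comm R S hσ) hw
          unfold Moved at h
          rwa [iota_mul R S, iota_mul R S, ← mul_assoc] at h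
        have hb1 := hwb pB asix_rel.2.2.2.2.2.2.1.symm
        have hb2 := hwb (pB * pB) (by decide +kernel)
      · have e : pA * pB * (pA * pB) = pA * pA * (pB * pB) ∧
            pA * pA * pB * (pA * pB) = pB * pB ∧
            pA * pA * pB * (pA * pA * (pB * pB)) = pA ∧
            pA * pA * pB * (pA * pA * pB) = pA * (pB * pB) ∧
            pA * pA * pB * (pB * pB) = pA * pA ∧
            pA * pA * pB * pA = pB := by decide +kernel
        obtain ⟨g1, g2, g3, g4, g5, g6⟩ := e
        simp only [g1, g2, g3, g4, g5, g6]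
        calc _ = (w + ρ (ι pA) w + ρ (ι (pA * pA)) w) +
              (ρ (ι pB) w + ρ (ι (pA * pB)) w + ρ (ι (pA * pA * pB)) w) +
              (ρ (ι (pB * pB)) w + ρ (ι (pA * (pB * pB))) w + ρ (ι (pA * pA * (pB * pB))) w) := by
              abel
          _ = 0 := by rw [hwz, hb1, hb2]; simp
      · have e : pA * pA * pB * (pA * pA * pB) = pA * (pB * pB) ∧
            pA * pB * (pA * pA * pB) = pB * pB ∧
            pA * pB * (pA * (pB * pB)) = pA * pA ∧
            pA * pB * (pA * pB) = pA * pA * (pB * pB) ∧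
            pA * pB * (pB * pB) = pA ∧
            pA * pB * (pA * pA) = pB := by decide +kernel
        obtain ⟨g1, g2, g3, g4, g5, g6⟩ := e
        simp only [g1, g2, g3, g4, g5, g6]
        calc _ = (w + ρ (ι pA) w + ρ (ι (pA * pA)) w) +
              (ρ (ι pB) w + ρ (ι (pA * pB)) w + ρ (ι (pA * pA * pB)) w) +
              (ρ (ι (pB * pB)) w + ρ (ι (pA * (pB * pB))) w + ρ (ι (pA * pA * (pB * pB))) w) := by
              abel
          _ = 0 := by rw [hwz, hb1, hb2]; simp
    by_cases he1 : m + ρ (ι (pA * pB)) m + ρ (ι (pA * pB)) (ρ (ι (pA * pB)) m) = 0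
    · rw [he1, zero_add] at hsum
      -- the component fixed by the other diagonal element, translated by `F`
      have hfix := fixed_part_fixed R (iota_three R S c6) m
      have hmov := hprod m hmm _ _ c4.symm (Or.inr ⟨rfl, rfl⟩)
      rw [hsum] at hfix hmov
      have d1 : pA * pB * pF = pF * (pA * pA * pB * (pA * pA * pB)) := by
        rw [c8]; decide +kernel
      refine finish (pA * pB) (pA * pA * pB) c4 c2 c8 c6 (ρ (ι pF) m)
        (fun h => hmne (R.inj _ (h.trans (R.zero _).symm))) (hP _ _ hmP) ?_ ?_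
      · rw [iota_mul R S, d1, ← iota_mul R S, ← iota_mul R S (pA * pA * pB), hfix, hfix]
      · have d2 : pA * pA * pB * pF = pF * (pA * pB) := c2.symm
        have hs : ∀ w, ρ (ι (pA * pA * pB)) (ρ (ι pF) w) = ρ (ι pF) (ρ (ι (pA * pB)) w) := fun w => by
          rw [iota_mul R S, d2, ← iota_mul R S]
        unfold Moved at hmov ⊢
        rw [hs, hs, ← R.add, ← R.add, hmov, R.zero]
    · refine finish (pA * pB) (pA * pA * pB) c4 c2 c8 c6 _ he1
        (hadd _ _ (hadd _ _ hmP (hP _ _ hmP)) (hP _ _ (hP _ _ hmP)))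
        (fixed_part_fixed R (iota_three R S c5) m) (hprod m hmm _ _ c4 (Or.inl ⟨rfl, rfl⟩))
  · -- the part fixed by the second generator, translated by `F`
    generalize hm1' : m + ρ (ι pB) m + ρ (ι pB) (ρ (ι pB) m) = m1 at hm1
    have hm1P : P m1 := hm1' ▸ hadd _ _ (hadd _ _ hmP (hP _ _ hmP)) (hP _ _ (hP _ _ hmP))
    have hfix : ρ (ι pB) m1 = m1 := hm1' ▸ fixed_part_fixed R hB3 m
    have hmov : Moved ρ (ι pA) m1 := hm1' ▸ moved_add R (moved_add R hmm (moved_map R hAB.symm hmm))
      (moved_map R hAB.symm (moved_map R hAB.symm hmm))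
    refine finish pA pB asix_rel.2.2.2.2.2.2.1 c1 c7 asix_rel.2.2.2.2.2.2.2.2 (ρ (ι pF) m1)
      (fun h => hm1 (R.inj _ (h.trans (R.zero _).symm))) (hP _ _ hm1P) ?_ ?_
    · rw [iota_mul R S, c7, ← iota_mul R S, ← iota_mul R S, hfix, hfix]
    · have hs : ∀ w, ρ (ι pB) (ρ (ι pF) w) = ρ (ι pF) (ρ (ι pA) w) := fun w => by
        rw [iota_mul R S, ← c1, ← iota_mul R S]
      unfold Moved at hmov ⊢
      rw [hs, hs, ← R.add, ← R.add, hmov, R.zero]

/-- The map from two lines. -/
def twoLines (ρ : L → U → U) (ι : Asix →* L) (k k' : Asix) (e e' : U) (t : F4 × F4) : U :=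
  line ρ (ι k') e t.1 + line ρ (ι k) e' t.2

variable {k k' : Asix} {e e' : U}

theorem two_add (t t' : F4 × F4) :
    twoLines ρ ι k k' e e' (t + t') = twoLines ρ ι k k' e e' t + twoLines ρ ι k k' e e' t' := by
  simp only [twoLines, Prod.fst_add, Prod.snd_add, R.line_add]; abel

theorem two_orth (E : Pick ρ ι k k' e e') (p r : F4) :
    B (line ρ (ι k') e p) (line ρ (ι k) e' r) = 0 := by
  rw [R.B_comm]
  exact R.orth_fixed_moved (ι k) (line_fixed R (iota_comm R S E.comm) E.fixed_k p)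
    (R.line_mem_moved (ι k) E.moved_k r)

theorem two_injective (E : Pick ρ ι k k' e e') :
    Function.Injective (twoLines ρ ι k k' e e') := by
  intro t t' h
  have h0 : twoLines ρ ι k k' e e' (t + t') = 0 := by rw [two_add R S, h, R.add_self]
  have he := eq_of_add R h0
  have hm : Moved ρ (ι k) (line ρ (ι k) e' (t + t').2) := R.line_mem_moved (ι k) E.moved_k _
  have hf : ρ (ι k) (line ρ (ι k) e' (t + t').2) = line ρ (ι k) e' (t + t').2 := by
    rw [← he]; exact line_fixed R (iota_comm R S E.comm) E.fixed_k _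
  have h2 := moved_fixed R hm hf
  rw [h2] at he
  have key : ∀ a b : F4, a + b = 0 → a = b := by decide
  exact Prod.ext (key _ _ (line_eq_zero R E.moved_k' E.ne he))
    (key _ _ (line_eq_zero R E.moved_k E.ne' h2))

/-- Five independent pairwise orthogonal isotropic data give a too large isotropic subgroup. -/
theorem no_isotropic (n : ℕ) (hn : 16 < 2 ^ n) (v : Fin n → U)
    (hv : ∀ i j, B (v i) (v j) = 0)
    (hind : ∀ c : Fin n → ZMod 2, ∑ i, sm (c i) (v i) = 0 → c = 0) : False := by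
  let f : (Fin n → ZMod 2) →+ U :=
    { toFun := fun c => ∑ i, sm (c i) (v i)
      map_zero' := by simp
      map_add' := fun a b => by
        simp only [Pi.add_apply, sm_add_left R.add_self, Finset.sum_add_distrib] }
  have hB : ∀ (s : Finset (Fin n)) (g : Fin n → U) (u : U),
      (∀ i, B (g i) u = 0) → B (∑ i ∈ s, g i) u = 0 := by
    intro s g u hg
    induction s using Finset.induction with
    | empty => simp [R.B_zero]
    | insert a s ha ih => rw [Finset.sum_insert ha, R.B_add, hg, ih, add_zero]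
  have hiso : ∀ u ∈ f.range, ∀ w ∈ f.range, B u w = 0 := by
    rintro u ⟨a, rfl⟩ w ⟨b, rfl⟩
    show B (∑ i, sm (a i) (v i)) (f b) = 0
    refine hB _ _ _ fun i => ?_
    rw [R.B_sm, R.B_comm]
    rw [show B (f b) (v i) = 0 from
      hB Finset.univ (fun j => sm (b j) (v j)) (v i) fun j => by rw [R.B_sm, hv, mul_zero],
      mul_zero]
  have hinj : Function.Injective f := (injective_iff_map_eq_zero f).2 hind
  have h := R.isotropic_le f.range hiso
  rw [show Nat.card ↥f.range = Nat.card (Fin n → ZMod 2) from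
    (Nat.card_congr (AddMonoidHom.ofInjective hinj).toEquiv).symm] at h
  rw [Nat.card_fun] at h
  rw [Nat.card_zmod, Nat.card_eq_fintype_card, Fintype.card_fin] at h
  omega

theorem sum_five (g : Fin 5 → U) : ∑ i, g i = g 0 + g 1 + g 2 + g 3 + g 4 := by
  simp [Fin.sum_univ_succ]; abel

/-- The first line is nonsingular. -/
theorem pick_q (E : Pick ρ ι k k' e e') {κ : U} (hκ : Moved ρ x κ) (hκne : κ ≠ 0)
    (he : ρ x e = e) (he' : ρ x e' = e') (hq' : q e' = q e) : q e = 1 := by
  have hz : ∀ a : ZMod 2, a = 0 ∨ a = 1 := by decide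
  refine (hz (q e)).resolve_left fun h0 => ?_
  have hxl : ∀ σ w, ρ x (ρ (ι σ) w) = ρ (ι σ) (ρ x w) := fun σ w => by
    rw [← R.mul, S.comm, R.mul]
  have hfix : ∀ t, ρ x (twoLines ρ ι k k' e e' t) = twoLines ρ ι k k' e e' t := fun t => by
    simp only [twoLines, line, R.add, R.ρ_sm, hxl, he, he']
  have hperp : ∀ w, ρ x w = w → B κ w = 0 := fun w hw => R.orth_fixed_moved x hw hκ
  have b1 := R.B_self_x (ι k') E.moved_k'
  have b2 := R.B_self_x (ι k) E.moved_k
  rw [h0] at b1
  rw [hq', h0] at b2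
  have o1 : B e e' = 0 := by simpa [line] using two_orth R S E (1, 0) (1, 0)
  have o2 : B e (ρ (ι k) e') = 0 := by simpa [line] using two_orth R S E (1, 0) (0, 1)
  have o3 : B (ρ (ι k') e) e' = 0 := by simpa [line] using two_orth R S E (0, 1) (1, 0)
  have o4 : B (ρ (ι k') e) (ρ (ι k) e') = 0 := by simpa [line] using two_orth R S E (0, 1) (0, 1)
  refine no_isotropic R S 5 (by norm_num) ![e, ρ (ι k') e, e', ρ (ι k) e', κ] ?_ ?_
  · intro i j
    have p1 := hperp e he
    have p2 := hperp _ ((hxl k' e).trans (by rw [he]))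
    have p3 := hperp e' he'
    have p4 := hperp _ ((hxl k e').trans (by rw [he']))
    fin_cases i <;> fin_cases j <;>
      simp [R.B_self, b1, b2, o1, o2, o3, o4, p1, p2, p3, p4, R.B_comm (ρ (ι k') e) e,
        R.B_comm (ρ (ι k) e') e', R.B_comm e' e, R.B_comm (ρ (ι k) e') e,
        R.B_comm e' (ρ (ι k') e), R.B_comm (ρ (ι k) e') (ρ (ι k') e), R.B_comm e κ,
        R.B_comm e' κ, R.B_comm (ρ (ι k') e) κ, R.B_comm (ρ (ι k) e') κ]
  · intro c hc
    rw [sum_five R S] at hc
    have hc' : twoLines ρ ι k k' e e' ((c 0, c 1), (c 2, c 3)) + sm (c 4) κ = 0 := by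
      simpa [twoLines, line, add_assoc] using hc
    have h4 : c 4 = 0 := by
      refine (hz (c 4)).resolve_right fun h1 => hκne ?_
      rw [h1, sm_one] at hc'
      exact moved_fixed R hκ (by rw [← eq_of_add R hc']; exact hfix _)
    rw [h4, sm_zero, add_zero] at hc'
    have h := two_injective R S E (hc'.trans
      (show (0 : U) = twoLines ρ ι k k' e e' 0 by simp [twoLines, R.line_zero]))
    simp only [Prod.ext_iff, Prod.fst_zero, Prod.snd_zero] at h
    funext i
    fin_cases i
    · exact h.1.1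
    · exact h.1.2
    · exact h.2.1
    · exact h.2.2
    · exact h4

theorem card_le_of_pick (E : Pick ρ ι k k' e e') (P : Set U)
    (hP : ∀ t, twoLines ρ ι k k' e e' t ∈ P) : 16 ≤ P.ncard := by
  haveI : Finite U := Nat.finite_of_card_ne_zero (by rw [R.card]; norm_num)
  have h : Set.range (twoLines ρ ι k k' e e') ⊆ P := Set.range_subset_iff.2 hP
  have h1 := Set.ncard_le_ncard h (Set.toFinite _)
  have h2 : (Set.range (twoLines ρ ι k k' e e')).ncard = 16 := by
    rw [← Nat.card_coe_set_eq, Nat.card_range_of_injective (two_injective R S E)]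
    simp [Nat.card_prod, Nat.card_zmod]
  omega

end

end Decomp

open Decomp

variable {L : Type*} [Group L] {U : Type*} [AddCommGroup U] {ρ : L → U → U} {q : U → ZMod 2}
  {B : U → U → ZMod 2} {x : L} {ι : Asix →* L}

/-- A nonsingular eigenvector, or a six dimensional fixed space. -/
theorem seed_or_six [Finite L] (R : Rep ρ q B) (S : LSpec x ι) :
    (∃ o e, Seed ρ q x ι o e) ∨ Six ρ q B x ι := by
  by_cases hmv : ∃ v, Moved ρ x v ∧ (ρ (ι pA) v ≠ v ∨ ρ (ι pB) v ≠ v)
  · obtain ⟨v, hv, hm⟩ := hmv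
    obtain ⟨e, α, β, E, hne⟩ := exists_eig R S hv hm
    obtain ⟨o, e1, E1⟩ := normalize R S E hne
    obtain ⟨e2, E2⟩ := seed_of_eig R S E1
    exact Or.inl ⟨o, e2, E2⟩
  right
  simp only [not_exists, not_and, not_or, not_not] at hmv
  haveI : Finite U := Nat.finite_of_card_ne_zero (by rw [R.card]; norm_num)
  have hx3 := x_three R S
  have hxl : ∀ σ w, ρ x (ρ (ι σ) w) = ρ (ι σ) (ρ x w) := fun σ w => by
    rw [← R.mul, S.comm, R.mul]
  have hK : ∀ σ v, Moved ρ x v → ρ (ι σ) v = v :=
    fixed_all R S (Moved ρ x) (fun σ v hv => moved_map R (comm_x' R S σ) hv)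
      (fun v hv => (hmv v hv).1) (fun v hv => (hmv v hv).2)
  have hWinv : ∀ σ v, ρ x v = v → ρ x (ρ (ι σ) v) = ρ (ι σ) v := fun σ v hv => by rw [hxl, hv]
  have faith : ∀ σ : Asix, (∀ w, ρ x w = w → ρ (ι σ) w = w) → σ = 1 := by
    intro σ hσ
    refine S.injective ((R.faithful _ fun v => ?_).trans (map_one ι).symm)
    rw [← split_apply R x v, R.add, hσ _ (fixed_part_fixed R hx3 v),
      hK σ _ (moved_part_moved R hx3 v)]
  obtain ⟨w0, hw0, hτ⟩ : ∃ w, ρ x w = w ∧ ρ (ι pA) w ≠ w := by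
    by_contra hcon
    simp only [not_exists, not_and, not_not] at hcon
    exact pA_ne (faith pA hcon)
  obtain ⟨κ, hκ, hκne⟩ : ∃ κ, Moved ρ x κ ∧ κ ≠ 0 := by
    by_contra hcon
    simp only [not_exists, not_and, not_not] at hcon
    refine S.x_ne (R.faithful x fun v => ?_)
    have h := split_apply R x v
    rw [hcon _ (moved_part_moved R hx3 v), add_zero] at h
    rw [← h]
    exact fixed_part_fixed R hx3 v
  have fixadd : ∀ u v, ρ x u = u → ρ x v = v → ρ x (u + v) = u + v := fun u v hu hv => by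
    rw [R.add, hu, hv]
  obtain ⟨k, k', e, E, he⟩ := exists_pick R S (fun v => ρ x v = v) hWinv fixadd hw0 hτ
  have he' : ρ x (ρ (ι pF) e) = ρ (ι pF) e := hWinv _ _ he
  have hqe : q e = 1 := pick_q R S E hκ hκne he he' (R.isom _ _)
  have hfixT : ∀ t, ρ x (twoLines ρ ι k k' e (ρ (ι pF) e) t) =
      twoLines ρ ι k k' e (ρ (ι pF) e) t := fun t => by
    simp only [twoLines, line, R.add, R.ρ_sm, hxl, he]
  have hWge : 16 ≤ {v : U | ρ x v = v}.ncard := card_le_of_pick R S E _ hfixT
  let eKW : U ≃ {v : U // Moved ρ x v} × {v : U // ρ x v = v} :=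
    { toFun := fun v => (⟨_, moved_part_moved R hx3 v⟩, ⟨_, fixed_part_fixed R hx3 v⟩)
      invFun := fun t => t.1.1 + t.2.1
      left_inv := fun v => by
        show ρ x v + ρ x (ρ x v) + (v + ρ x v + ρ x (ρ x v)) = v
        rw [add_comm]; exact split_apply R x v
      right_inv := fun t => by
        obtain ⟨⟨a, ha⟩, ⟨b, hb⟩⟩ := t
        have h1 : ρ x a + ρ x (ρ x a) = a := by
          have := eq_of_add R (show a + (ρ x a + ρ x (ρ x a)) = 0 by rw [← add_assoc]; exact ha)
          exact this.symm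
        refine Prod.ext (Subtype.ext ?_) (Subtype.ext ?_)
        · show ρ x (a + b) + ρ x (ρ x (a + b)) = a
          calc ρ x (a + b) + ρ x (ρ x (a + b)) = (ρ x a + ρ x (ρ x a)) + (b + b) := by
                simp only [R.add, hb]; abel
            _ = a := by rw [h1, R.add_self, add_zero]
        · show a + b + ρ x (a + b) + ρ x (ρ x (a + b)) = b
          calc a + b + ρ x (a + b) + ρ x (ρ x (a + b))
              = (a + (ρ x a + ρ x (ρ x a))) + ((b + b) + b) := by simp only [R.add, hb]; abel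
            _ = b := by rw [h1, R.add_self, R.add_self, zero_add, zero_add] }
  have hprod := Nat.card_congr eKW
  rw [R.card, Nat.card_prod] at hprod
  rw [show {v : U | ρ x v = v}.ncard = Nat.card {v : U // ρ x v = v} from rfl] at hWge
  have hmod : Nat.card {v : U // Moved ρ x v} % 3 = 1 := by
    classical
    haveI : Fintype {v : U // Moved ρ x v} := Fintype.ofFinite _
    haveI : Fact (Nat.Prime 3) := ⟨Nat.prime_three⟩
    let σ : Equiv.Perm {v : U // Moved ρ x v} :=
      { toFun := fun v => ⟨ρ x v.1, moved_map R rfl v.2⟩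
        invFun := fun v => ⟨ρ x (ρ x v.1), moved_map R rfl (moved_map R rfl v.2)⟩
        left_inv := fun v => Subtype.ext (cube_apply R hx3 _)
        right_inv := fun v => Subtype.ext (cube_apply R hx3 _) }
    have hσ : σ ^ 3 ^ 1 = 1 := by
      ext v
      rw [pow_one, pow_succ, pow_succ, pow_one, Equiv.Perm.mul_apply, Equiv.Perm.mul_apply]
      exact cube_apply R hx3 _
    have h := Equiv.Perm.card_compl_support_modEq hσ
    have hs : σ.supportᶜ = {⟨0, moved_zero R x⟩} := by
      ext v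
      simp only [Finset.mem_compl, Equiv.Perm.notMem_support, Finset.mem_singleton]
      constructor
      · exact fun hv => Subtype.ext (moved_fixed R v.2 (congrArg Subtype.val hv))
      · rintro rfl; exact Subtype.ext (R.zero x)
    rw [hs, Finset.card_singleton, ← Nat.card_eq_fintype_card] at h
    exact h.symm
  have hK2 : 2 ≤ Nat.card {v : U // Moved ρ x v} :=
    Finite.one_lt_card_iff_nontrivial.2
      ⟨⟨0, moved_zero R x⟩, ⟨κ, hκ⟩, fun h => hκne (congrArg Subtype.val h).symm⟩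
  have hK4 : Nat.card {v : U // Moved ρ x v} = 4 := by
    have h16 : Nat.card {v : U // Moved ρ x v} ≤ 16 := by
      by_contra hlt
      have := Nat.mul_le_mul (show 17 ≤ Nat.card {v : U // Moved ρ x v} by omega) hWge
      omega
    by_contra hne4
    obtain ⟨hk16, hw16⟩ : Nat.card {v : U // Moved ρ x v} = 16 ∧
        Nat.card {v : U // ρ x v = v} = 16 := by
      interval_cases Nat.card {v : U // Moved ρ x v} <;> omega
    -- the two lines fill the fixed space
    let f : F4 × F4 → {v : U // ρ x v = v} := fun t => ⟨_, hfixT t⟩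
    have hf : Function.Bijective f := by
      refine (Nat.bijective_iff_injective_and_card _).2
        ⟨fun a b h => two_injective R S E (congrArg Subtype.val h), ?_⟩
      rw [hw16]; simp [Nat.card_prod, Nat.card_zmod]
    obtain ⟨g, hg⟩ : ∃ g : F4 × F4 → F4 × F4, ∀ t, twoLines ρ ι k k' e (ρ (ι pF) e) (g t) =
        ρ (ι fiveElt) (twoLines ρ ι k k' e (ρ (ι pF) e) t) := by
      choose g hg using fun t => hf.2 ⟨_, hWinv fiveElt _ (hfixT t)⟩
      exact ⟨g, fun t => congrArg Subtype.val (hg t)⟩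
    have inj := two_injective R S E
    have hqt : ∀ t, q (twoLines ρ ι k k' e (ρ (ι pF) e) t) = qT t := by
      intro t
      simp only [twoLines, R.q_add, two_orth R S E, R.q_line (ι k') E.moved_k',
        R.q_line (ι k) E.moved_k, R.isom, hqe, qT, add_zero]
    have gadd : ∀ s t, g (s + t) = g s + g t := fun s t => inj (by
      rw [two_add R S, hg, hg, hg, two_add R S, R.add])
    have gq : ∀ t, qT (g t) = qT t := fun t => by rw [← hqt, hg, R.isom, hqt]
    have g5 : ∀ t, g (g (g (g (g t)))) = t := fun t => inj (by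
      rw [hg, hg, hg, hg, hg, iota_mul R S, iota_mul R S, iota_mul R S, iota_mul R S,
        show fiveElt * fiveElt * fiveElt * fiveElt * fiveElt = 1 by decide +kernel, map_one, R.one])
    have gz : g 0 = 0 := by
      have := gadd 0 0
      rw [add_zero] at this
      exact left_eq_add.1 this
    have glin : ∀ t, linT (g ((1, 0), 0)) (g ((0, 1), 0)) (g (0, (1, 0))) (g (0, (0, 1))) t = g t := by
      intro t
      have hdec : ∀ t : F4 × F4, t = linT ((1, 0), 0) ((0, 1), 0) (0, (1, 0)) (0, (0, 1)) t := by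
        decide
      conv_rhs => rw [hdec t, linT, gadd, gadd, gadd, sm_map g gz, sm_map g gz, sm_map g gz,
        sm_map g gz]
      rfl
    obtain ⟨e1, e2, e3, e4⟩ := no_five (g ((1, 0), 0)) (by rw [gq]; rfl) (g ((0, 1), 0))
      (by rw [gq]; rfl) (by rw [← gadd, gq]; decide) (g (0, (1, 0))) (by rw [gq]; rfl)
      (by rw [← gadd, gq]; decide) (by rw [← gadd, gq]; decide) (g (0, (0, 1))) (by rw [gq]; rfl)
      (by rw [← gadd, gq]; decide) (by rw [← gadd, gq]; decide) (by rw [← gadd, gq]; decide)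
      (by simp only [glin, g5]) (by simp only [glin, g5]) (by simp only [glin, g5])
      (by simp only [glin, g5])
    have hid : ∀ t, g t = t := by
      intro t
      rw [← glin t, e1, e2, e3, e4]
      revert t
      decide
    refine fiveElt_spec.2 (faith _ fun w hw => ?_)
    obtain ⟨t, ht⟩ := hf.2 ⟨w, hw⟩
    have ht' : twoLines ρ ι k k' e (ρ (ι pF) e) t = w := congrArg Subtype.val ht
    rw [← ht', ← hg, hid]
  refine ⟨hK4, hK, ?_, ?_⟩
  · intro T hT hTinv hT8 σ u hu
    by_contra hne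
    obtain ⟨k1, k1', e1, E1, he1⟩ := exists_pick R S (fun v => v ∈ T)
      (fun τ v hv => hTinv τ v hv) (fun a b ha hb => T.add_mem ha hb) hu hne
    have hmemT : ∀ t, twoLines ρ ι k1 k1' e1 (ρ (ι pF) e1) t ∈ (T : Set U) := by
      intro t
      have hz : ∀ (a : ZMod 2) (v : U), v ∈ T → sm a v ∈ T := fun a v hv => by
        unfold sm; split_ifs
        · exact T.zero_mem
        · exact hv
      exact T.add_mem (T.add_mem (hz _ _ he1) (hz _ _ (hTinv _ _ he1)))
        (T.add_mem (hz _ _ (hTinv _ _ he1)) (hz _ _ (hTinv _ _ (hTinv _ _ he1))))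
    have := card_le_of_pick R S E1 (T : Set U) hmemT
    rw [show (T : Set U).ncard = Nat.card ↥T from rfl] at this
    omega
  · intro v t hv ht hvs hts hqv hqt hBvt
    by_contra htne
    have hperp : ∀ w, ρ x w = w → B κ w = 0 := fun w hw => R.orth_fixed_moved x hw hκ
    have hbe : ∀ w, (∀ σ, ρ (ι σ) w = w) → B e w = 0 ∧ B (ρ (ι pF) e) w = 0 := fun w hw =>
      ⟨R.orth_fixed_moved (ι k') (hw k') E.moved_k', R.orth_fixed_moved (ι k) (hw k) E.moved_k⟩
    have o1 : B e (ρ (ι pF) e) = 0 := by simpa [line] using two_orth R S E (1, 0) (1, 0)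
    refine no_isotropic R S 5 (by norm_num) ![v, t, e, ρ (ι pF) e, κ] ?_ ?_
    · intro i j
      have a1 := hbe v hvs
      have a2 := hbe t hts
      have p1 := hperp v hv
      have p2 := hperp t ht
      have p3 := hperp e he
      have p4 := hperp _ he'
      fin_cases i <;> fin_cases j <;>
        simp [R.B_self, hBvt, o1, a1.1, a1.2, a2.1, a2.2, p1, p2, p3, p4, R.B_comm t v,
          R.B_comm v e, R.B_comm v (ρ (ι pF) e), R.B_comm t e, R.B_comm t (ρ (ι pF) e),
          R.B_comm v κ, R.B_comm t κ, R.B_comm e κ, R.B_comm (ρ (ι pF) e) κ,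
          R.B_comm (ρ (ι pF) e) e]
    · intro c hc
      rw [sum_five R S] at hc
      have hz : ∀ a : ZMod 2, a = 0 ∨ a = 1 := by decide
      simp only [show ∀ a b c d f : U, (![a, b, c, d, f] 0 = a ∧ ![a, b, c, d, f] 1 = b ∧
        ![a, b, c, d, f] 2 = c ∧ ![a, b, c, d, f] 3 = d ∧ ![a, b, c, d, f] 4 = f) from
          fun a b c d f => ⟨rfl, rfl, rfl, rfl, rfl⟩] at hc
      have h4 : c 4 = 0 := by
        refine (hz (c 4)).resolve_right fun h1 => hκne ?_
        rw [h1, sm_one] at hc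
        exact moved_fixed R hκ (by
          rw [← eq_of_add R hc]
          simp only [R.add, R.ρ_sm, hv, ht, he, he'])
      rw [h4, sm_zero, add_zero] at hc
      have h3 : c 3 = 0 := by
        refine (hz (c 3)).resolve_right fun h1 => E.ne' ?_
        rw [h1, sm_one] at hc
        exact moved_fixed R E.moved_k (by
          rw [← eq_of_add R hc]
          simp only [R.add, R.ρ_sm, hvs k, hts k, E.fixed_k])
      rw [h3, sm_zero, add_zero] at hc
      have h2 : c 2 = 0 := by
        refine (hz (c 2)).resolve_right fun h1 => E.ne ?_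
        rw [h1, sm_one] at hc
        exact moved_fixed R E.moved_k' (by
          rw [← eq_of_add R hc]
          simp only [R.add, R.ρ_sm, hvs k', hts k'])
      rw [h2, sm_zero, add_zero] at hc
      have hq := congrArg q hc
      rcases hz (c 0) with h0 | h0 <;> rcases hz (c 1) with h1 | h1 <;>
        rw [h0, h1] at hc hq <;> simp [R.q_add, R.B_zero, R.B_zero', hqv, hqt, hBvt, R.q_zero] at hc hq
      · funext i
        fin_cases i <;> first | exact h0 | exact h1 | exact h2 | exact h3 | exact h4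
      · exact absurd hc htne

end CfsgLib.SmithNine70
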