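import Cfsg.Agent.SmithNine70.Structure

/-!
The contradiction: the setup admits no conjugate of `z` in `Q` other than `z`.
-/

set_option autoImplicit false
set_option synthInstance.maxSize 2000
set_option linter.unusedSectionVars false

namespace CfsgLib.SmithNine70

open Cfsg CfsgLib.LargeExtraspecial

/-- Pure or zero, outside the four-group of the partner. -/
def Sep (v : V) : Prop := (v.1 = 0 ∨ v.2 = 0 ∨ v.1 = v.2) ∧ v ≠ 0 ∧ v ≠ (w0, 0)

instance decSep (v : V) : Decidable (Sep v) := inferInstanceAs (Decidable (_ ∧ _ ∧ _))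

instance decInE (w : W) (v : V) : Decidable (InE w v) := inferInstanceAs (Decidable (_ ∧ _))

theorem first_factor_char : ∀ v : V, InE w0 v → (v.1 = 0 ∨ v.2 = 0 ∨ v.1 = v.2) →
    (v.2 = 0 ↔ ∃ f : V, InE w0 f ∧ Sep f ∧ Sep (v + f)) := by
  decide +kernel

theorem exists_zero_bw : bw w0 ((0, 0, 1, 0) : W) = 0 ∧ ((0, 0, 1, 0) : W) ≠ 0 ∧
    w0 + ((0, 0, 1, 0) : W) ≠ 0 ∧ w0 + y0 ≠ 0 := by decide +kernel

/-- The plane orthogonal to both base vectors. -/
def plane (i : Fin 4) : W := (0, 0, if i.1 % 2 = 1 then 1 else 0, if 2 ≤ i.1 then 1 else 0)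

theorem plane_perp : ∀ i, bw (plane i) w0 = 0 ∧ bw (plane i) y0 = 0 := by decide +kernel

theorem plane_inj : ∀ i j, (plane i, (0 : W)) = (plane j, 0) → i = j := by decide +kernel

theorem plane_zero : ∀ i, (plane i, (0 : W)) = (0 : V) → i = 0 := by decide +kernel

variable {G : Type*} [Group G] [Finite G] {z : G} {Q : Subgroup G} {o : Fin 2} {pr : G → V}
  {act : G → V → V} {g s : G}

namespace Setup

variable (h : Setup z Q o pr act)
include h

/-- Conjugates of `z` in `Q` are pure. -/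
theorem pure_of_om {a : G} (ha : a ∈ Q) (hne : a ≠ z) (hom : Om z a) : Pure (pr a) := by
  obtain ⟨k, hk⟩ := hom
  exact h.partner_pure ⟨hk, ha, hne⟩

/-- An element interchanging `z` and the partner. -/
theorem exists_swap (P : Partner z Q g s) :
    ∃ k : G, k * z * k⁻¹ = s ∧ k * s * k⁻¹ = z := by
  have hzU : z ∈ Q.map (MulAut.conj g).toMonoidHom := (P.z_mem_E h.hyp).2
  rw [mem_conj_iff] at hzU
  have hne : g⁻¹ * z * g ≠ z := fun e => P.ne (by
    rw [← P.conj]
    nth_rw 1 [← e]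
    group)
  have P' : Partner z Q g⁻¹ (g⁻¹ * z * g) := ⟨by rw [inv_inv], hzU, hne⟩
  obtain ⟨c1, hc1, e1⟩ := h.exists_move (h.partner_pure P')
  obtain ⟨c2, hc2, e2⟩ := h.exists_move (h.partner_pure P)
  have e : act (c2 * c1⁻¹) (pr (g⁻¹ * z * g)) = pr s := by
    rw [h.act_mul hc2 (comm_inv hc1), Function.comp_apply, ← e1, h.act_inv_left hc1, e2]
  obtain ⟨c, hc, ec⟩ := h.exists_conj_eq hzU P.mem (comm_mul hc2 (comm_inv hc1)) (h.pr_s_ne P) e
  refine ⟨g * c⁻¹, ?_, ?_⟩
  · rw [← P.conj]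
    calc g * c⁻¹ * z * (g * c⁻¹)⁻¹ = g * (c⁻¹ * z * c) * g⁻¹ := by group
      _ = g * z * g⁻¹ := by rw [mul_assoc c⁻¹, ← hc]; group
  · calc g * c⁻¹ * s * (g * c⁻¹)⁻¹ = g * (c⁻¹ * s * c) * g⁻¹ := by group
      _ = z := by rw [← ec]; group

theorem false_of_partner (P₀ : Partner z Q g s) : False := by
  classical
  obtain ⟨c, hc, ec⟩ := h.exists_move (h.partner_pure P₀)
  have P' := P₀.moved c⁻¹ (comm_inv hc) h.hyp
  have hs : pr (c⁻¹ * s * c⁻¹⁻¹) = (w0, 0) := by
    rw [h.act_pr c⁻¹ (comm_inv hc) s P₀.mem, ← ec, h.act_inv_left hc]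
  clear ec hc P₀
  revert P' hs
  generalize c⁻¹ * s * c⁻¹⁻¹ = s
  generalize c⁻¹ * g = g
  intro P hs
  have hInE : ∀ a ∈ Q, (InQ z Q s a ↔ InE w0 (pr a)) := fun a ha => h.inQ_iff_inE P hs ha
  have hE : ∀ a, a ∈ P.E ↔ a ∈ Q ∧ InE w0 (pr a) := fun a => by
    rw [P.mem_E h.hyp]
    exact and_congr_right fun ha => hInE a ha
  have hsz : s * z = z * s := h.hyp.commute_z P.mem
  obtain ⟨k, hkz, hks⟩ := h.exists_swap P
  have hkE : ∀ e ∈ P.E, k * e * k⁻¹ ∈ P.E := by
    intro e he
    rw [P.mem_E h.hyp] at he ⊢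
    refine ⟨h.hyp.inQ_z.1 ?_, ?_⟩
    · have := he.2.conj k; rwa [hks] at this
    · have := (h.hyp.inQ_z.2 he.1).conj k; rwa [hkz] at this
  -- the marked conjugates
  have hom : ∀ a ∈ Q, (Om z a ∨ a = 1 ↔ ((pr a).1 = 0 ∨ (pr a).2 = 0 ∨ (pr a).1 = (pr a).2)) := by
    intro a ha
    by_cases h0 : pr a = 0
    · rcases (h.pr_zero a ha).1 h0 with rfl | rfl
      · exact iff_of_true (Or.inr rfl) (Or.inl (by rw [h0]; rfl))
      · exact iff_of_true (Or.inl ⟨1, by simp⟩) (Or.inl (by rw [h0]; rfl))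
    · refine ⟨fun hh => ?_, fun hp => Or.inl (h.pure_om P ha ⟨h0, hp⟩)⟩
      rcases hh with hh | rfl
      · exact (h.pure_of_om ha (fun e => h0 (by rw [e, h.pr_z])) hh).2
      · exact absurd h.pr_one h0
  have hsep : ∀ a ∈ Q, (Sep (pr a) ↔ (Om z a ∨ a = 1) ∧ a ≠ 1 ∧ a ≠ z ∧ a ≠ s ∧ a ≠ z * s) := by
    intro a ha
    rw [Sep, ← hom a ha]
    refine and_congr_right fun _ => ⟨fun ⟨e1, e2⟩ => ⟨?_, ?_, ?_, ?_⟩, fun ⟨e1, e2, e3, e4⟩ => ⟨?_, ?_⟩⟩
    · rintro rfl; exact e1 h.pr_one
    · rintro rfl; exact e1 h.pr_z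
    · rintro rfl; exact e2 hs
    · rintro rfl; exact e2 (by rw [h.pr_z_mul P.mem, hs])
    · exact fun e => ((h.pr_zero a ha).1 e).elim e1 e2
    · exact fun e => (h.pr_congr ha P.mem (e.trans hs.symm)).elim e3 e4
  have hkfour : ∀ a, (Om z a ∨ a = 1) ∧ a ≠ 1 ∧ a ≠ z ∧ a ≠ s ∧ a ≠ z * s →
      (Om z (k * a * k⁻¹) ∨ k * a * k⁻¹ = 1) ∧ k * a * k⁻¹ ≠ 1 ∧ k * a * k⁻¹ ≠ z ∧
        k * a * k⁻¹ ≠ s ∧ k * a * k⁻¹ ≠ z * s := by
    rintro a ⟨e0, e1, e2, e3, e4⟩
    refine ⟨e0.elim (fun e => Or.inl (e.conj k)) (fun e => Or.inr (by rw [e]; group)), ?_, ?_, ?_, ?_⟩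
    · exact fun e => e1 (conj_eq_one_iff.1 e)
    · exact fun e => e3 ((MulAut.conj k).injective (e.trans hks.symm))
    · exact fun e => e2 ((MulAut.conj k).injective (e.trans hkz.symm))
    · refine fun e => e4 ((MulAut.conj k).injective (e.trans ?_))
      rw [MulAut.conj_apply, show k * (z * s) * k⁻¹ = k * z * k⁻¹ * (k * s * k⁻¹) by group, hkz, hks,
        hsz]
  -- `P = w₀⊥ ⊗ a` is invariant
  have hkP : ∀ e ∈ P.E, (pr e).2 = 0 → (pr (k * e * k⁻¹)).2 = 0 := by
    intro e he he2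
    have heQ := ((hE e).1 he).1
    have hv := ((hE e).1 he).2
    obtain ⟨fv, hfv, hs1, hs2⟩ := (first_factor_char _ hv (Or.inr (Or.inl he2))).1 he2
    obtain ⟨f, hfQ, rfl⟩ := h.pr_surj fv
    have hfE := (hE f).2 ⟨hfQ, hfv⟩
    rw [← h.pr_mul e heQ f hfQ] at hs2
    have k1 := hkfour f ((hsep f hfQ).1 hs1)
    have k2 := hkfour (e * f) ((hsep _ (Q.mul_mem heQ hfQ)).1 hs2)
    have heI := hkE e he
    have hfI := hkE f hfE
    have heQ' := ((hE _).1 heI).1
    have hfQ' := ((hE _).1 hfI).1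
    have hp : (pr (k * e * k⁻¹)).1 = 0 ∨ (pr (k * e * k⁻¹)).2 = 0 ∨
        (pr (k * e * k⁻¹)).1 = (pr (k * e * k⁻¹)).2 := by
      rw [← hom _ heQ']
      rcases (hom e heQ).2 (Or.inr (Or.inl he2)) with r | r
      · exact Or.inl (r.conj k)
      · exact Or.inr (by rw [r]; group)
    refine (first_factor_char _ ((hE _).1 heI).2 hp).2 ⟨_, ((hE _).1 hfI).2, (hsep _ hfQ').2 k1, ?_⟩
    rw [← h.pr_mul _ heQ' _ hfQ', show k * e * k⁻¹ * (k * f * k⁻¹) = k * (e * f) * k⁻¹ by group]
    refine (hsep _ ?_).2 k2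
    rw [show k * (e * f) * k⁻¹ = k * e * k⁻¹ * (k * f * k⁻¹) by group]
    exact Q.mul_mem heQ' hfQ'
  -- the third conjugate
  obtain ⟨w, hwQ, hw⟩ := h.pr_surj (y0, 0)
  have hwp : Pure (pr w) := hw ▸ pure_fst y0 y0_ne
  have hwom : Om z w := h.pure_om P hwQ hwp
  obtain ⟨gw, hgw⟩ := hwom
  have hwz : w ≠ z := fun e => y0_ne (by
    have := congrArg pr e
    rw [hw, h.pr_z] at this
    exact congrArg Prod.fst this)
  have Pw : Partner z Q gw w := ⟨hgw, hwQ, hwz⟩
  have hwom : Om z w := ⟨gw, hgw⟩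
  have hQw : ∀ a ∈ Q, (InQ z Q w a ↔ InE y0 (pr a)) := fun a ha => h.inQ_iff_inE Pw hw ha
  have hwE : w ∉ P.E := fun e => by
    have := ((hE w).1 e).2.1
    rw [hw] at this
    exact absurd this (by decide)
  have hws : w * s = s * w := h.commute_of hwQ P.mem (by rw [hw, hs]; decide)
  have hwP : ∀ e ∈ P.E, (pr e).2 = 0 → w * e = e * w := fun e he e2 =>
    h.commute_of hwQ he.1 (by rw [hw, bv, e2, bw_zero_right, bw_zero_left, add_zero])
  set u := k * w * k⁻¹ with hu
  have huom : Om z u := hwom.conj k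
  have hus : InQ z Q s u := by
    have := (h.hyp.inQ_z.2 hwQ).conj k
    rwa [hkz] at this
  have huz : u * z = z * u := by
    rw [← hks, hu]
    calc k * w * k⁻¹ * (k * s * k⁻¹) = k * (w * s) * k⁻¹ := by group
      _ = k * (s * w) * k⁻¹ := by rw [hws]
      _ = _ := by group
  have huD : u ∈ P.D := (P.mem_D h.hyp).2 ⟨hus, huz⟩
  have huQ : u ∉ Q := by
    intro e
    refine hwE ?_
    rw [P.mem_E h.hyp]
    refine ⟨hwQ, ?_⟩
    have := (h.hyp.inQ_z.2 e).conj k⁻¹
    rwa [show k⁻¹ * u * k⁻¹⁻¹ = w by rw [hu]; group,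
      show k⁻¹ * z * k⁻¹⁻¹ = s by rw [← hks]; group] at this
  have hEcard := h.card_E_eq P hs
  have hfirst : ∀ v : W, bw v w0 = 0 → ∃ e ∈ P.E, pr e = (v, 0) := fun v hv => by
    obtain ⟨e, heQ, ee⟩ := h.pr_surj (v, 0)
    exact ⟨e, (hE e).2 ⟨heQ, by rw [ee]; exact ⟨hv, Or.inl rfl⟩⟩, ee⟩
  have huP : ∀ e ∈ P.E, (pr e).2 = 0 → u * e = e * u := by
    intro e he e2
    have hkinv : k⁻¹ * e * k ∈ P.E := by
      rw [P.mem_E h.hyp] at he ⊢
      refine ⟨h.hyp.inQ_z.1 ?_, ?_⟩
      · have := he.2.conj k⁻¹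
        rwa [show k⁻¹ * s * k⁻¹⁻¹ = z by rw [← hkz]; group, inv_inv] at this
      · have := (h.hyp.inQ_z.2 he.1).conj k⁻¹
        rwa [show k⁻¹ * z * k⁻¹⁻¹ = s by rw [← hks]; group, inv_inv] at this
    have hpf : (pr (k⁻¹ * e * k)).2 = 0 := by
      set F : Set G := {x | x ∈ P.E ∧ (pr x).2 = 0} with hF
      have hmaps : Set.MapsTo (fun x => k * x * k⁻¹) F F := fun x hx => ⟨hkE x hx.1, hkP x hx.1 hx.2⟩
      have hinj : Set.InjOn (fun x => k * x * k⁻¹) F := fun a _ b _ e => (MulAut.conj k).injective e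
      obtain ⟨x, hx, ex⟩ := (((Set.toFinite F).injOn_iff_bijOn_of_mapsTo hmaps).1 hinj).surjOn
        (show e ∈ F from ⟨he, e2⟩)
      rw [← ex, show k⁻¹ * (k * x * k⁻¹) * k = x by group]
      exact hx.2
    calc u * e = k * (w * (k⁻¹ * e * k)) * k⁻¹ := by rw [hu]; group
      _ = k * ((k⁻¹ * e * k) * w) * k⁻¹ := by rw [hwP _ hkinv hpf]
      _ = e * u := by rw [hu]; group
  -- the action of `u`
  obtain ⟨a, b, c', d, σ, hdet, hσ, hact⟩ := h.good u huz
  have hfixP : ∀ v : W, bw v w0 = 0 → act u (v, 0) = (v, 0) := fun v hv => by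
    obtain ⟨e, he, ee⟩ := hfirst v hv
    rw [← ee, ← h.act_pr u huz e he.1]
    congr 1
    exact mul_inv_eq_iff_eq_mul.2 (huP e he (by rw [ee]))
  have hac : a = 1 ∧ c' = 0 := by
    have := hfixP w0 (bw_self _)
    rw [hact] at this
    simp only [tmap, hσ.zero, smul_zero, add_zero, Prod.mk.injEq] at this
    have hne : σ w0 ≠ 0 := fun e => w0_ne (hσ.injective (by rw [e, hσ.zero]))
    exact ⟨smul_cancel a 1 (σ w0) w0 hne w0_ne (by rw [this.1, one_smul]), by
      rcases z2_cases c' with e | e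
      · exact e
      · exact absurd (by simpa [e] using this.2) hne⟩
  obtain ⟨rfl, rfl⟩ := hac
  obtain rfl : d = 1 := by simpa using hdet
  have hσtw : σ = id ∨ σ = tw := hσ.eq_id_or_tw fun v hv => by
    have := hfixP v hv
    rw [hact] at this
    simpa [tmap, hσ.zero] using this
  have hb : b = 1 := by
    rcases z2_cases b with rfl | rfl
    swap
    · rfl
    exfalso
    refine huQ (P.mem_Q_of_centralizes h.hyp hEcard huD fun e he => ?_)
    obtain ⟨-, he1, he2⟩ := (hE e).1 he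
    have hσfix : σ (pr e).1 = (pr e).1 ∧ σ (pr e).2 = (pr e).2 := by
      rcases hσtw with rfl | rfl
      · exact ⟨rfl, rfl⟩
      · refine ⟨by simp [tw, he1], ?_⟩
        rcases he2 with e' | e' <;> rw [e'] <;> decide
    rcases P.comm_E h.hyp huD he with r | r
    · exact (mul_inv_eq_iff_eq_mul.1 r).symm
    · exfalso
      have := h.act_pr u huz e he.1
      rw [r, h.pr_mul _ P.mem _ he.1, hact, hs] at this
      simp only [tmap, one_smul, zero_smul, add_zero, zero_add, hσfix.1, hσfix.2] at this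
      exact w0_ne (congrArg Prod.fst (add_eq_right.1 this))
  subst hb
  rcases hσtw with rfl | rfl
  swap
  · -- the second kind: a common conjugate in the extraspecial groups of `u` and `w`
    set Fs : Subgroup G :=
      { carrier := {x | x ∈ Q ∧ bw (pr x).1 w0 = 0 ∧ (pr x).2 = 0}
        one_mem' := ⟨Q.one_mem, by rw [h.pr_one]; exact ⟨bw_zero_left _, rfl⟩⟩
        mul_mem' := fun {a b} ha hb => ⟨Q.mul_mem ha.1 hb.1, by
          rw [h.pr_mul a ha.1 b hb.1]
          exact ⟨by rw [Prod.fst_add, bw_add_left, ha.2.1, hb.2.1, add_zero],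
            by rw [Prod.snd_add, ha.2.2, hb.2.2, add_zero]⟩⟩
        inv_mem' := fun {a} ha => ⟨Q.inv_mem ha.1, by rw [h.pr_inv ha.1]; exact ha.2⟩ } with hFs
    set A : Subgroup G :=
      { carrier := {x | x ∈ Fs ∧ InQ z Q w x}
        one_mem' := ⟨Fs.one_mem, gw, hgw, by simp⟩
        mul_mem' := fun {a b} ha hb => ⟨Fs.mul_mem ha.1 hb.1, h.hyp.inQ_mul ha.2 hb.2⟩
        inv_mem' := fun {a} ha => ⟨Fs.inv_mem ha.1, h.hyp.inQ_inv ha.2⟩ } with hA
    set B : Subgroup G := A.map (MulAut.conj k).toMonoidHom with hB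
    have hAF : A ≤ Fs := fun x hx => hx.1
    have hBF : B ≤ Fs := by
      rintro _ ⟨x, ⟨⟨hxQ, hx1, hx2⟩, -⟩, rfl⟩
      have hxE := (hE x).2 ⟨hxQ, hx1, Or.inl hx2⟩
      obtain ⟨hQ', h1', -⟩ := (hE _).1 (hkE x hxE)
      exact ⟨hQ', h1', hkP x hxE hx2⟩
    have hBu : ∀ x ∈ B, InQ z Q u x := by
      rintro _ ⟨x, ⟨-, hxw⟩, rfl⟩
      exact hxw.conj k
    have hAB : A ⊓ B ≠ ⊥ := by
      intro hbot
      have hFcard : Nat.card ↥Fs ≤ 16 := by
        have := (h.image_E_card P (Finset.univ.filter fun v : V => bw v.1 w0 = 0 ∧ (v.2 = 0 ∨ v.2 = w0))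
          (fun e he => by simpa [InE] using ((hE e).1 he).2)).1
        have hsub : Fs < P.E := by
          refine lt_of_le_of_ne (fun x hx => (hE x).2 ⟨hx.1, hx.2.1, Or.inl hx.2.2⟩) fun e => ?_
          obtain ⟨x, hxQ, ex⟩ := h.pr_surj (0, w0)
          have : x ∈ Fs := e ▸ (hE x).2 ⟨hxQ, by rw [ex]; exact ⟨bw_zero_left _, Or.inr rfl⟩⟩
          have h2 := this.2.2
          rw [ex] at h2
          exact w0_ne h2
        have hd := Subgroup.card_dvd_of_le hsub.le
        rw [hEcard] at hd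
        obtain ⟨i, hi, e⟩ := (Nat.dvd_prime_pow Nat.prime_two).1 (show Nat.card ↥Fs ∣ 2 ^ 5 from hd)
        rw [e]
        have : i ≠ 5 := fun e5 => hsub.ne (Subgroup.eq_of_le_of_card_ge hsub.le
          (by rw [hEcard, e, e5]; norm_num))
        interval_cases i <;> simp_all
      have hAcard : 5 ≤ Nat.card ↥A := by
        have hpts : ∀ i : Fin 4, ∃ x ∈ A, pr x = (plane i, 0) := fun i => by
          obtain ⟨x, hxQ, ex⟩ := h.pr_surj (plane i, 0)
          refine ⟨x, ⟨⟨hxQ, ?_, ?_⟩, (hQw x hxQ).2 ?_⟩, ex⟩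
          · rw [ex]; exact (plane_perp i).1
          · rw [ex]
          · rw [ex]; exact ⟨(plane_perp i).2, Or.inl rfl⟩
        choose f hfA hfp using hpts
        let F : Fin 4 ⊕ Fin 1 → ↥A := fun i => Sum.elim (fun i => ⟨f i, hfA i⟩)
          (fun _ => ⟨z, ⟨h.z_mem, by rw [h.pr_z]; exact ⟨bw_zero_left _, rfl⟩⟩,
            h.hyp.inQ_symm (u := z) ⟨1, by simp⟩ hwom hwz.symm (h.hyp.inQ_z.2 hwQ)⟩) i
        have hinj : ∀ i j, f i = f j → i = j := fun i j e => by
          have := congrArg pr e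
          rw [hfp, hfp] at this
          exact plane_inj i j this
        have hzf : ∀ i, f i = z → i = 0 := fun i e => by
          have := congrArg pr e
          rw [hfp, h.pr_z] at this
          exact plane_zero i this
        by_cases hf0 : f 0 = z
        · let F' : Fin 4 ⊕ Fin 1 → ↥A := fun i => Sum.elim (fun i => ⟨f i, hfA i⟩)
            (fun _ => 1) i
          have : Function.Injective F' := by
            rintro (i | i) (j | j) e <;> simp only [F', Sum.elim_inl, Sum.elim_inr] at e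
            · rw [hinj i j (congrArg Subtype.val e)]
            · exfalso
              have e' : f i = 1 := congrArg Subtype.val e
              have := congrArg pr e'
              rw [hfp, h.pr_one] at this
              obtain rfl : i = 0 := plane_zero i this
              exact h.hyp.setting.z_ne_one (hf0.symm.trans e')
            · exfalso
              have e' : f j = 1 := (congrArg Subtype.val e).symm
              have := congrArg pr e'
              rw [hfp, h.pr_one] at this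
              obtain rfl : j = 0 := plane_zero j this
              exact h.hyp.setting.z_ne_one (hf0.symm.trans e')
            · exact congrArg Sum.inr (Subsingleton.elim i j)
          simpa using Nat.card_le_card_of_injective F' this
        · have : Function.Injective F := by
            rintro (i | i) (j | j) e <;> simp only [F, Sum.elim_inl, Sum.elim_inr] at e
            · rw [hinj i j (congrArg Subtype.val e)]
            · have e' : f i = z := congrArg Subtype.val e
              exact absurd (hzf i e' ▸ e') hf0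
            · have e' : f j = z := (congrArg Subtype.val e).symm
              exact absurd (hzf j e' ▸ e') hf0
            · exact congrArg Sum.inr (Subsingleton.elim i j)
          simpa using Nat.card_le_card_of_injective F this
      have hBcard : Nat.card ↥B = Nat.card ↥A :=
        Subgroup.card_map_of_injective (MulAut.conj k).injective
      let M : ↥A × ↥B → ↥Fs := fun p => ⟨(p.1 : G) * p.2, Fs.mul_mem (hAF p.1.2) (hBF p.2.2)⟩
      have hM : Function.Injective M := by
        intro p q e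
        have e' : (p.1 : G) * p.2 = q.1 * q.2 := congrArg Subtype.val e
        have hm : (q.1 : G)⁻¹ * p.1 = q.2 * (p.2 : G)⁻¹ := by
          rw [eq_mul_inv_iff_mul_eq, mul_assoc, e', inv_mul_cancel_left]
        have : (q.1 : G)⁻¹ * p.1 ∈ A ⊓ B :=
          ⟨A.mul_mem (A.inv_mem q.1.2) p.1.2, hm ▸ B.mul_mem q.2.2 (B.inv_mem p.2.2)⟩
        rw [hbot, Subgroup.mem_bot] at this
        have h1 : p.1 = q.1 := Subtype.ext (inv_mul_eq_one.1 this).symm
        refine Prod.ext h1 (Subtype.ext ?_)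
        rw [h1] at e'
        exact mul_left_cancel e'
      have := Nat.card_le_card_of_injective M hM
      rw [Nat.card_prod, hBcard] at this
      have := Nat.mul_le_mul hAcard hAcard
      omega
    obtain ⟨r, ⟨hrA, hrB⟩, hr1⟩ := (A ⊓ B).bot_or_exists_ne_one.resolve_left hAB
    obtain ⟨⟨hrQ, hr1', hr2'⟩, hrw⟩ := hrA
    have hru := hBu r hrB
    have hrz : r ≠ z := by
      rintro rfl
      exact huQ (h.hyp.inQ_z.1 (h.hyp.inQ_symm huom ⟨1, by simp⟩ (fun e => huQ (e ▸ h.z_mem)) hru))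
    have hrsz : pr r ≠ (w0, 0) := fun e => by
      have := ((hQw r hrQ).1 hrw).1
      rw [e] at this
      exact absurd this (by decide)
    have hr0 : pr r ≠ 0 := fun e => ((h.pr_zero r hrQ).1 e).elim hr1 hrz
    have hrom : Om z r := h.pure_om P hrQ ⟨hr0, Or.inr (Or.inl hr2')⟩
    have hrpure : Pure (pr r) := ⟨hr0, Or.inr (Or.inl hr2')⟩
    have hru' : InQ z Q r u := h.hyp.inQ_symm huom hrom (fun e => huQ (e ▸ hrQ)) hru
    have hrw' : InQ z Q r w := h.hyp.inQ_symm hwom hrom (fun e => by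
      have := congrArg pr e
      rw [hw] at this
      rw [← this] at hr1'
      exact absurd hr1' (by decide)) hrw
    have hpr : pr (u * w * u⁻¹ * w⁻¹) = (w0, 0) := by
      rw [h.pr_mul _ (h.conj_mem huz hwQ) _ (Q.inv_mem hwQ), h.act_pr u huz w hwQ, h.pr_inv hwQ,
        hact, hw]
      decide
    rcases h.hyp.inQ_comm hru' hrw' with e | e
    · rw [e, h.pr_one] at hpr
      exact w0_ne (congrArg Prod.fst hpr).symm
    · rw [e] at hpr
      exact hrsz hpr
  · -- the first kind
    have hactu : ∀ v : V, act u v = (v.1 + v.2, v.2) := fun v => by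
      rw [hact]; simp [tmap]
    have huu : u * u = 1 := h.hyp.om_sq huom
    have hYM : ∀ d ∈ Q, InQ z Q u d → (pr d).2 = 0 := by
      intro d hd hud
      have := h.act_pr u huz d hd
      rw [show u * d * u⁻¹ = d by rw [h.hyp.inQ_commute hud]; group, hactu] at this
      exact add_eq_left.1 (congrArg Prod.fst this).symm
    have hzY : ¬InQ z Q u z := fun e =>
      huQ (h.hyp.inQ_z.1 (h.hyp.inQ_symm huom ⟨1, by simp⟩ (fun e' => huQ (e' ▸ h.z_mem)) e))
    have hsY : InQ z Q u s :=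
      h.hyp.inQ_symm P.om huom (fun e => huQ (e ▸ P.mem)) hus
    -- conjugates of `u` in its coset
    have hconj : ∀ d ∈ Q, (u * d) * (u * d) = 1 → (pr d).2 = 0 →
        ∃ q ∈ Q, q * u * q⁻¹ = u * d ∨ q * u * q⁻¹ = u * (d * z) := by
      intro d hd hinv hd2
      obtain ⟨q, hq, eq⟩ := h.pr_surj (0, (pr d).1)
      refine ⟨q, hq, ?_⟩
      have hx : u * q * u⁻¹ * q⁻¹ ∈ Q := Q.mul_mem (h.conj_mem huz hq) (Q.inv_mem hq)
      have hpx : pr (u * q * u⁻¹ * q⁻¹) = pr d := by
        rw [h.pr_mul _ (h.conj_mem huz hq) _ (Q.inv_mem hq), h.act_pr u huz q hq, h.pr_inv hq, eq, hactu]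
        refine Prod.ext ?_ ?_
        · simp
        · simp [hd2, w_add_self]
      have hq' : q * u * q⁻¹ = u * (u * q * u⁻¹ * q⁻¹) := by
        rw [show u⁻¹ = u from inv_eq_of_mul_eq_one_right huu,
          show u * (u * q * u * q⁻¹) = (u * u) * (q * u * q⁻¹) by group, huu, one_mul]
      rw [hq']
      rcases h.pr_congr hx hd hpx with e | e
      · exact Or.inl (by rw [e])
      · exact Or.inr (by rw [e, h.hyp.commute_z hd])
    -- generators can be lifted to the centralizer of `u`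
    have hlift : ∀ i : Fin 3, ∃ c, c * z = z * c ∧ c * u * c⁻¹ = u ∧
        act c = tmap 1 0 0 1 (gen o i) := by
      intro i
      obtain ⟨c, hc, ec⟩ := h.lift_gen i
      have hcu : u⁻¹ * (c * u * c⁻¹) ∈ Q := by
        refine h.mem_Q_of_act_eq huz (comm_mul (comm_mul hc huz) (comm_inv hc)) (funext fun v => ?_)
        rw [h.act_mul (comm_mul hc huz) (comm_inv hc), h.act_mul hc huz, Function.comp_apply,
          Function.comp_apply]
        obtain ⟨v', rfl⟩ : ∃ v', v = act c v' := ⟨act c⁻¹ v, (h.act_inv_right hc v).symm⟩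
        rw [h.act_inv_left hc, hactu, hactu, ec]
        simp [tmap, (isSymp_gen o i).add]
      set d := u⁻¹ * (c * u * c⁻¹)
      have hcuc : c * u * c⁻¹ = u * d := by simp only [d]; group
      have hinv : (u * d) * (u * d) = 1 := by
        rw [← hcuc, show c * u * c⁻¹ * (c * u * c⁻¹) = c * (u * u) * c⁻¹ by group, huu]; group
      have hd2 : (pr d).2 = 0 := by
        have h1 : u * d * u⁻¹ = d⁻¹ := by
          rw [show u⁻¹ = u from inv_eq_of_mul_eq_one_right huu, eq_inv_iff_mul_eq_one]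
          simpa [mul_assoc] using hinv
        have := h.act_pr u huz d hcu
        rw [h1, h.pr_inv hcu, hactu] at this
        exact add_eq_left.1 (congrArg Prod.fst this).symm
      obtain ⟨q, hq, hq'⟩ := hconj d hcu hinv hd2
      have hqz := h.hyp.commute_z hq
      have hc' : q⁻¹ * c * z = z * (q⁻¹ * c) := comm_mul (comm_inv hqz) hc
      set c' := q⁻¹ * c
      have e1 : c' * u * c'⁻¹ = u ∨ c' * u * c'⁻¹ = u * z := by
        have e0 : c' * u * c'⁻¹ = q⁻¹ * (u * d) * q := by rw [← hcuc]; simp only [c']; group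
        rcases hq' with e | e
        · left; rw [e0, ← e]; group
        · right
          have : u * d = q * u * q⁻¹ * z := by
            rw [e, show u * (d * z) * z = u * d * (z * z) by group, h.hyp.setting.z_mul_z, mul_one]
          rw [e0, this, show q⁻¹ * (q * u * q⁻¹ * z) * q = u * q⁻¹ * (z * q) by group,
            ← h.hyp.commute_z hq]
          group
      have e2 : c' * c' * u * (c' * c')⁻¹ = u := by
        rw [show c' * c' * u * (c' * c')⁻¹ = c' * (c' * u * c'⁻¹) * c'⁻¹ by group]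
        rcases e1 with e | e
        · rw [e, e]
        · rw [e, show c' * (u * z) * c'⁻¹ = c' * u * c'⁻¹ * (c' * z * c'⁻¹) by group, e,
            mul_inv_eq_iff_eq_mul.2 hc', mul_assoc, h.hyp.setting.z_mul_z, mul_one]
      have hc2 := comm_mul hc' hc'
      refine ⟨c' * c' * (c' * c'), comm_mul hc2 hc2, ?_, ?_⟩
      · rw [show c' * c' * (c' * c') * u * (c' * c' * (c' * c'))⁻¹ =
          c' * c' * (c' * c' * u * (c' * c')⁻¹) * (c' * c')⁻¹ by group, e2, e2]
      · have hcact : act c' = tmap 1 0 0 1 (gen o i) := by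
          rw [← ec, h.act_mul (comm_inv hqz) hc, h.act_Q (Q.inv_mem hq)]; rfl
        rw [h.act_mul hc2 hc2, h.act_mul hc' hc', hcact]
        funext v
        simp [tmap, Function.comp_apply, gen_cube]
    -- so `InQ u` meets `Q` in a complement of `z` in the preimage of `W ⊗ a`
    have hwordY : ∀ l : List (Fin 3), ∃ d ∈ Q, InQ z Q u d ∧ pr d = (word o l w0, 0) := by
      intro l
      induction l with
      | nil => exact ⟨s, P.mem, hsY, hs⟩
      | cons i l ih =>
        obtain ⟨d, hd, hud, ed⟩ := ih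
        obtain ⟨c, hc, hcu, ec⟩ := hlift i
        refine ⟨c * d * c⁻¹, h.conj_mem hc hd, ?_, ?_⟩
        · have := hud.conj c; rwa [hcu] at this
        · rw [h.act_pr c hc d hd, ed, ec]
          simp [tmap, (isSymp_gen o i).zero]
          rfl
    have hcompl : ∀ d ∈ Q, (pr d).2 = 0 → (InQ z Q u d ↔ ¬InQ z Q u (d * z)) := by
      intro d hd hd2
      refine ⟨fun h1 h2 => hzY ?_, fun hn => ?_⟩
      · have := h.hyp.inQ_mul (h.hyp.inQ_inv h1) h2
        rwa [inv_mul_cancel_left] at this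
      · obtain ⟨m, hm, hum, em⟩ : ∃ m ∈ Q, InQ z Q u m ∧ pr m = pr d := by
          by_cases h0 : (pr d).1 = 0
          · refine ⟨1, Q.one_mem, ?_, ?_⟩
            · obtain ⟨gu, hgu⟩ := huom
              exact ⟨gu, hgu, by simp⟩
            · rw [h.pr_one]; exact Prod.ext h0.symm hd2.symm
          · obtain ⟨m, hm, hum, em⟩ := hwordY (wordTo o (pr d).1)
            exact ⟨m, hm, hum, em.trans (Prod.ext (word_to o _ h0) hd2.symm)⟩
        rcases h.pr_congr hm hd em with e | e
        · exact e ▸ hum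
        · rw [← h.hyp.commute_z hd] at e
          exact absurd (e ▸ hum) hn
    -- the commutator function
    set δ : G → G := fun q => u * q * u⁻¹ * q⁻¹ with hδ
    have hδQ : ∀ q ∈ Q, δ q ∈ Q := fun q hq => Q.mul_mem (h.conj_mem huz hq) (Q.inv_mem hq)
    have hδpr : ∀ q ∈ Q, pr (δ q) = ((pr q).2, 0) := fun q hq => by
      rw [hδ, h.pr_mul _ (h.conj_mem huz hq) _ (Q.inv_mem hq), h.act_pr u huz q hq, h.pr_inv hq, hactu]
      refine Prod.ext ?_ (w_add_self _)
      show (pr q).1 + (pr q).2 + (pr q).1 = (pr q).2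
      rw [add_comm (pr q).1, add_assoc, w_add_self, add_zero]
    have hδmul : ∀ q ∈ Q, ∀ q' ∈ Q, δ (q * q') = δ q * (q * δ q' * q⁻¹) := fun q _ q' _ => by
      simp only [hδ]; group
    have hMu : ∀ m ∈ Q, (pr m).2 = 0 → u * m = m * u := by
      intro m hm hm2
      by_cases hY : InQ z Q u m
      · exact h.hyp.inQ_commute hY
      · have := (hcompl (m * z) (Q.mul_mem hm h.z_mem) (by
          rw [h.hyp.commute_z hm, h.pr_z_mul hm, hm2])).2 (by
            rwa [mul_assoc, h.hyp.setting.z_mul_z, mul_one])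
        have e := h.hyp.inQ_commute this
        calc u * m = u * (m * z) * z := by rw [mul_assoc u, mul_assoc m, h.hyp.setting.z_mul_z, mul_one]
          _ = m * z * (u * z) := by rw [e]; group
          _ = m * (z * z) * u := by rw [huz]; group
          _ = m * u := by rw [h.hyp.setting.z_mul_z, mul_one]
    have hδeq : ∀ q ∈ Q, ∀ q' ∈ Q, (pr q).2 = (pr q').2 → δ q = δ q' := by
      intro q hq q' hq' e
      have hm : u * (q⁻¹ * q') = q⁻¹ * q' * u := hMu _ (Q.mul_mem (Q.inv_mem hq) hq') (by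
        rw [h.pr_mul _ (Q.inv_mem hq) _ hq', h.pr_inv hq, Prod.snd_add, e, w_add_self])
      calc δ q = u * q * (q⁻¹ * q' * u⁻¹ * (q⁻¹ * q')⁻¹) * q⁻¹ * 1 := by
            have : q⁻¹ * q' * u⁻¹ * (q⁻¹ * q')⁻¹ = u⁻¹ := by
              rw [mul_inv_eq_iff_eq_mul]
              calc q⁻¹ * q' * u⁻¹ = u⁻¹ * (u * (q⁻¹ * q')) * u⁻¹ := by group
                _ = u⁻¹ * (q⁻¹ * q') := by rw [hm]; group
            rw [this, mul_one]
        _ = δ q' := by simp only [hδ]; group
    choose lift hliftQ hliftp using fun v : W => h.pr_surj (0, v)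
    -- invariance under the generators
    have hνinv : ∀ i : Fin 3, ∀ v : W, (InQ z Q u (δ (lift v)) ↔ InQ z Q u (δ (lift (gen o i v)))) := by
      intro i v
      obtain ⟨c, hc, hcu, ec⟩ := hlift i
      have e1 : δ (lift (gen o i v)) = c * δ (lift v) * c⁻¹ := by
        rw [hδeq _ (hliftQ _) (c * lift v * c⁻¹) (h.conj_mem hc (hliftQ v))
          (by rw [h.act_pr c hc _ (hliftQ v), hliftp, hliftp, ec]; simp [tmap])]
        simp only [hδ]
        calc u * (c * lift v * c⁻¹) * u⁻¹ * (c * lift v * c⁻¹)⁻¹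
            = (c * u * c⁻¹) * (c * lift v * c⁻¹) * (c * u * c⁻¹)⁻¹ * (c * lift v * c⁻¹)⁻¹ := by
              rw [hcu]
          _ = _ := by group
      rw [e1]
      refine ⟨fun k1 => ?_, fun k1 => ?_⟩
      · have := k1.conj c; rwa [hcu] at this
      · have := k1.conj c⁻¹
        rwa [show c⁻¹ * u * c⁻¹⁻¹ = u by nth_rw 1 [← hcu]; group,
          show c⁻¹ * (c * δ (lift v) * c⁻¹) * c⁻¹⁻¹ = δ (lift v) by group] at this
    have hconst : ∀ v : W, v ≠ 0 → (InQ z Q u (δ (lift w0)) ↔ InQ z Q u (δ (lift v))) := by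
      have : ∀ l, (InQ z Q u (δ (lift w0)) ↔ InQ z Q u (δ (lift (word o l w0)))) := by
        intro l
        induction l with
        | nil => rfl
        | cons i l ih => exact ih.trans (hνinv i _)
      intro v hv
      rw [← word_to o v hv]
      exact this _
    have hadd : ∀ v v' : W, (InQ z Q u (δ (lift v)) ↔ InQ z Q u (δ (lift v'))) →
        (InQ z Q u (δ (lift (v + v'))) ↔ bw v v' = 0) := by
      intro v v' hiff
      have hq := hliftQ v
      have hq' := hliftQ v'
      have hd := hδQ _ hq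
      have hd' := hδQ _ hq'
      have hsum : InQ z Q u (δ (lift v) * δ (lift v')) := by
        by_cases h1 : InQ z Q u (δ (lift v))
        · exact h.hyp.inQ_mul h1 (hiff.1 h1)
        · have a1 := (hcompl (δ (lift v) * z) (Q.mul_mem hd h.z_mem) (by
            rw [h.hyp.commute_z hd, h.pr_z_mul hd, hδpr _ hq])).2 (by
              rwa [mul_assoc, h.hyp.setting.z_mul_z, mul_one])
          have a2 := (hcompl (δ (lift v') * z) (Q.mul_mem hd' h.z_mem) (by
            rw [h.hyp.commute_z hd', h.pr_z_mul hd', hδpr _ hq'])).2 (by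
              rw [mul_assoc, h.hyp.setting.z_mul_z, mul_one]
              exact fun k1 => h1 (hiff.2 k1))
          have := h.hyp.inQ_mul a1 a2
          rwa [show δ (lift v) * z * (δ (lift v') * z) = δ (lift v) * δ (lift v') by
            rw [h.hyp.commute_z hd', mul_assoc (δ (lift v)), ← mul_assoc z, h.hyp.setting.z_mul_z,
              one_mul]] at this
      have hb : bv (pr (lift v)) (pr (δ (lift v'))) = bw v v' := by
        rw [hliftp, hδpr _ hq', hliftp]
        simp [bv, bw_zero_left]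
      rw [hδeq _ (hliftQ _) (lift v * lift v') (Q.mul_mem hq hq')
        (by rw [h.pr_mul _ hq _ hq', Prod.snd_add, hliftp, hliftp, hliftp]), hδmul _ hq _ hq']
      rcases conj_mem_two h.hyp.setting.extraspecial h.hyp.setting.mem_iff hq hd' with e | e
      · rw [e]
        refine iff_of_true hsum ?_
        rw [← hb]
        exact h.bv_of_commute hq hd' (mul_inv_eq_iff_eq_mul.1 e)
      · rw [e]
        refine iff_of_false (fun k1 => hzY ?_) fun hb0 => ?_
        · have := h.hyp.inQ_mul (h.hyp.inQ_inv hsum) k1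
          rwa [show (δ (lift v) * δ (lift v'))⁻¹ * (δ (lift v) * (z * δ (lift v'))) =
            (δ (lift v'))⁻¹ * z * δ (lift v') by group, mul_assoc, ← h.hyp.commute_z hd',
            inv_mul_cancel_left] at this
        · have := h.commute_of hq hd' (hb.trans hb0)
          rw [this, mul_inv_cancel_right] at e
          exact h.hyp.setting.z_ne_one (mul_eq_right.1 e.symm)
    obtain ⟨hb0, hv0, hv1, hv2⟩ := exists_zero_bw
    have r1 := hadd w0 _ (hconst _ hv0)
    have r2 := hadd w0 _ (hconst _ y0_ne)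
    rw [← hconst _ hv1] at r1
    rw [← hconst _ hv2] at r2
    have := r2.1 (r1.2 hb0)
    rw [bw_w0_y0] at this
    exact one_ne_zero this

end Setup

end CfsgLib.SmithNine70
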