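import Cfsg.Agent.LargeExtraspecial.Pair

/-!
Conjugates of the central involution of an extraspecial group of order `2^9` containing its
centralizer, and the intersection of two of these extraspecial groups.
-/

set_option autoImplicit false
set_option linter.unusedSectionVars false

namespace CfsgLib.SmithNine70

open Cfsg CfsgLib.LargeExtraspecial

variable {G : Type*} [Group G]

/-- An extraspecial group of order `2^9` with the properties of a self-centralizing 2-core. -/
structure Hyp (z : G) (Q : Subgroup G) : Prop where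
  setting : Setting Q z
  card : Nat.card Q = 512

/-- The conjugates of `z`. -/
def Om (z u : G) : Prop := ∃ g : G, g * z * g⁻¹ = u

/-- Membership in the extraspecial group belonging to a conjugate of `z`. -/
def InQ (z : G) (Q : Subgroup G) (u x : G) : Prop := ∃ g : G, g * z * g⁻¹ = u ∧ g⁻¹ * x * g ∈ Q

variable {z : G} {Q : Subgroup G}

theorem Om.conj {u : G} (hu : Om z u) (c : G) : Om z (c * u * c⁻¹) := by
  obtain ⟨g, rfl⟩ := hu
  exact ⟨c * g, by group⟩

theorem InQ.conj {u x : G} (h : InQ z Q u x) (c : G) : InQ z Q (c * u * c⁻¹) (c * x * c⁻¹) := by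
  obtain ⟨g, rfl, hx⟩ := h
  refine ⟨c * g, by group, ?_⟩
  rwa [show (c * g)⁻¹ * (c * x * c⁻¹) * (c * g) = g⁻¹ * x * g by group]

namespace Hyp

variable (h : Hyp z Q)
include h

theorem commute_z {q : G} (hq : q ∈ Q) : q * z = z * q := h.setting.comm hq

theorem inQ_iff {g u x : G} (hg : g * z * g⁻¹ = u) : InQ z Q u x ↔ g⁻¹ * x * g ∈ Q := by
  refine ⟨?_, fun hx => ⟨g, hg, hx⟩⟩
  rintro ⟨k, hk, hx⟩
  have hc : g⁻¹ * k * z = z * (g⁻¹ * k) := by
    calc g⁻¹ * k * z = g⁻¹ * (k * z * k⁻¹) * k := by group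
      _ = g⁻¹ * (g * z * g⁻¹) * k := by rw [hk, hg]
      _ = z * (g⁻¹ * k) := by group
  have := (h.setting.normalized _ hc _).1 hx
  rwa [show g⁻¹ * k * (k⁻¹ * x * k) * (g⁻¹ * k)⁻¹ = g⁻¹ * x * g by group] at this

theorem inQ_z {x : G} : InQ z Q z x ↔ x ∈ Q := by
  simpa using h.inQ_iff (g := 1) (u := z) (x := x) (by simp)

theorem inQ_mul {u x y : G} (hx : InQ z Q u x) (hy : InQ z Q u y) : InQ z Q u (x * y) := by
  obtain ⟨g, hg, hx⟩ := hx
  refine ⟨g, hg, ?_⟩
  rw [h.inQ_iff hg] at hy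
  rw [show g⁻¹ * (x * y) * g = g⁻¹ * x * g * (g⁻¹ * y * g) by group]
  exact Q.mul_mem hx hy

theorem inQ_inv {u x : G} (hx : InQ z Q u x) : InQ z Q u x⁻¹ := by
  obtain ⟨g, hg, hx⟩ := hx
  refine ⟨g, hg, ?_⟩
  rw [show g⁻¹ * x⁻¹ * g = (g⁻¹ * x * g)⁻¹ by group]
  exact Q.inv_mem hx

theorem inQ_self {u : G} (hu : Om z u) : InQ z Q u u := by
  obtain ⟨g, rfl⟩ := hu
  exact ⟨g, rfl, by simpa [mul_assoc] using h.setting.z_mem⟩

theorem inQ_commute {u x : G} (hx : InQ z Q u x) : u * x = x * u := by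
  obtain ⟨g, rfl, hx⟩ := hx
  calc g * z * g⁻¹ * x = g * (z * (g⁻¹ * x * g)) * g⁻¹ := by group
    _ = g * ((g⁻¹ * x * g) * z) * g⁻¹ := by rw [h.commute_z hx]
    _ = x * (g * z * g⁻¹) := by group

theorem inQ_comm {u x y : G} (hx : InQ z Q u x) (hy : InQ z Q u y) :
    x * y * x⁻¹ * y⁻¹ = 1 ∨ x * y * x⁻¹ * y⁻¹ = u := by
  obtain ⟨g, hg, hx⟩ := hx
  rw [h.inQ_iff hg] at hy
  have key := (h.setting.mem_iff _).1 (comm_mem h.setting.extraspecial hx hy)
  have e : x * y * x⁻¹ * y⁻¹ = g * (g⁻¹ * x * g * (g⁻¹ * y * g) * (g⁻¹ * x * g)⁻¹ * (g⁻¹ * y * g)⁻¹) * g⁻¹ := by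
    group
  rw [e]
  rcases key with k | k <;> rw [k]
  · exact Or.inl (by group)
  · exact Or.inr hg

theorem sq_Q [Finite G] {x : G} (hx : x ∈ Q) : x * x = 1 ∨ x * x = z :=
  (h.setting.mem_iff _).1 (sq_mem h.setting.extraspecial hx)

theorem inQ_sq [Finite G] {u x : G} (hx : InQ z Q u x) : x * x = 1 ∨ x * x = u := by
  obtain ⟨g, hg, hx⟩ := hx
  rw [show x * x = g * ((g⁻¹ * x * g) * (g⁻¹ * x * g)) * g⁻¹ by group]
  rcases h.sq_Q hx with k | k <;> rw [k]
  · exact Or.inl (by group)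
  · exact Or.inr hg

theorem om_sq {u : G} (hu : Om z u) : u * u = 1 := by
  obtain ⟨g, rfl⟩ := hu
  calc g * z * g⁻¹ * (g * z * g⁻¹) = g * (z * z) * g⁻¹ := by group
    _ = 1 := by rw [h.setting.z_mul_z]; group

theorem om_ne_one {u : G} (hu : Om z u) : u ≠ 1 := by
  obtain ⟨g, rfl⟩ := hu
  exact fun e => h.setting.z_ne_one (conj_eq_one_iff.1 e)

/-- Two conjugates of `z` lie in each other's extraspecial group, or in neither. -/
theorem inQ_symm [Finite G] {u v : G} (hu : Om z u) (hv : Om z v) (hne : u ≠ v)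
    (huv : InQ z Q u v) : InQ z Q v u := by
  obtain ⟨g, hg⟩ := hu
  obtain ⟨k, hk⟩ := hv
  rw [h.inQ_iff hg] at huv
  have e : (g⁻¹ * k) * z * (g⁻¹ * k)⁻¹ = g⁻¹ * v * g := by rw [← hk]; group
  have hvz : g⁻¹ * v * g ≠ z := fun e' => hne (by rw [← hg, ← e']; group)
  have hm := mem_conj_of_conj_mem h.setting (by rw [h.card]; norm_num) (g⁻¹ * k)
    (e ▸ huv) (e ▸ hvz)
  rw [mem_conj_iff] at hm
  rw [h.inQ_iff hk]
  rwa [show (g⁻¹ * k)⁻¹ * z * (g⁻¹ * k) = k⁻¹ * (g * z * g⁻¹) * k by group, hg] at hm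

/-- An abelian subgroup and its centralizer in `Q`. -/
theorem card_mul_centralizer_le [Finite G] {A : Subgroup G} (hA : A ≤ Q) :
    ∀ {B : Subgroup G}, B ≤ Q →
      Nat.card ↥(A ⊓ Subgroup.centralizer (B : Set G)) * Nat.card ↥B ≤ 1024 := by
  suffices H : ∀ n, ∀ B : Subgroup G, B ≤ Q → 512 - Nat.card ↥B = n →
      Nat.card ↥(A ⊓ Subgroup.centralizer (B : Set G)) * Nat.card ↥B ≤ 1024 from
    fun {B} hB => H _ B hB rfl
  intro n
  induction n using Nat.strong_induction_on with
  | _ n ih =>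
    intro B hB hn
    by_cases hQB : Q ≤ B
    · obtain rfl := le_antisymm hB hQB
      rw [h.card]
      have hle : A ⊓ Subgroup.centralizer (B : Set G) ≤ zOf B :=
        fun a ha => h.setting.centralizer_eq ▸ ha.2
      have h2 := Subgroup.card_le_of_le hle
      rw [card_zOf h.setting.extraspecial] at h2
      calc _ ≤ 2 * 512 := Nat.mul_le_mul_right _ h2
        _ = 1024 := rfl
    · obtain ⟨x, hxQ, hxB⟩ := SetLike.not_le_iff_exists.1 hQB
      set B' := B ⊔ Subgroup.zpowers x with hB'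
      have hB'Q : B' ≤ Q := sup_le hB (Subgroup.zpowers_le.2 hxQ)
      have hlt : B < B' := lt_of_le_of_ne le_sup_left fun e =>
        hxB (e ▸ (le_sup_right : Subgroup.zpowers x ≤ B') (Subgroup.mem_zpowers x))
      have hdvd : Nat.card ↥B ∣ Nat.card ↥B' := Subgroup.card_dvd_of_le hlt.le
      have h2 : 2 * Nat.card ↥B ≤ Nat.card ↥B' := by
        obtain ⟨k, hk⟩ := hdvd
        rcases k with _ | _ | k
        · exact absurd hk (by rw [mul_zero]; exact Nat.card_pos.ne')
        · exact absurd (Subgroup.eq_of_le_of_card_ge hlt.le (by rw [hk]; simp)) hlt.ne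
        · rw [hk, mul_comm 2]
          exact Nat.mul_le_mul_left _ (by omega)
      have hcard' : Nat.card ↥B' ≤ 512 := h.card ▸ Subgroup.card_le_of_le hB'Q
      have hpos : 0 < Nat.card ↥B := Nat.card_pos
      have := ih (512 - Nat.card ↥B') (by omega) B' hB'Q rfl
      have hdrop : Nat.card ↥(A ⊓ Subgroup.centralizer (B : Set G)) ≤
          2 * Nat.card ↥(A ⊓ Subgroup.centralizer (B' : Set G)) := by
        set C0 := A ⊓ Subgroup.centralizer (B : Set G) with hC0
        set C1 := A ⊓ Subgroup.centralizer (B' : Set G) with hC1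
        have hmem : ∀ a ∈ C0, a * x = x * a → a ∈ C1 := by
          intro a ha hax
          refine ⟨ha.1, Subgroup.mem_centralizer_iff.2 fun m hm => ?_⟩
          have hle : B' ≤ Subgroup.centralizer ({a} : Set G) :=
            sup_le (fun b hb => Subgroup.mem_centralizer_singleton_iff.2
              (Subgroup.mem_centralizer_iff.1 ha.2 b hb))
              (Subgroup.zpowers_le.2 (Subgroup.mem_centralizer_singleton_iff.2 hax.symm))
          exact Subgroup.mem_centralizer_singleton_iff.1 (hle hm)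
        by_cases hall : ∀ a ∈ C0, a * x = x * a
        · have := Subgroup.card_le_of_le (fun a ha => hmem a ha (hall a ha) : C0 ≤ C1)
          omega
        · push Not at hall
          obtain ⟨b, hb, hbx⟩ := hall
          have hsub : (C0 : Set G) ⊆ (C1 : Set G) ∪ (fun a => b * a) '' (C1 : Set G) := by
            intro a ha
            by_cases hax : a * x = x * a
            · exact Or.inl (hmem a ha hax)
            · refine Or.inr ⟨b⁻¹ * a, hmem _ (C0.mul_mem (C0.inv_mem hb) ha) ?_, by simp⟩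
              have ea : a * x * a⁻¹ = z * x := ((conj_mem_two h.setting.extraspecial
                h.setting.mem_iff (hA ha.1) hxQ).resolve_left fun e => hax (mul_inv_eq_iff_eq_mul.1 e))
              have eb : b * x * b⁻¹ = z * x := ((conj_mem_two h.setting.extraspecial
                h.setting.mem_iff (hA hb.1) hxQ).resolve_left fun e => hbx (mul_inv_eq_iff_eq_mul.1 e))
              calc b⁻¹ * a * x = b⁻¹ * (a * x * a⁻¹) * a := by group
                _ = b⁻¹ * (b * x * b⁻¹) * a := by rw [ea, eb]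
                _ = x * (b⁻¹ * a) := by group
          have h3 := (Set.ncard_le_ncard hsub (Set.toFinite _)).trans (Set.ncard_union_le _ _)
          rw [Set.ncard_image_of_injective _ (mul_right_injective b)] at h3
          rw [show (C0 : Set G).ncard = Nat.card ↥C0 from rfl,
            show (C1 : Set G).ncard = Nat.card ↥C1 from rfl] at h3
          omega
      calc _ ≤ 2 * Nat.card ↥(A ⊓ Subgroup.centralizer (B' : Set G)) * Nat.card ↥B :=
            Nat.mul_le_mul_right _ hdrop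
        _ = Nat.card ↥(A ⊓ Subgroup.centralizer (B' : Set G)) * (2 * Nat.card ↥B) := by ring
        _ ≤ Nat.card ↥(A ⊓ Subgroup.centralizer (B' : Set G)) * Nat.card ↥B' :=
            Nat.mul_le_mul_left _ h2
        _ ≤ 1024 := this

/-- An abelian subgroup of `Q` has order at most `32`. -/
theorem card_abelian_le [Finite G] {A : Subgroup G} (hA : A ≤ Q)
    (hc : ∀ a ∈ A, ∀ b ∈ A, a * b = b * a) : Nat.card ↥A ≤ 32 := by
  have := h.card_mul_centralizer_le hA hA
  rw [inf_eq_left.2 fun a ha => Subgroup.mem_centralizer_iff.2 fun b hb => hc b hb a ha] at this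
  by_contra hlt
  push Not at hlt
  have := Nat.mul_le_mul (show 33 ≤ Nat.card ↥A from hlt) (show 33 ≤ Nat.card ↥A from hlt)
  omega

/-- An elementary subgroup of order `32` is its own centralizer in `Q`. -/
theorem centralizer_eq_self [Finite G] {A : Subgroup G} (hA : A ≤ Q)
    (hc : ∀ a ∈ A, ∀ b ∈ A, a * b = b * a) (hcard : Nat.card ↥A = 32) {x : G} (hx : x ∈ Q)
    (hxc : ∀ a ∈ A, a * x = x * a) : x ∈ A := by
  set B := Q ⊓ Subgroup.centralizer (A : Set G) with hB
  have hAB : A ≤ B := le_inf hA fun a ha => Subgroup.mem_centralizer_iff.2 fun b hb => hc b hb a ha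
  have := h.card_mul_centralizer_le hA (B := B) inf_le_left
  rw [inf_eq_left.2 fun a ha => Subgroup.mem_centralizer_iff.2 fun b hb =>
    (Subgroup.mem_centralizer_iff.1 hb.2 a ha).symm, hcard] at this
  have e : A = B := Subgroup.eq_of_le_of_card_ge hAB (by omega)
  rw [e]
  exact ⟨hx, Subgroup.mem_centralizer_iff.2 hxc⟩

end Hyp

/-- A conjugate `s = g z g⁻¹` of `z` in `Q`, other than `z`. -/
structure Partner (z : G) (Q : Subgroup G) (g s : G) : Prop where
  conj : g * z * g⁻¹ = s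
  mem : s ∈ Q
  ne : s ≠ z

namespace Partner

variable {g s : G} (P : Partner z Q g s)

/-- The extraspecial group of the partner. -/
abbrev U (_P : Partner z Q g s) : Subgroup G := Q.map (MulAut.conj g).toMonoidHom

/-- The intersection of the two extraspecial groups. -/
abbrev E (P : Partner z Q g s) : Subgroup G := Q ⊓ P.U

/-- The centralizer of `z` in the second group. -/
abbrev D (P : Partner z Q g s) : Subgroup G := P.U ⊓ Subgroup.centralizer ({z} : Set G)

include P

theorem om : Om z s := ⟨g, P.conj⟩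

theorem moved (c : G) (hc : c * z = z * c) (h : Hyp z Q) : Partner z Q (c * g) (c * s * c⁻¹) := by
  refine ⟨by rw [← P.conj]; group, (h.setting.normalized c hc s).1 P.mem, fun e => P.ne ?_⟩
  calc s = c⁻¹ * (c * s * c⁻¹) * c := by group
    _ = c⁻¹ * (z * c) := by rw [e]; group
    _ = z := by rw [← hc]; group

variable (h : Hyp z Q)
include h

theorem setting' : Setting P.U s := P.conj ▸ h.setting.conj g

theorem mem_U {x : G} : x ∈ P.U ↔ InQ z Q s x := by rw [mem_conj_iff, h.inQ_iff P.conj]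

theorem mem_D {x : G} : x ∈ P.D ↔ InQ z Q s x ∧ x * z = z * x := by
  rw [Subgroup.mem_inf, P.mem_U h, Subgroup.mem_centralizer_singleton_iff]

theorem mem_E {x : G} : x ∈ P.E ↔ x ∈ Q ∧ InQ z Q s x := by
  rw [Subgroup.mem_inf, P.mem_U h]

theorem E_le_D : P.E ≤ P.D := fun x hx =>
  ⟨hx.2, Subgroup.mem_centralizer_singleton_iff.2 (h.commute_z hx.1)⟩

theorem D_inf_Q : P.D ⊓ Q = P.E :=
  le_antisymm (fun _ hx => ⟨hx.2, hx.1.1⟩) (fun _ hx => ⟨P.E_le_D h hx, hx.1⟩)

theorem s_mem_E : s ∈ P.E := (P.mem_E h).2 ⟨P.mem, h.inQ_self P.om⟩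

theorem E_sq [Finite G] {e : G} (he : e ∈ P.E) : e * e = 1 := by
  rcases h.sq_Q he.1 with k | k
  · exact k
  rcases h.inQ_sq ((P.mem_E h).1 he).2 with k' | k'
  · exact k'
  · exact absurd (k'.symm.trans k) P.ne

theorem E_comm {a b : G} (ha : a ∈ P.E) (hb : b ∈ P.E) : a * b = b * a := by
  have key : a * b * a⁻¹ * b⁻¹ = 1 := by
    rcases (h.setting.mem_iff _).1 (comm_mem h.setting.extraspecial ha.1 hb.1) with k | k
    · exact k
    rcases h.inQ_comm ((P.mem_E h).1 ha).2 ((P.mem_E h).1 hb).2 with k' | k'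
    · exact k'
    · exact absurd (k'.symm.trans k) P.ne
  exact mul_inv_eq_iff_eq_mul.1 (mul_inv_eq_one.1 key)

variable [Finite G]

theorem z_mem_E : z ∈ P.E := by
  refine (P.mem_E h).2 ⟨h.setting.z_mem, ?_⟩
  exact h.inQ_symm (u := z) ⟨1, by simp⟩ P.om P.ne.symm (h.inQ_z.2 P.mem)

theorem card_E_le : Nat.card ↥P.E ≤ 32 :=
  h.card_abelian_le inf_le_left fun _ ha _ hb => P.E_comm h ha hb

theorem card_D : Nat.card ↥P.D = 256 := by
  have hU : Nat.card ↥P.U = 512 := by
    rw [Subgroup.card_map_of_injective (MulAut.conj g).injective, h.card]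
  have hzU : z ∈ P.U := (P.z_mem_E h).2
  have hzs : z ∉ zOf P.U := (P.setting' h).not_mem_zOf h.setting.z_ne_one P.ne.symm
  obtain ⟨q, hq, hqz⟩ := exists_conj_eq_mul (P.setting' h).extraspecial (P.setting' h).mem_iff hzU hzs
  have hi : (P.D.subgroupOf P.U).index = 2 := by
    refine Subgroup.index_eq_two_iff.2 ⟨⟨q, hq⟩, fun b => ?_⟩
    have hmem : ∀ {y : G}, y ∈ P.U → (y ∈ P.D ↔ y * z * y⁻¹ = z) := fun {y} hy => by
      rw [Subgroup.mem_inf, Subgroup.mem_centralizer_singleton_iff, mul_inv_eq_iff_eq_mul]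
      exact and_iff_right hy
    have hqd : ¬ q * z * q⁻¹ = z := fun e => by
      rw [hqz] at e
      exact (P.setting' h).z_ne_one (mul_eq_right.1 e)
    rw [Subgroup.mem_subgroupOf, Subgroup.mem_subgroupOf, Subgroup.coe_mul,
      hmem (P.U.mul_mem b.2 hq), hmem b.2]
    have hb := conj_mem_two (P.setting' h).extraspecial (P.setting' h).mem_iff b.2 hzU
    have e1 : (b : G) * q * z * ((b : G) * q)⁻¹ = (b : G) * (q * z * q⁻¹) * (b : G)⁻¹ := by group
    rcases hb with k | k
    · refine Or.inr ⟨k, fun e => hqd ?_⟩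
      rw [e1, hqz] at e
      have : (b : G) * (s * z) * (b : G)⁻¹ = s * z := by
        calc (b : G) * (s * z) * (b : G)⁻¹ = ((b : G) * s * (b : G)⁻¹) * ((b : G) * z * (b : G)⁻¹) := by group
          _ = s * z := by rw [k, show (b : G) * s = s * b from (P.setting' h).comm b.2]; group
      exact absurd (mul_eq_right.1 (this.symm.trans e)) (P.setting' h).z_ne_one
    · refine Or.inl ⟨?_, fun e => ?_⟩
      · rw [e1, hqz, show (b : G) * (s * z) * (b : G)⁻¹ = ((b : G) * s * (b : G)⁻¹) * ((b : G) * z * (b : G)⁻¹) by group,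
          k, show (b : G) * s = s * b from (P.setting' h).comm b.2,
          show s * (b : G) * (b : G)⁻¹ * (s * z) = (s * s) * z by group, (P.setting' h).z_mul_z, one_mul]
      · rw [k] at e
        exact (P.setting' h).z_ne_one (mul_eq_right.1 e)
  have hm := (P.D.subgroupOf P.U).card_mul_index
  rw [hi] at hm
  rw [Nat.card_congr (Subgroup.subgroupOfEquivOfLe (inf_le_left : P.D ≤ P.U)).toEquiv] at hm
  have hm2 : Nat.card ↥P.D * 2 = 512 := hm.trans hU
  omega

/-- Commutators of `D` with the centralizer of `s` in `Q` lie in `E`. -/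
theorem comm_cent {d q : G} (hd : d ∈ P.D) (hq : q ∈ Q) (hqs : q * s = s * q) :
    d * q * d⁻¹ * q⁻¹ ∈ P.E := by
  have hdz := Subgroup.mem_centralizer_singleton_iff.1 hd.2
  refine ⟨Q.mul_mem ((h.setting.normalized d hdz q).1 hq) (Q.inv_mem hq), ?_⟩
  rw [show d * q * d⁻¹ * q⁻¹ = d * (q * d⁻¹ * q⁻¹) by group]
  exact P.U.mul_mem hd.1 (((P.setting' h).normalized q hqs _).1 (P.U.inv_mem hd.1))

theorem comm_E {d e : G} (hd : d ∈ P.D) (he : e ∈ P.E) :
    d * e * d⁻¹ = e ∨ d * e * d⁻¹ = s * e :=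
  conj_mem_two (P.setting' h).extraspecial (P.setting' h).mem_iff hd.1 he.2

/-- If `E` has order `32`, only elements of `Q` in `D` centralize it. -/
theorem mem_Q_of_centralizes (hc : Nat.card ↥P.E = 32) {d : G} (hd : d ∈ P.D)
    (he : ∀ e ∈ P.E, e * d = d * e) : d ∈ Q := by
  have hP : Hyp s P.U := ⟨P.setting' h, by
    rw [Subgroup.card_map_of_injective (MulAut.conj g).injective, h.card]⟩
  exact (hP.centralizer_eq_self inf_le_right (fun _ ha _ hb => P.E_comm h ha hb) hc hd.1 he).1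

/-- Elements centralizing `z` and `s` normalize `E`. -/
theorem conj_mem_E {c e : G} (hc : c * z = z * c) (hcs : c * s = s * c) (he : e ∈ P.E) :
    c * e * c⁻¹ ∈ P.E :=
  ⟨(h.setting.normalized c hc e).1 he.1, ((P.setting' h).normalized c hcs e).1 he.2⟩

end Partner

end CfsgLib.SmithNine70
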