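import Cfsg.Agent.SmithNine70.Facts
import Cfsg.Agent.SmithNine70.Pair

/-!
The setup: coordinates on the extraspecial group modulo its centre and the action of the
centralizer of `z`, lying in the product of `GL₂(2)` with the symplectic group.
-/

set_option autoImplicit false
set_option synthInstance.maxSize 2000
set_option linter.unusedSectionVars false

namespace CfsgLib.SmithNine70

open Cfsg CfsgLib.LargeExtraspecial

variable {G : Type*} [Group G]

/-- The coordinates and the action. -/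
structure Setup (z : G) (Q : Subgroup G) (o : Fin 2) (pr : G → V) (act : G → V → V) : Prop where
  hyp : Hyp z Q
  pr_mul : ∀ a ∈ Q, ∀ b ∈ Q, pr (a * b) = pr a + pr b
  pr_zero : ∀ a ∈ Q, (pr a = 0 ↔ a = 1 ∨ a = z)
  pr_surj : ∀ v, ∃ a ∈ Q, pr a = v
  pr_sq : ∀ a ∈ Q, (qv (pr a) = 0 ↔ a * a = 1)
  act_pr : ∀ c, c * z = z * c → ∀ a ∈ Q, pr (c * a * c⁻¹) = act c (pr a)
  act_ker : ∀ c, c * z = z * c → (act c = id ↔ c ∈ Q)
  good : ∀ c, c * z = z * c → Good (act c)
  lift_x : ∃ c, c * z = z * c ∧ act c = mX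
  lift_gen : ∀ i : Fin 3, ∃ c, c * z = z * c ∧ act c = tmap 1 0 0 1 (gen o i)
  rank : ∀ R : Subgroup G, Q ≤ R → R ≤ Subgroup.centralizer ({z} : Set G) →
    (∀ a ∈ R, a * a ∈ Q) → Nat.card ↥R ≤ 8192 ∧
      (Nat.card ↥R = 8192 → ∃ r ∈ R, r ∉ Q ∧ ∃ a b c d, act r = tmap a b c d id)

theorem comm_mul {z a b : G} (ha : a * z = z * a) (hb : b * z = z * b) : a * b * z = z * (a * b) :=
  (Commute.mul_left (show Commute a z from ha) (show Commute b z from hb)).eq

theorem comm_inv {z a : G} (ha : a * z = z * a) : a⁻¹ * z = z * a⁻¹ :=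
  (Commute.inv_left (show Commute a z from ha)).eq

theorem tmap_comp {σ : W → W} (hσ : IsSymp σ) (a b c d a' b' c' d' : ZMod 2) (τ : W → W) (v : V) :
    tmap a b c d σ (tmap a' b' c' d' τ v) =
      tmap (a * a' + b * c') (a * b' + b * d') (c * a' + d * c') (c * b' + d * d') (σ ∘ τ) v := by
  simp only [tmap, Function.comp_apply, hσ.add, hσ.smul, smul_add, smul_smul, add_smul, Prod.mk.injEq]
  constructor <;> abel

theorem tmap_one (v : V) : tmap 1 0 0 1 id v = v := by simp [tmap]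

theorem tmap_eq_id {σ : W → W} (hσ : IsSymp σ) {a b c d : ZMod 2} (hdet : a * d + b * c = 1)
    (h : ∀ v, tmap a b c d σ v = v) : a = 1 ∧ b = 0 ∧ c = 0 ∧ d = 1 ∧ σ = id := by
  have h1 : ∀ u, (a • σ u, c • σ u) = ((u, 0) : V) := fun u => by
    have := h (u, 0)
    simpa [tmap, hσ.zero] using this
  have h2 : ∀ u, (b • σ u, d • σ u) = ((0, u) : V) := fun u => by
    have := h (0, u)
    simpa [tmap, hσ.zero] using this
  have hb : b = 0 := by
    rcases z2_cases b with e | e
    · exact e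
    · exact absurd (hσ.injective (by
        have := congrArg Prod.fst (h2 w0)
        rw [e, one_smul] at this
        dsimp only at this
        rw [this, hσ.zero])) w0_ne
  have hc : c = 0 := by
    rcases z2_cases c with e | e
    · exact e
    · exact absurd (hσ.injective (by
        have := congrArg Prod.snd (h1 w0)
        rw [e, one_smul] at this
        dsimp only at this
        rw [this, hσ.zero])) w0_ne
  subst hb hc
  rw [mul_zero, add_zero] at hdet
  have hdiag : ∀ a d : ZMod 2, a * d = 1 → a = 1 ∧ d = 1 := by decide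
  obtain ⟨rfl, rfl⟩ := hdiag a d hdet
  exact ⟨rfl, rfl, rfl, rfl, funext fun u => by simpa using congrArg Prod.fst (h1 u)⟩

theorem gl_det : ∀ a b c d a' b' c' d' : ZMod 2, a * d + b * c = 1 → a' * d' + b' * c' = 1 →
    (a * a' + b * c') * (c * b' + d * d') + (a * b' + b * d') * (c * a' + d * c') = 1 := by
  decide +kernel

theorem smul_cancel : ∀ a a' : ZMod 2, ∀ u u' : W, u ≠ 0 → u' ≠ 0 → a • u = a' • u' → a = a' := by
  decide +kernel

theorem tmap_scalar_eq {σ τ : W → W} (hσ : IsSymp σ) (hτ : IsSymp τ)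
    {a b c d a' b' c' d' : ZMod 2} (e : ∀ v, tmap a b c d σ v = tmap a' b' c' d' τ v) :
    a = a' ∧ b = b' ∧ c = c' ∧ d = d' := by
  have h1 := e (w0, 0)
  have h2 := e (0, w0)
  simp only [tmap, hσ.zero, hτ.zero, smul_zero, add_zero, zero_add, Prod.mk.injEq] at h1 h2
  have n1 : σ w0 ≠ 0 := fun e' => w0_ne (hσ.injective (by rw [e', hσ.zero]))
  have n2 : τ w0 ≠ 0 := fun e' => w0_ne (hτ.injective (by rw [e', hτ.zero]))
  exact ⟨smul_cancel _ _ _ _ n1 n2 h1.1, smul_cancel _ _ _ _ n1 n2 h2.1,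
    smul_cancel _ _ _ _ n1 n2 h1.2, smul_cancel _ _ _ _ n1 n2 h2.2⟩

theorem card_sup_mul_inf [Finite G] {H K : Subgroup G} (hn : H ≤ Subgroup.normalizer (K : Set G)) :
    Nat.card ↥(H ⊔ K) * Nat.card ↥(H ⊓ K) = Nat.card ↥H * Nat.card ↥K := by
  set N := Subgroup.normalizer (K : Set G) with hN
  have hKN : K ≤ N := Subgroup.le_normalizer
  haveI : (K.subgroupOf N).Normal := Subgroup.normal_in_normalizer
  have e : K.relIndex (H ⊔ K) = K.relIndex H := by
    rw [← Subgroup.relIndex_subgroupOf (sup_le hn hKN), ← Subgroup.relIndex_subgroupOf hn,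
      Subgroup.subgroupOf_sup hn hKN, Subgroup.relIndex_sup_right]
  have h1 := (K.subgroupOf (H ⊔ K)).card_mul_index
  have h2 := (K.subgroupOf H).card_mul_index
  rw [Nat.card_congr (Subgroup.subgroupOfEquivOfLe le_sup_right).toEquiv] at h1
  have h3 : Nat.card ↥(K.subgroupOf H) = Nat.card ↥(H ⊓ K) := by
    rw [← Subgroup.inf_subgroupOf_right K H]
    rw [Nat.card_congr (Subgroup.subgroupOfEquivOfLe inf_le_right).toEquiv, inf_comm]
  rw [h3] at h2
  change _ * K.relIndex _ = _ at h1 h2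
  rw [← h1, ← h2, e]; ring

namespace Setup

variable {z : G} {Q : Subgroup G} {o : Fin 2} {pr : G → V} {act : G → V → V}
  (h : Setup z Q o pr act)
include h

theorem z_mem : z ∈ Q := h.hyp.setting.z_mem

theorem pr_one : pr 1 = 0 := (h.pr_zero 1 Q.one_mem).2 (Or.inl rfl)

theorem pr_z : pr z = 0 := (h.pr_zero z h.z_mem).2 (Or.inr rfl)

theorem pr_inv {a : G} (ha : a ∈ Q) : pr a⁻¹ = pr a := by
  have := h.pr_mul a ha a⁻¹ (Q.inv_mem ha)
  rw [mul_inv_cancel, h.pr_one] at this
  calc pr a⁻¹ = pr a + pr a + pr a⁻¹ := by rw [v_add_self, zero_add]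
    _ = pr a := by rw [add_assoc, ← this, add_zero]

theorem pr_congr {a b : G} (ha : a ∈ Q) (hb : b ∈ Q) (e : pr a = pr b) : a = b ∨ a = z * b := by
  have := (h.pr_zero _ (Q.mul_mem ha (Q.inv_mem hb))).1
    (by rw [h.pr_mul _ ha _ (Q.inv_mem hb), h.pr_inv hb, e, v_add_self])
  rcases this with k | k
  · exact Or.inl (mul_inv_eq_one.1 k)
  · exact Or.inr (mul_inv_eq_iff_eq_mul.1 k)

theorem pr_z_mul {a : G} (ha : a ∈ Q) : pr (z * a) = pr a := by
  rw [h.pr_mul _ h.z_mem _ ha, h.pr_z, zero_add]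

variable [Finite G]

theorem commute_of {a b : G} (ha : a ∈ Q) (hb : b ∈ Q) (e : bv (pr a) (pr b) = 0) : a * b = b * a := by
  rcases conj_mem_two h.hyp.setting.extraspecial h.hyp.setting.mem_iff ha hb with k | k
  · exact mul_inv_eq_iff_eq_mul.1 k
  exfalso
  have hab : a * b = z * (b * a) := by
    rw [← mul_assoc, ← k]; group
  have key : a * b * (a * b) = z * ((b * b) * (a * a)) := by
    calc a * b * (a * b) = z * (b * a) * (a * b) := by rw [← hab]
      _ = z * (b * (a * a) * b) := by group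
      _ = z * ((b * b) * (a * a)) := by
        have : (a * a) * b = b * (a * a) := by
          rcases h.hyp.sq_Q ha with e1 | e1 <;> rw [e1]
          · simp
          · exact (h.hyp.commute_z hb).symm
        rw [mul_assoc b, this, ← mul_assoc b]
  have hz := h.hyp.setting.z_ne_one
  have hzz := h.hyp.setting.z_mul_z
  have hq := qv_add (pr a) (pr b)
  rw [← h.pr_mul a ha b hb, e, add_zero] at hq
  have h1 := h.pr_sq _ (Q.mul_mem ha hb)
  have h2 := h.pr_sq _ ha
  have h3 := h.pr_sq _ hb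
  rw [hq, key] at h1
  rcases h.hyp.sq_Q ha with ea | ea <;> rcases h.hyp.sq_Q hb with eb | eb <;>
    rcases z2_cases (qv (pr a)) with qa | qa <;> rcases z2_cases (qv (pr b)) with qb | qb <;>
    simp [ea, eb, qa, qb, hz, hzz, show (1 : ZMod 2) + 1 = 0 from rfl] at h1 h2 h3

theorem bv_of_commute {a b : G} (ha : a ∈ Q) (hb : b ∈ Q) (e : a * b = b * a) :
    bv (pr a) (pr b) = 0 := by
  have hq := qv_add (pr a) (pr b)
  rw [← h.pr_mul a ha b hb] at hq
  have key : a * b * (a * b) = (a * a) * (b * b) := (Commute.mul_mul_mul_comm (show Commute b a from e.symm) a b)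
  have hz := h.hyp.setting.z_ne_one
  have hzz := h.hyp.setting.z_mul_z
  have h1 := h.pr_sq _ (Q.mul_mem ha hb)
  have h2 := h.pr_sq _ ha
  have h3 := h.pr_sq _ hb
  rw [hq, key] at h1
  rcases h.hyp.sq_Q ha with ea | ea <;> rcases h.hyp.sq_Q hb with eb | eb <;>
    rcases z2_cases (qv (pr a)) with qa | qa <;> rcases z2_cases (qv (pr b)) with qb | qb <;>
    rcases z2_cases (bv (pr a) (pr b)) with qab | qab <;>
    simp [ea, eb, qa, qb, qab, hz, hzz, show (1 : ZMod 2) + 1 = 0 from rfl] at h1 h2 h3 ⊢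

theorem conj_mem {c a : G} (hc : c * z = z * c) (ha : a ∈ Q) : c * a * c⁻¹ ∈ Q :=
  (h.hyp.setting.normalized c hc a).1 ha

theorem act_mul {a b : G} (ha : a * z = z * a) (hb : b * z = z * b) :
    act (a * b) = act a ∘ act b := by
  funext v
  obtain ⟨q, hq, rfl⟩ := h.pr_surj v
  rw [Function.comp_apply, ← h.act_pr _ (comm_mul ha hb) _ hq, ← h.act_pr _ hb _ hq,
    ← h.act_pr _ ha _ (h.conj_mem hb hq)]
  congr 1
  group

theorem act_Q {a : G} (ha : a ∈ Q) : act a = id := (h.act_ker a (h.hyp.commute_z ha)).2 ha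

theorem act_inv_left {a : G} (ha : a * z = z * a) (v : V) : act a⁻¹ (act a v) = v := by
  have := h.act_mul (comm_inv ha) ha
  rw [inv_mul_cancel, h.act_Q Q.one_mem] at this
  exact (congrFun this v).symm

theorem act_inv_right {a : G} (ha : a * z = z * a) (v : V) : act a (act a⁻¹ v) = v := by
  have := h.act_mul ha (comm_inv ha)
  rw [mul_inv_cancel, h.act_Q Q.one_mem] at this
  exact (congrFun this v).symm

/-- Elements with equal action differ by an element of `Q`. -/
theorem mem_Q_of_act_eq {a b : G} (ha : a * z = z * a) (hb : b * z = z * b) (e : act a = act b) :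
    a⁻¹ * b ∈ Q := by
  rw [← h.act_ker _ (comm_mul (comm_inv ha) hb), h.act_mul (comm_inv ha) hb, ← e]
  exact funext (h.act_inv_left ha)

theorem lift_word (l : List (Fin 3)) : ∃ c, c * z = z * c ∧ act c = tmap 1 0 0 1 (word o l) := by
  induction l with
  | nil => exact ⟨1, by simp, by rw [h.act_Q Q.one_mem]; funext v; exact (tmap_one v).symm⟩
  | cons i l ih =>
    obtain ⟨c, hc, e⟩ := ih
    obtain ⟨k, hk, ek⟩ := h.lift_gen i
    refine ⟨k * c, comm_mul hk hc, ?_⟩
    rw [h.act_mul hk hc, ek, e]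
    funext v
    rw [Function.comp_apply, tmap_comp (isSymp_gen o i)]
    simp only [mul_one, mul_zero, add_zero, zero_mul, zero_add, one_mul]
    rfl

/-- The group acting is transitive on the pure vectors. -/
theorem exists_move {v : V} (hv : Pure v) : ∃ c, c * z = z * c ∧ act c (w0, 0) = v := by
  obtain ⟨w, hw, hcase⟩ := pure_w v hv
  obtain ⟨c, hc, e⟩ := h.lift_word (wordTo o w)
  have e0 : act c (w0, 0) = (w, 0) := by
    rw [e]; simp [tmap, word_to o w hw, (isSymp_word o _).zero]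
  obtain ⟨x, hx, ex⟩ := h.lift_x
  rcases hcase with rfl | rfl | rfl
  · exact ⟨c, hc, e0⟩
  · refine ⟨x * c, comm_mul hx hc, ?_⟩
    rw [h.act_mul hx hc, Function.comp_apply, e0, ex]; simp [mX]
  · refine ⟨x * (x * c), comm_mul hx (comm_mul hx hc), ?_⟩
    rw [h.act_mul hx (comm_mul hx hc), Function.comp_apply, h.act_mul hx hc, Function.comp_apply,
      e0, ex]; simp [mX]

/-- An element of `Q` off the centre is conjugate in `Q` to its translate by `z`. -/
theorem conj_z_mul {a : G} (ha : a ∈ Q) (h0 : pr a ≠ 0) : ∃ q ∈ Q, q * a * q⁻¹ = z * a :=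
  exists_conj_eq_mul h.hyp.setting.extraspecial h.hyp.setting.mem_iff ha fun hm =>
    h0 ((h.pr_zero a ha).2 ((h.hyp.setting.mem_iff a).1 hm))

/-- Elements of `Q` with the same nonzero image are conjugate in `C(z)` to each other's conjugates. -/
theorem exists_conj_eq {a b c : G} (ha : a ∈ Q) (hb : b ∈ Q) (hc : c * z = z * c) (hb0 : pr b ≠ 0)
    (e : act c (pr a) = pr b) : ∃ k, k * z = z * k ∧ k * a * k⁻¹ = b := by
  rw [← h.act_pr c hc a ha] at e
  rcases h.pr_congr (h.conj_mem hc ha) hb e with k | k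
  · exact ⟨c, hc, k⟩
  · obtain ⟨q, hq, hqb⟩ := h.conj_z_mul hb hb0
    refine ⟨q * c, comm_mul (h.hyp.commute_z hq) hc, ?_⟩
    calc q * c * a * (q * c)⁻¹ = q * (c * a * c⁻¹) * q⁻¹ := by group
      _ = q * z * b * q⁻¹ := by rw [k, mul_assoc q z b]
      _ = z * (q * b * q⁻¹) := by rw [h.hyp.commute_z hq]; group
      _ = b := by rw [hqb, ← mul_assoc, h.hyp.setting.z_mul_z, one_mul]

end Setup

end CfsgLib.SmithNine70
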