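import Cfsg.Agent.SmithNine70.Coords
import Cfsg.Agent.SmithNine70.Groups
import Cfsg.Agent.SmithNine70.Setup

/-!
A seed gives the setup: every element acts through `GL₂(2)` times the symplectic group.
-/

set_option autoImplicit false
set_option linter.unusedSectionVars false
set_option synthInstance.maxSize 2000

namespace CfsgLib.SmithNine70

/-- One nonzero coordinate. -/
def single (j : Fin 4) (μ : F4) : K4 :=
  (if j = 0 then μ else 0, if j = 1 then μ else 0, if j = 2 then μ else 0, if j = 3 then μ else 0)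

/-- The scaled coordinates. -/
def scaleK (p : F4) (k : K4) : K4 := (fmul k.1 p, fmul k.2.1 p, fmul k.2.2.1 p, fmul k.2.2.2 p)

theorem eigen_is_single : ∀ o : Fin 2, ∀ k : K4, ∀ α β : Fin 3,
    dK (chA o) k = scaleK (wpow α (1, 0)) k → dK (chB o) k = scaleK (wpow β (1, 0)) k → k ≠ 0 →
    ∃ j μ, μ ≠ 0 ∧ k = single j μ ∧ chA o j = α ∧ chB o j = β := by decide +kernel

theorem conj_is_two : ∀ o : Fin 2, ∀ j : Fin 4,
    chA o j = -chA o 0 → chB o j = -chB o 0 → j = 2 := by decide +kernel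

theorem cj_pow : ∀ i : Fin 3, cj (wpow i (1, 0)) = wpow (-i) (1, 0) := by decide

variable {L : Type*} [Group L] {U : Type*} [AddCommGroup U] {ρ : L → U → U} {q : U → ZMod 2}
  {B : U → U → ZMod 2} {x : L} {ι : Asix →* L}

namespace Seed

variable {o : Fin 2} {e : U} (E : Seed ρ q x ι o e) (R : Rep ρ q B) (S : LSpec x ι)
include E R S

/-- The action of an element of the normalizer of the chosen generators. -/
theorem special_psi {t : L} (ht : Special ι t) :
    ∃ (ε η : Bool) (j : Fin 4) (μ : F4), μ ≠ 0 ∧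
      (∀ k, ρ t (psi ρ x ι e k) = psi ρ x ι e (tK ε η j μ k)) ∧
      (t * x * t⁻¹ = x⁻¹ → (∀ σ, t * ι σ = ι σ * t) → ε = true ∧ η = false ∧ j = 2) := by
  classical
  obtain ⟨hA, hB, hF⟩ := ht
  -- the behaviour on lines
  have x_inv : ∀ v, v + ρ x v + ρ x (ρ x v) = 0 → ρ x⁻¹ v = v + ρ x v := by
    intro v hv
    apply R.inj x
    rw [R.apply_inv, R.add]
    calc v = v + (v + ρ x v + ρ x (ρ x v)) := by rw [hv, add_zero]
      _ = (v + v) + (ρ x v + ρ x (ρ x v)) := by abel
      _ = ρ x v + ρ x (ρ x v) := by rw [R.add_self, zero_add]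
  obtain ⟨ε, hε, hεline⟩ : ∃ ε : Bool, (t * x * t⁻¹ = x⁻¹ → ε = true) ∧
      ∀ v, v + ρ x v + ρ x (ρ x v) = 0 →
        (ρ t v + ρ x (ρ t v) + ρ x (ρ x (ρ t v)) = 0) ∧
        ∀ p, ρ t (line ρ x v p) = line ρ x (ρ t v) ((if ε then cj else id) p) := by
    rcases S.x_normal t with k | k
    · have hc : t * x = x * t := mul_inv_eq_iff_eq_mul.1 k
      refine ⟨false, fun k' => absurd (k.symm.trans k') (fun e' => S.x_ne ?_), fun v hv => ⟨?_, fun p => ?_⟩⟩
      · have := congrArg (fun y => x * y) e'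
        simp only [mul_inv_cancel] at this
        calc x = (x * x) * (x * x) := by rw [show x * x * (x * x) = x * x * x * x by group, S.x_cube, one_mul]
          _ = 1 := by rw [this, one_mul]
      · have hc' : ∀ w, ρ x (ρ t w) = ρ t (ρ x w) := fun w => by rw [← R.mul, ← hc, R.mul]
        rw [hc', hc', ← R.add, ← R.add, hv, R.zero]
      · rw [R.map_line hc]; rfl
    · have hc : t * x = x⁻¹ * t := mul_inv_eq_iff_eq_mul.1 k
      have hc2 : x * t = t * x⁻¹ := by
        calc x * t = x * (t * x) * x⁻¹ := by group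
          _ = t * x⁻¹ := by rw [hc]; group
      refine ⟨true, fun _ => rfl, fun v hv => ?_⟩
      have hx' : ρ x (ρ t v) = ρ t (v + ρ x v) := by rw [← R.mul, hc2, R.mul, x_inv v hv]
      have hx2 : ρ x (ρ x (ρ t v)) = ρ t (ρ x v) := by
        rw [hx', ← R.mul, hc2, R.mul]
        congr 1
        apply R.inj x
        rw [R.apply_inv]
        calc v + ρ x v = (v + ρ x v) + (v + ρ x v + ρ x (ρ x v)) := by rw [hv, add_zero]
          _ = ((v + ρ x v) + (v + ρ x v)) + ρ x (ρ x v) := by abel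
          _ = ρ x (ρ x v) := by rw [R.add_self, zero_add]
      refine ⟨?_, fun p => ?_⟩
      · rw [hx2, hx', ← R.add, ← R.add,
          show v + (v + ρ x v) + ρ x v = (v + v) + (ρ x v + ρ x v) by abel, R.add_self, R.add_self,
          add_zero, R.zero]
      · have : ρ t (ρ x v) = ρ t v + ρ x (ρ t v) := by
          rw [hx', ← R.add]
          congr 1
          calc ρ x v = (v + v) + ρ x v := by rw [R.add_self, zero_add]
            _ = _ := by abel
        simp only [line, R.add, R.ρ_sm, this, if_true, cj, sm_add_left R.add_self, sm_add_right]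
        abel
  obtain ⟨hte0, hteline⟩ := hεline e E.moved
  obtain ⟨k0, hk0⟩ := (E.psi_bijective R S).2 (ρ t e)
  have hk0ne : k0 ≠ 0 := by
    rintro rfl
    have h1 : psi ρ x ι e 0 = 0 := by simp [psi, R.line_zero]
    rw [h1, eq_comm, ← R.zero t] at hk0
    have := E.nonsingular
    rw [R.inj t hk0, R.q_zero] at this
    exact zero_ne_one this
  -- its eigenvalues
  let α : Fin 3 := if ε then -chA o 0 else chA o 0
  have hα : ρ (ι pA) (ρ t e) = line ρ x (ρ t e) (wpow α (1, 0)) := by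
    rw [← R.mul, ← hA, R.mul, E.eigA, hteline]
    cases ε
    · rfl
    · simp only [α, if_true, cj_pow]
  obtain ⟨β, hβ, hβc⟩ : ∃ β, ρ (ι pB) (ρ t e) = line ρ x (ρ t e) (wpow β (1, 0)) ∧
      ((∀ σ, t * ι σ = ι σ * t) → ε = true → β = -chB o 0) := by
    rcases hB with k | k
    · refine ⟨if ε then -chB o 0 else chB o 0, ?_, fun _ h => by rw [h]; rfl⟩
      rw [← R.mul, ← mul_inv_eq_iff_eq_mul.1 k, R.mul, E.eigB, hteline]
      cases ε
      · rfl
      · simp only [if_true, cj_pow]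
    · refine ⟨if ε then chB o 0 else -chB o 0, ?_, fun hc _ => ?_⟩
      · have hk : ι pB * t = t * ι pB⁻¹ := by
          rw [map_inv]
          calc ι pB * t = ι pB * (t * ι pB * t⁻¹) * t * (ι pB)⁻¹ := by group
            _ = t * (ι pB)⁻¹ := by rw [k]; group
        rw [← R.mul, hk, R.mul, eigen_inv R S E.moved E.eigB, hteline]
        cases ε
        · rfl
        · simp only [if_true, cj_pow, neg_neg]
      · exfalso
        rw [hc pB, mul_inv_cancel_right] at k
        have := S.injective (k.trans (map_inv ι pB).symm)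
        exact absurd this (by decide)
  have e1 : dK (chA o) k0 = scaleK (wpow α (1, 0)) k0 := E.psi_injective R S (by
    rw [← E.psi_A R S, hk0, hα, ← hk0, E.psi_line R S]; rfl)
  have e2 : dK (chB o) k0 = scaleK (wpow β (1, 0)) k0 := E.psi_injective R S (by
    rw [← E.psi_B R S, hk0, hβ, ← hk0, E.psi_line R S]; rfl)
  obtain ⟨j, μ, hμ, hsingle, hja, hjb⟩ := eigen_is_single o k0 α β e1 e2 hk0ne
  -- the direction of the cycle
  obtain ⟨η, hη, hηc⟩ : ∃ η : Bool, (∀ v, ρ t (ρ (ι pF) v) =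
      if η then ρ (ι pF⁻¹) (ρ t v) else ρ (ι pF) (ρ t v)) ∧ ((∀ σ, t * ι σ = ι σ * t) → η = false) := by
    rcases hF with k | k
    · exact ⟨false, fun v => by rw [← R.mul, mul_inv_eq_iff_eq_mul.1 k, R.mul]; rfl, fun _ => rfl⟩
    · refine ⟨true, fun v => ?_, fun hc => ?_⟩
      · rw [← R.mul, mul_inv_eq_iff_eq_mul.1 k, R.mul, map_inv]; rfl
      · exfalso
        rw [hc pF, mul_inv_cancel_right] at k
        have := S.injective (k.trans (map_inv ι pF).symm)
        exact absurd this (by decide)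
  refine ⟨ε, η, j, μ, hμ, ?_, fun hinv hc => ⟨hε hinv, hηc hc, conj_is_two o j ?_ ?_⟩⟩
  swap
  · rw [hja]; simp only [α, hε hinv, if_true]
  swap
  · rw [hjb, hβc hc (hε hinv)]
  have hFi : ∀ k : K4, ρ (ι pF⁻¹) (psi ρ x ι e k) = psi ρ x ι e (shiftK (shiftK (shiftK k))) := by
    intro k
    apply R.inj (ι pF)
    rw [map_inv, R.apply_inv, E.psi_F R S]
    rfl
  have step : ∀ v k, ρ t v = psi ρ x ι e k → ρ t (ρ (ι pF) v) =
      psi ρ x ι e (if η then shiftK (shiftK (shiftK k)) else shiftK k) := by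
    intro v k hv
    rw [hη, hv]
    cases η
    · exact E.psi_F R S k
    · exact hFi k
  have t0 : ρ t (eI ρ ι e 0) = psi ρ x ι e (single j μ) := by rw [← hsingle]; exact hk0.symm
  have t1 := step _ _ t0
  have t2 := step _ _ t1
  have t3 := step _ _ t2
  intro k
  conv_lhs => rw [psi]
  simp only [R.add, (hεline _ (E.eI_moved R S _)).2]
  rw [t0, show ρ t (eI ρ ι e 1) = _ from t1, show ρ t (eI ρ ι e 2) = _ from t2,
    show ρ t (eI ρ ι e 3) = _ from t3]
  simp only [E.psi_line R S, ← E.psi_add R S]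
  congr 1
  have key0 : ∀ μ p : F4, fmul μ p + fmul 0 p = fmul μ p := by decide
  have z1 : ∀ p : F4, fmul 0 p = 0 := by decide
  fin_cases j <;> cases η <;> cases ε <;>
    simp [single, shiftK, tK, crd, z1, show (-1 : Fin 4) = 3 from rfl, show (-2 : Fin 4) = 2 from rfl,
      show (-3 : Fin 4) = 1 from rfl]

/-- The action in the coordinates of the model. -/
noncomputable def actV (_E : Seed ρ q x ι o e) (R : Rep ρ q B) (S : LSpec x ι) (l : L) (v : V) : V :=
  (Equiv.ofBijective _E.toU (_E.toU_bijective R S)).symm (ρ l (_E.toU v))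

theorem toU_actV (l : L) (v : V) : E.toU (E.actV R S l v) = ρ l (E.toU v) :=
  Equiv.apply_symm_apply (Equiv.ofBijective E.toU (E.toU_bijective R S)) _

theorem actV_eq {l : L} {f : V → V} (h : ∀ v, ρ l (E.toU v) = E.toU (f v)) : E.actV R S l = f :=
  funext fun v => (E.toU_bijective R S).1 (by rw [E.toU_actV R S, h])

theorem actV_mul (a b : L) : E.actV R S (a * b) = E.actV R S a ∘ E.actV R S b :=
  E.actV_eq R S fun v => by rw [Function.comp_apply, E.toU_actV R S, E.toU_actV R S, R.mul]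

theorem actV_one : E.actV R S 1 = id := E.actV_eq R S fun v => by rw [R.one]; rfl

theorem special_actV {t : L} (ht : Special ι t) :
    Good (E.actV R S t) ∧ (t * x * t⁻¹ = x⁻¹ → (∀ σ, t * ι σ = ι σ * t) →
      ∃ a b c d, E.actV R S t = tmap a b c d id) := by
  obtain ⟨ε, η, j, μ, hμ, hk, hc⟩ := E.special_psi R S ht
  obtain ⟨a, b, c, d, hdet, htm⟩ := kmap_tK ε η j μ hμ
  have e1 : E.actV R S t = tmap a b c d (sigT ε η j) := E.actV_eq R S fun v => by
    rw [toU, toU, hk, htm]
  refine ⟨⟨a, b, c, d, _, hdet, isSymp_sigT ε η j, e1⟩, fun h1 h2 => ⟨a, b, c, d, ?_⟩⟩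
  obtain ⟨rfl, rfl, rfl⟩ := hc h1 h2
  rw [e1, show sigT true false 2 = id from funext sigT_id]

theorem actV_x : E.actV R S x = mX := E.actV_eq R S (E.x_toU R S)

theorem actV_A : E.actV R S (ι pA) = tmap 1 0 0 1 (gA o) := E.actV_eq R S (E.A_toU R S)

theorem actV_B : E.actV R S (ι pB) = tmap 1 0 0 1 (gB o) := E.actV_eq R S (E.B_toU R S)

theorem actV_A' : E.actV R S (ι (pC * pA * pC)) = tmap 1 0 0 1 (gA' o) :=
  E.actV_eq R S fun v => by
    rw [map_mul, map_mul, R.mul, R.mul, E.C_toU R S, E.A_toU R S, E.C_toU R S]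
    congr 1
    simp [tmap]
    exact ⟨rfl, rfl⟩

theorem good_mX : Good mX :=
  ⟨0, 1, 1, 1, id, by decide, isSymp_id, funext fun v => by simp [mX, tmap]⟩

theorem actV_good [Finite L] (l : L) : Good (E.actV R S l) := by
  have hmul : ∀ a b : L, Good (E.actV R S a) → Good (E.actV R S b) → Good (E.actV R S (a * b)) := by
    rintro a b ⟨p, q', r, s, σ, hd, hσ, ea⟩ ⟨p', q'', r', s', τ, hd', hτ, eb⟩
    refine ⟨_, _, _, _, σ ∘ τ, gl_det p q' r s p' q'' r' s' hd hd', hσ.comp hτ, ?_⟩
    rw [E.actV_mul R S, ea, eb]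
    exact funext fun v => tmap_comp hσ _ _ _ _ _ _ _ _ τ v
  have hone : Good (E.actV R S 1) := by
    rw [E.actV_one R S]
    exact ⟨1, 0, 0, 1, id, by decide, isSymp_id, funext fun v => (tmap_one v).symm⟩
  have hpow : ∀ (a : L) (n : ℕ), Good (E.actV R S a) → Good (E.actV R S (a ^ n)) := fun a n ha => by
    induction n with
    | zero => rw [pow_zero]; exact hone
    | succ n ih => rw [pow_succ]; exact hmul _ _ ih ha
  let T : Subgroup L :=
    { carrier := {l : L | Good (E.actV R S l)}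
      one_mem' := hone
      mul_mem' := fun {a b} ha hb => hmul a b ha hb
      inv_mem' := fun {a} ha => by
        have h2 : a⁻¹ = a ^ (orderOf a - 1) := inv_eq_of_mul_eq_one_right (by
          rw [← pow_succ', Nat.sub_add_cancel (orderOf_pos a), pow_orderOf_eq_one])
        show Good (E.actV R S a⁻¹)
        rw [h2]; exact hpow a _ ha }
  have hxT : x ∈ T := by
    show Good (E.actV R S x)
    rw [E.actV_x R S]; exact E.good_mX R S
  have hιT : ∀ σ, ι σ ∈ T := by
    intro σ
    have hle : Subgroup.closure ({pA, pB, pC * pA * pC} : Set Asix) ≤ T.comap ι := by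
      rw [Subgroup.closure_le]
      rintro s (rfl | rfl | rfl)
      · show Good (E.actV R S (ι pA))
        rw [E.actV_A R S]; exact ⟨1, 0, 0, 1, _, by decide, isSymp_gen o 0, rfl⟩
      · show Good (E.actV R S (ι pB))
        rw [E.actV_B R S]; exact ⟨1, 0, 0, 1, _, by decide, isSymp_gen o 1, rfl⟩
      · show Good (E.actV R S (ι (pC * pA * pC)))
        rw [E.actV_A' R S]; exact ⟨1, 0, 0, 1, _, by decide, isSymp_gen o 2, rfl⟩
    exact hle (gen_asix ▸ Subgroup.mem_top σ)
  have := S.gens T hxT hιT (fun t ht => (E.special_actV R S ht).1)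
  have hl : l ∈ T := this ▸ Subgroup.mem_top l
  exact hl

end Seed

/-- The setup from a seed. -/
theorem setup_of_seed {G : Type*} [Group G] [Finite G] [Finite L] {z : G} {Q : Subgroup G}
    {θ : G → L} {pr : G → U} (P : Pre z Q θ pr ρ q B x ι) {o : Fin 2} {e : U}
    (E : Seed ρ q x ι o e) : ∃ pr' act, Setup z Q o pr' act := by
  classical
  have R := P.rep
  have S := P.spec
  let ψ := Equiv.ofBijective E.toU (E.toU_bijective R S)
  have hψ : ∀ u, E.toU (ψ.symm u) = u := ψ.apply_symm_apply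
  have hψ0 : E.toU 0 = 0 := by
    have := E.toU_add R S 0 0
    rw [add_zero] at this
    exact add_eq_left.1 this.symm
  refine ⟨fun a => ψ.symm (pr a), fun c => E.actV R S (θ c), ⟨P.hyp, ?_, ?_, ?_, ?_, ?_, ?_, ?_, ?_, ?_, ?_⟩⟩
  · intro a ha b hb
    apply ψ.injective
    show E.toU _ = E.toU _
    rw [E.toU_add R S, hψ, hψ, hψ, P.pr_mul a ha b hb]
  · intro a ha
    rw [← P.pr_zero a ha, ψ.symm_apply_eq]
    show pr a = E.toU 0 ↔ _
    rw [hψ0]
  · intro v
    obtain ⟨a, ha, e1⟩ := P.pr_surj (E.toU v)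
    exact ⟨a, ha, by rw [e1]; exact ψ.symm_apply_apply v⟩
  · intro a ha
    rw [← E.q_toU R S, hψ]
    exact P.pr_sq a ha
  · intro c hc a ha
    apply ψ.injective
    show E.toU _ = E.toU _
    rw [hψ, E.toU_actV R S, hψ, P.θ_pr c hc a ha]
  · intro c hc
    rw [← P.θ_ker c hc]
    refine ⟨fun h => R.faithful _ fun u => ?_, fun h => by rw [h, E.actV_one R S]⟩
    have := E.toU_actV R S (θ c) (ψ.symm u)
    rw [h, id, hψ] at this
    exact this.symm
  · intro c _
    exact E.actV_good R S (θ c)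
  · obtain ⟨c, hc, e1⟩ := P.θ_surj x
    exact ⟨c, hc, by rw [e1, E.actV_x R S]⟩
  · intro i
    fin_cases i
    · obtain ⟨c, hc, e1⟩ := P.θ_surj (ι pA)
      exact ⟨c, hc, by rw [e1, E.actV_A R S]; rfl⟩
    · obtain ⟨c, hc, e1⟩ := P.θ_surj (ι pB)
      exact ⟨c, hc, by rw [e1, E.actV_B R S]; rfl⟩
    · obtain ⟨c, hc, e1⟩ := P.θ_surj (ι (pC * pA * pC))
      exact ⟨c, hc, by rw [e1, E.actV_A' R S]; rfl⟩
  · intro H hQH hHC hsq
    have hz : ∀ r : ↥H, (r : G) * z = z * r := fun r =>
      Subgroup.mem_centralizer_singleton_iff.1 (hHC r.2)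
    let f : ↥H →* L := MonoidHom.mk' (fun r => θ (r : G)) fun a b => P.θ_mul _ _ (hz a) (hz b)
    have hker : f.ker = Q.subgroupOf H := by
      ext r
      rw [MonoidHom.mem_ker, Subgroup.mem_subgroupOf]
      exact P.θ_ker _ (hz r)
    have hcard : Nat.card ↥H = 512 * Nat.card ↥f.range := by
      have := f.ker.card_mul_index
      rw [Subgroup.index_ker, hker, Nat.card_congr (Subgroup.subgroupOfEquivOfLe hQH).toEquiv,
        P.hyp.card] at this
      exact this.symm
    have hinv : ∀ r ∈ f.range, r * r = 1 := by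
      rintro _ ⟨r, rfl⟩
      rw [← map_mul, ← MonoidHom.mem_ker, hker, Subgroup.mem_subgroupOf]
      exact hsq _ r.2
    obtain ⟨hle, heq⟩ := S.rank f.range hinv
    refine ⟨by omega, fun h8 => ?_⟩
    obtain ⟨_, ⟨r, rfl⟩, hr1, hr2⟩ := heq (by omega)
    refine ⟨r, r.2, fun hrQ => ?_, ?_⟩
    · have h1 : f r = 1 := (P.θ_ker _ (hz r)).2 hrQ
      rw [h1, one_mul, inv_one, mul_one] at hr1
      refine S.x_ne ?_
      have h2 : x * x = 1 := mul_eq_one_iff_eq_inv.2 hr1
      have h3 := S.x_cube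
      rwa [h2, one_mul] at h3
    · have hsp : Special ι (f r) := by
        refine ⟨hr2 pA, Or.inl ?_, Or.inl ?_⟩
        · rw [hr2 pB, mul_inv_cancel_right]
        · rw [hr2 pF, mul_inv_cancel_right]
      exact (E.special_actV R S hsp).2 hr1 hr2

end CfsgLib.SmithNine70
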