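import Cfsg.Agent.SmithNine70.Space

/-!
A six dimensional fixed space of the normal subgroup of order three excludes conjugates of the
central involution in the extraspecial group other than the central involution itself.
-/

set_option autoImplicit false
set_option linter.unusedSectionVars false

namespace CfsgLib.SmithNine70

open Cfsg CfsgLib.LargeExtraspecial

variable {L : Type*} [Group L] {U : Type*} [AddCommGroup U]
  {ρ : L → U → U} {q : U → ZMod 2} {B : U → U → ZMod 2}

namespace Rep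

variable (hr : Rep ρ q B)
include hr

theorem six_neg (u : U) : -u = u := neg_eq_of_add_eq_zero_left (hr.add_self u)

theorem six_eq_of_add {u v : U} (h : u + v = 0) : u = v := by
  rw [eq_neg_of_add_eq_zero_left h, hr.six_neg]

theorem six_B_add_right (u v w : U) : B u (v + w) = B u v + B u w := by
  rw [hr.B_comm u (v + w), hr.B_add, hr.B_comm v u, hr.B_comm w u]

theorem six_B_zero_left (u : U) : B 0 u = 0 := by
  have h := hr.B_add 0 0 u
  rw [add_zero] at h
  exact left_eq_add.1 h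

theorem six_ρ_zero (l : L) : ρ l 0 = 0 := by
  have h := hr.add l 0 0
  rw [add_zero] at h
  exact left_eq_add.1 h

theorem six_B_isom (l : L) (u v : U) : B (ρ l u) (ρ l v) = B u v := by
  have h := hr.q_add (ρ l u) (ρ l v)
  rw [← hr.add, hr.isom, hr.isom, hr.isom, hr.q_add] at h
  exact (add_left_cancel h).symm

theorem six_inj (l : L) {v : U} (h : ρ l v = 0) : v = 0 := by
  by_contra hv
  obtain ⟨u, hu⟩ := hr.nondeg v hv
  rw [← hr.six_B_isom l, h, hr.B_comm, hr.six_B_zero_left] at hu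
  exact zero_ne_one hu

theorem six_one (v : U) : ρ 1 v = v := by
  refine hr.six_eq_of_add (hr.six_inj 1 ?_)
  rw [hr.add, ← hr.mul, one_mul, hr.add_self]

end Rep

variable {x : L} {ι : Asix →* L} {G : Type*} [Group G] [Finite G] {z : G} {Q : Subgroup G}
  {θ : G → L} {pr : G → U}

namespace Pre

/-- The part in the moved plane. -/
def kPart (ρ : L → U → U) (x : L) (v : U) : U := ρ x v + ρ x (ρ x v)

/-- The part fixed by the element of order three. -/
def wPart (ρ : L → U → U) (x : L) (v : U) : U := v + ρ x v + ρ x (ρ x v)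

variable (P0 : Pre z Q θ pr ρ q B x ι)
include P0

theorem six_pr_one : pr 1 = 0 := (P0.pr_zero 1 Q.one_mem).2 (Or.inl rfl)

theorem six_pr_inv {a : G} (ha : a ∈ Q) : pr a⁻¹ = pr a := by
  refine P0.rep.six_eq_of_add ?_
  rw [← P0.pr_mul _ (Q.inv_mem ha) _ ha, inv_mul_cancel, P0.six_pr_one]

theorem six_θ_one : θ 1 = 1 := (P0.θ_ker 1 (by simp)).2 Q.one_mem

theorem six_x3 (v : U) : ρ x (ρ x (ρ x v)) = v := by
  rw [← P0.rep.mul, ← P0.rep.mul, P0.spec.x_cube, P0.rep.six_one]

theorem six_kPart_mem (v : U) :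
    kPart ρ x v + ρ x (kPart ρ x v) + ρ x (ρ x (kPart ρ x v)) = 0 := by
  simp only [kPart, P0.rep.add, P0.six_x3]
  calc ρ x v + ρ x (ρ x v) + (ρ x (ρ x v) + v) + (v + ρ x v)
      = (ρ x v + ρ x v) + (ρ x (ρ x v) + ρ x (ρ x v)) + (v + v) := by abel
    _ = 0 := by simp only [P0.rep.add_self, add_zero]

theorem six_wPart_fixed (v : U) : ρ x (wPart ρ x v) = wPart ρ x v := by
  simp only [wPart, P0.rep.add, P0.six_x3]
  abel

theorem six_split (v : U) : kPart ρ x v + wPart ρ x v = v := by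
  simp only [kPart, wPart]
  calc ρ x v + ρ x (ρ x v) + (v + ρ x v + ρ x (ρ x v))
      = v + (ρ x v + ρ x v) + (ρ x (ρ x v) + ρ x (ρ x v)) := by abel
    _ = v := by simp only [P0.rep.add_self, add_zero]

theorem six_kPart_add (v w : U) : kPart ρ x (v + w) = kPart ρ x v + kPart ρ x w := by
  simp only [kPart, P0.rep.add]
  abel

theorem six_kPart_fixed {v : U} (h : ρ x v = v) : kPart ρ x v = 0 := by
  simp only [kPart, h, P0.rep.add_self]

theorem six_kPart_eq_zero {v : U} (h : kPart ρ x v = 0) : ρ x v = v := by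
  have h1 := P0.rep.six_eq_of_add h
  have h2 := congrArg (fun t => ρ x (ρ x t)) h1
  simp only [P0.six_x3] at h2
  exact h2.symm

theorem six_plane_fixed {k : U} (hk : k + ρ x k + ρ x (ρ x k) = 0) (hf : ρ x k = k) : k = 0 := by
  rw [hf, hf, P0.rep.add_self, zero_add] at hk
  exact hk

theorem six_perp {k w : U} (hk : k + ρ x k + ρ x (ρ x k) = 0) (hw : ρ x w = w) : B k w = 0 := by
  have h1 : B (ρ x k) w = B k w := by
    conv_lhs => rw [← hw]
    exact P0.rep.six_B_isom x k w
  have h2 : B (ρ x (ρ x k)) w = B k w := by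
    conv_lhs => rw [← hw]
    rw [P0.rep.six_B_isom x (ρ x k) w, h1]
  have h := congrArg (fun t => B t w) hk
  simp only [P0.rep.B_add, P0.rep.six_B_zero_left, h1, h2] at h
  revert h
  generalize B k w = b
  revert b
  decide

/-- The moved plane is anisotropic. -/
theorem six_anisotropic (hsix : Six ρ q B x ι) {k : U} (hk : k + ρ x k + ρ x (ρ x k) = 0)
    (hne : k ≠ 0) : q k = 1 ∧ B k (ρ x k) = 1 := by
  have e : ρ x (ρ x k) = k + ρ x k := (P0.rep.six_eq_of_add hk).symm
  have hBq : B k (ρ x k) = q k := by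
    have h := P0.rep.q_add k (ρ x k)
    rw [← e, P0.rep.isom, P0.rep.isom] at h
    revert h
    generalize B k (ρ x k) = b
    generalize q k = a
    revert a b
    decide
  suffices hne0 : B k (ρ x k) ≠ 0 by
    have h1 : B k (ρ x k) = 1 := by
      revert hne0
      generalize B k (ρ x k) = b
      revert b
      decide
    exact ⟨hBq ▸ h1, h1⟩
  intro h0
  obtain ⟨y, hy⟩ := P0.rep.nondeg k hne
  rw [← P0.six_split y, P0.rep.B_comm, P0.rep.six_B_add_right, P0.six_perp hk (P0.six_wPart_fixed y),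
    add_zero] at hy
  have hcard := hsix.card_plane
  have hin : Function.Injective (![(0 : U), k, ρ x k, ρ x (ρ x k)]) := by
    have n1 : ρ x k ≠ 0 := fun h => hne (P0.rep.six_inj x h)
    have n2 : ρ x (ρ x k) ≠ 0 := fun h => n1 (P0.rep.six_inj x h)
    have n3 : k ≠ ρ x k := fun h => hne (P0.six_plane_fixed hk h.symm)
    have n4 : k ≠ ρ x (ρ x k) := by
      intro h
      rw [e] at h
      exact n1 (left_eq_add.1 h)
    have n5 : ρ x k ≠ ρ x (ρ x k) := by
      intro h
      rw [e] at h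
      exact hne (right_eq_add.1 h)
    intro i j hij
    fin_cases i <;> fin_cases j <;> first
      | rfl
      | exact absurd hij (by simp [hne, n1, n2, n3, n4, n5, Ne.symm hne, Ne.symm n1, Ne.symm n2,
          Ne.symm n3, Ne.symm n4, Ne.symm n5])
  have hmem : ∀ i, (![(0 : U), k, ρ x k, ρ x (ρ x k)] i) +
      ρ x (![(0 : U), k, ρ x k, ρ x (ρ x k)] i) +
      ρ x (ρ x (![(0 : U), k, ρ x k, ρ x (ρ x k)] i)) = 0 := by
    intro i
    fin_cases i
    · simp [P0.rep.six_ρ_zero]
    · simpa using hk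
    · simpa [P0.rep.add, P0.rep.six_ρ_zero] using congrArg (ρ x) hk
    · simpa [P0.rep.add, P0.rep.six_ρ_zero] using congrArg (fun t => ρ x (ρ x t)) hk
  haveI : Finite U := Nat.finite_of_card_ne_zero (by rw [P0.rep.card]; norm_num)
  let f : Fin 4 → {v : U // v + ρ x v + ρ x (ρ x v) = 0} :=
    fun i => ⟨![(0 : U), k, ρ x k, ρ x (ρ x k)] i, hmem i⟩
  have hf : Function.Injective f := fun i j h => hin (congrArg Subtype.val h)
  have hsurj : Function.Surjective f :=
    (hf.bijective_of_nat_card_le (by rw [hcard]; simp)).2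
  obtain ⟨i, hi⟩ := hsurj ⟨kPart ρ x y, P0.six_kPart_mem y⟩
  have hi' : ![(0 : U), k, ρ x k, ρ x (ρ x k)] i = kPart ρ x y := congrArg Subtype.val hi
  have h0' : B k (ρ x (ρ x k)) = 0 := by
    rw [e, P0.rep.six_B_add_right, P0.rep.B_self, h0, add_zero]
  have hz0 : B k 0 = 0 := by rw [P0.rep.B_comm, P0.rep.six_B_zero_left]
  rw [← hi'] at hy
  fin_cases i <;> simp [h0, h0', P0.rep.B_self, hz0] at hy

/-- A plane element is one of the multiples of a nonzero one. -/
theorem six_plane_cases (hsix : Six ρ q B x ι) {k y : U} (hk : k + ρ x k + ρ x (ρ x k) = 0)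
    (hy : y + ρ x y + ρ x (ρ x y) = 0) (hne : k ≠ 0) :
    y = 0 ∨ y = k ∨ y = ρ x k ∨ y = ρ x (ρ x k) := by
  by_contra hcon
  simp only [not_or] at hcon
  obtain ⟨c0, c1, c2, c3⟩ := hcon
  haveI : Finite U := Nat.finite_of_card_ne_zero (by rw [P0.rep.card]; norm_num)
  have n1 : ρ x k ≠ 0 := fun h => hne (P0.rep.six_inj x h)
  have n2 : ρ x (ρ x k) ≠ 0 := fun h => n1 (P0.rep.six_inj x h)
  have n3 : k ≠ ρ x k := fun h => hne (P0.six_plane_fixed hk h.symm)
  have n5 : ρ x k ≠ ρ x (ρ x k) := fun h =>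
    n3 (P0.rep.six_eq_of_add (P0.rep.six_inj x (by rw [P0.rep.add, ← h, P0.rep.add_self])))
  have n4 : k ≠ ρ x (ρ x k) := fun h => n5 (by
    have := congrArg (ρ x) h
    rw [P0.six_x3] at this
    exact (this.trans h))
  have hsub : ({0, k, ρ x k, ρ x (ρ x k), y} : Set U) ⊆
      {v : U | v + ρ x v + ρ x (ρ x v) = 0} := by
    rintro v (rfl | rfl | rfl | rfl | rfl)
    · simp [P0.rep.six_ρ_zero]
    · exact hk
    · simpa [P0.rep.add, P0.rep.six_ρ_zero] using congrArg (ρ x) hk
    · simpa [P0.rep.add, P0.rep.six_ρ_zero] using congrArg (fun t => ρ x (ρ x t)) hk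
    · exact hy
  have h := Set.ncard_le_ncard hsub (Set.toFinite _)
  rw [show ({v : U | v + ρ x v + ρ x (ρ x v) = 0} : Set U).ncard =
    Nat.card {v : U // v + ρ x v + ρ x (ρ x v) = 0} from rfl, hsix.card_plane] at h
  rw [Set.ncard_insert_of_notMem (by simp [Ne.symm hne, n1.symm, n2.symm, Ne.symm c0]),
    Set.ncard_insert_of_notMem (by simp [n3, n4, Ne.symm c1]),
    Set.ncard_insert_of_notMem (by simp [n5, Ne.symm c2]),
    Set.ncard_insert_of_notMem (by simp [Ne.symm c3]), Set.ncard_singleton] at h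
  omega

theorem six_l_comm {l : L} (hl : l * x = x * l) (v : U) : ρ l (ρ x v) = ρ x (ρ l v) := by
  rw [← P0.rep.mul, hl, P0.rep.mul]

theorem six_l_inv {l : L} (hl : l * x * l⁻¹ = x⁻¹) (v : U) :
    ρ l (ρ x v) = ρ x (ρ x (ρ l v)) := by
  have e : l * x = x * (x * l) := by
    calc l * x = l * x * l⁻¹ * l := by group
      _ = x⁻¹ * (x * x * x) * l := by rw [hl, P0.spec.x_cube, mul_one]
      _ = x * (x * l) := by group
  rw [← P0.rep.mul, e, P0.rep.mul, P0.rep.mul]

theorem six_x_cases (l : L) : l * x = x * l ∨ l * x * l⁻¹ = x⁻¹ := by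
  rcases P0.spec.x_normal l with h | h
  · exact Or.inl (mul_inv_eq_iff_eq_mul.1 h)
  · exact Or.inr h

theorem six_l_fixed (l : L) {v : U} (hv : ρ x v = v) : ρ x (ρ l v) = ρ l v := by
  rcases P0.six_x_cases l with h | h
  · rw [← P0.six_l_comm h, hv]
  · have e := P0.six_l_inv h v
    rw [hv] at e
    conv_lhs => rw [e]
    rw [P0.six_x3]

theorem six_l_kPart (l : L) (v : U) : ρ l (kPart ρ x v) = kPart ρ x (ρ l v) := by
  rcases P0.six_x_cases l with h | h
  · simp only [kPart, P0.rep.add, P0.six_l_comm h]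
  · simp only [kPart, P0.rep.add, P0.six_l_inv h, P0.six_x3]
    abel

theorem six_l_wPart (l : L) (v : U) : ρ l (wPart ρ x v) = wPart ρ x (ρ l v) := by
  rcases P0.six_x_cases l with h | h
  · simp only [wPart, P0.rep.add, P0.six_l_comm h]
  · simp only [wPart, P0.rep.add, P0.six_l_inv h, P0.six_x3]
    abel

/-- An element commuting with `x` and fixing a point of the plane fixes the plane. -/
theorem six_fix_plane (hsix : Six ρ q B x ι) {l : L} (hl : l * x = x * l) {k y : U}
    (hk : k + ρ x k + ρ x (ρ x k) = 0) (hy : y + ρ x y + ρ x (ρ x y) = 0) (hne : k ≠ 0)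
    (hf : ρ l k = k) : ρ l y = y := by
  rcases P0.six_plane_cases hsix hk hy hne with rfl | rfl | rfl | rfl
  · exact P0.rep.six_ρ_zero l
  · exact hf
  · rw [P0.six_l_comm hl, hf]
  · rw [P0.six_l_comm hl, P0.six_l_comm hl, hf]

/-- A totally isotropic group of fixed points has order at most eight. -/
theorem six_fixed_isotropic (hsix : Six ρ q B x ι) (S : AddSubgroup U)
    (hfix : ∀ u ∈ S, ρ x u = u) (hiso : ∀ u ∈ S, ∀ v ∈ S, B u v = 0) : Nat.card ↥S ≤ 8 := by
  haveI : Finite U := Nat.finite_of_card_ne_zero (by rw [P0.rep.card]; norm_num)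
  haveI : Nontrivial {v : U // v + ρ x v + ρ x (ρ x v) = 0} :=
    Finite.one_lt_card_iff_nontrivial.1 (by rw [hsix.card_plane]; norm_num)
  obtain ⟨⟨k, hk⟩, hk0⟩ := exists_ne
    (⟨0, by simp [P0.rep.six_ρ_zero]⟩ : {v : U // v + ρ x v + ρ x (ρ x v) = 0})
  have hne : k ≠ 0 := fun h => hk0 (Subtype.ext h)
  have hperp : ∀ u ∈ S, B k u = 0 := fun u hu => P0.six_perp hk (hfix u hu)
  let T : AddSubgroup U :=
    { carrier := {v | v ∈ S ∨ v + k ∈ S}
      zero_mem' := Or.inl S.zero_mem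
      neg_mem' := fun {a} ha => by rwa [P0.rep.six_neg a]
      add_mem' := by
        intro a b ha hb
        rcases ha with ha | ha <;> rcases hb with hb | hb
        · exact Or.inl (S.add_mem ha hb)
        · exact Or.inr (by simpa [add_assoc] using S.add_mem ha hb)
        · refine Or.inr ?_
          have := S.add_mem ha hb
          rwa [add_right_comm] at this
        · refine Or.inl ?_
          have := S.add_mem ha hb
          rwa [add_add_add_comm, P0.rep.add_self, add_zero] at this }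
  have hT : ∀ u ∈ T, ∀ v ∈ T, B u v = 0 := by
    intro u hu v hv
    have split : ∀ {u : U}, u ∈ T → ∃ a ∈ S, u = a ∨ u = a + k := by
      rintro u (hu | hu)
      · exact ⟨u, hu, Or.inl rfl⟩
      · exact ⟨u + k, hu, Or.inr (by rw [add_assoc, P0.rep.add_self, add_zero])⟩
    obtain ⟨a, ha, ea⟩ := split hu
    obtain ⟨b, hb, eb⟩ := split hv
    have h1 := hiso a ha b hb
    have h2 := hperp b hb
    have h3 : B a k = 0 := P0.rep.B_comm a k ▸ hperp a ha
    rcases ea with rfl | rfl <;> rcases eb with rfl | rfl <;>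
      simp [P0.rep.B_add, P0.rep.six_B_add_right, h1, h2, h3, P0.rep.B_self]
  have hTcard := P0.rep.isotropic_le T hT
  have hk' : k ∉ S := fun h => hne (P0.six_plane_fixed hk (hfix k h))
  have hsub : (S : Set U) ∪ (fun v => v + k) '' (S : Set U) ⊆ (T : Set U) := by
    rintro v (hv | ⟨a, ha, rfl⟩)
    · exact Or.inl hv
    · exact Or.inr (by simpa [add_assoc, P0.rep.add_self] using ha)
  have hdis : Disjoint (S : Set U) ((fun v => v + k) '' (S : Set U)) := by
    rw [Set.disjoint_left]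
    rintro v hv ⟨a, ha, rfl⟩
    exact hk' (by simpa using S.sub_mem hv ha)
  have h := Set.ncard_le_ncard hsub (Set.toFinite _)
  rw [Set.ncard_union_eq hdis, Set.ncard_image_of_injective _ (add_left_injective k),
    show (S : Set U).ncard = Nat.card ↥S from rfl, show (T : Set U).ncard = Nat.card ↥T from rfl]
    at h
  omega

/-- The image of the intersection of the two extraspecial groups. -/
def imE {g s : G} (P : Partner z Q g s) : AddSubgroup U where
  carrier := {v | ∃ e ∈ P.E, pr e = v}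
  add_mem' := by
    rintro a b ⟨e, he, rfl⟩ ⟨f, hf, rfl⟩
    exact ⟨e * f, P.E.mul_mem he hf, P0.pr_mul _ he.1 _ hf.1⟩
  zero_mem' := ⟨1, P.E.one_mem, P0.six_pr_one⟩
  neg_mem' := by
    rintro a ⟨e, he, rfl⟩
    exact ⟨e, he, (P0.rep.six_neg _).symm⟩

variable {g s : G} (P : Partner z Q g s)
include P

theorem six_ps_mem : pr s ∈ P0.imE P := ⟨s, P.s_mem_E P0.hyp, rfl⟩

theorem six_ps_ne : pr s ≠ 0 := by
  intro h
  rcases (P0.pr_zero s P.mem).1 h with h' | h'
  · exact P0.hyp.om_ne_one P.om h'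
  · exact P.ne h'

theorem six_imE_q {v : U} (hv : v ∈ P0.imE P) : q v = 0 := by
  obtain ⟨e, he, rfl⟩ := hv
  exact (P0.pr_sq e he.1).2 (P.E_sq P0.hyp he)

theorem six_imE_B {v w : U} (hv : v ∈ P0.imE P) (hw : w ∈ P0.imE P) : B v w = 0 := by
  obtain ⟨e, he, rfl⟩ := hv
  obtain ⟨f, hf, rfl⟩ := hw
  exact (P0.pr_comm e he.1 f hf.1).2 (P.E_comm P0.hyp he hf)

theorem six_card_imE : Nat.card ↥P.E = 2 * Nat.card ↥(P0.imE P) := by
  let f : ↥P.E →* Multiplicative U :=
    { toFun := fun e => Multiplicative.ofAdd (pr (e : G))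
      map_one' := by simp [P0.six_pr_one]
      map_mul' := fun a b => by
        simp only [Subgroup.coe_mul]
        rw [P0.pr_mul _ a.2.1 _ b.2.1, ofAdd_add] }
  have hrange : Nat.card ↥f.range = Nat.card ↥(P0.imE P) := by
    refine Nat.card_congr
      { toFun := fun v => ⟨Multiplicative.toAdd (v : Multiplicative U), ?_⟩
        invFun := fun v => ⟨Multiplicative.ofAdd (v : U), ?_⟩
        left_inv := fun v => rfl
        right_inv := fun v => rfl }
    · obtain ⟨v, e, rfl⟩ := v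
      exact ⟨e, e.2, rfl⟩
    · obtain ⟨v, e, he, rfl⟩ := v
      exact ⟨⟨e, he⟩, rfl⟩
  have hker : (f.ker : Set ↥P.E) = {1, ⟨z, P.z_mem_E P0.hyp⟩} := by
    ext e
    simp only [SetLike.mem_coe, MonoidHom.mem_ker, Set.mem_insert_iff, Set.mem_singleton_iff,
      Subtype.ext_iff]
    exact (P0.pr_zero _ e.2.1)
  have hk : Nat.card ↥f.ker = 2 := by
    rw [show Nat.card ↥f.ker = (f.ker : Set ↥P.E).ncard from rfl, hker]
    exact Set.ncard_pair fun h => P0.hyp.setting.z_ne_one (congrArg Subtype.val h).symm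
  have h := f.ker.card_mul_index
  rw [Subgroup.index_ker, hk, hrange] at h
  exact h.symm

/-- The image of the centralizer of `z` in the second extraspecial group. -/
def imD : Subgroup L where
  carrier := {l | ∃ d ∈ P.D, θ d = l}
  mul_mem' := by
    rintro a b ⟨d, hd, rfl⟩ ⟨e, he, rfl⟩
    exact ⟨d * e, P.D.mul_mem hd he, P0.θ_mul _ _
      ((P.mem_D P0.hyp).1 hd).2 ((P.mem_D P0.hyp).1 he).2⟩
  one_mem' := ⟨1, P.D.one_mem, P0.six_θ_one⟩
  inv_mem' := by
    rintro a ⟨d, hd, rfl⟩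
    refine ⟨d⁻¹, P.D.inv_mem hd, eq_inv_of_mul_eq_one_left ?_⟩
    rw [← P0.θ_mul _ _ ((P.mem_D P0.hyp).1 (P.D.inv_mem hd)).2 ((P.mem_D P0.hyp).1 hd).2,
      inv_mul_cancel, P0.six_θ_one]

theorem six_card_imD : Nat.card ↥(P0.imD P) * Nat.card ↥P.E = 256 := by
  let f : ↥P.D →* L :=
    { toFun := fun d => θ (d : G)
      map_one' := P0.six_θ_one
      map_mul' := fun a b => P0.θ_mul _ _ ((P.mem_D P0.hyp).1 a.2).2 ((P.mem_D P0.hyp).1 b.2).2 }
  have hrange : f.range = P0.imD P := by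
    ext l
    exact ⟨fun ⟨d, hd⟩ => ⟨d, d.2, hd⟩, fun ⟨d, hd, hl⟩ => ⟨⟨d, hd⟩, hl⟩⟩
  have hker : f.ker = P.E.subgroupOf P.D := by
    ext d
    rw [MonoidHom.mem_ker, Subgroup.mem_subgroupOf, ← P.D_inf_Q P0.hyp, Subgroup.mem_inf]
    exact (P0.θ_ker _ ((P.mem_D P0.hyp).1 d.2).2).trans (and_iff_right d.2).symm
  have h := f.ker.card_mul_index
  rw [Subgroup.index_ker, hrange, hker,
    Nat.card_congr (Subgroup.subgroupOfEquivOfLe (P.E_le_D P0.hyp)).toEquiv,
    P.card_D P0.hyp] at h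
  rw [mul_comm]
  exact h

theorem six_imD_sq {r : L} (hr : r ∈ P0.imD P) : r * r = 1 := by
  obtain ⟨d, hd, rfl⟩ := hr
  obtain ⟨hU, hdz⟩ := (P.mem_D P0.hyp).1 hd
  rw [← P0.θ_mul _ _ hdz hdz]
  rcases P0.hyp.inQ_sq hU with h | h <;> rw [h]
  · exact P0.six_θ_one
  · exact (P0.θ_ker s (P0.hyp.commute_z P.mem)).2 P.mem

theorem six_imD_ps {r : L} (hr : r ∈ P0.imD P) : ρ r (pr s) = pr s := by
  obtain ⟨d, hd, rfl⟩ := hr
  obtain ⟨hU, hdz⟩ := (P.mem_D P0.hyp).1 hd
  rw [← P0.θ_pr d hdz s P.mem, ← P0.hyp.inQ_commute hU, mul_inv_cancel_right]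

theorem six_comm_cent {r : L} (hr : r ∈ P0.imD P) {v : U} (hv : B (pr s) v = 0) :
    ρ r v + v ∈ P0.imE P := by
  obtain ⟨d, hd, rfl⟩ := hr
  obtain ⟨hU, hdz⟩ := (P.mem_D P0.hyp).1 hd
  obtain ⟨a, ha, rfl⟩ := P0.pr_surj v
  have hc : a * s = s * a := ((P0.pr_comm s P.mem a ha).1 hv).symm
  refine ⟨d * a * d⁻¹ * a⁻¹, P.comm_cent P0.hyp hd ha hc, ?_⟩
  rw [P0.pr_mul _ ((P0.hyp.setting.normalized d hdz a).1 ha) _ (Q.inv_mem ha), P0.six_pr_inv ha,
    P0.θ_pr d hdz a ha]

theorem six_comm_E {r : L} (hr : r ∈ P0.imD P) {v : U} (hv : v ∈ P0.imE P) :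
    ρ r v = v ∨ ρ r v = pr s + v := by
  obtain ⟨d, hd, rfl⟩ := hr
  obtain ⟨hU, hdz⟩ := (P.mem_D P0.hyp).1 hd
  obtain ⟨e, he, rfl⟩ := hv
  rw [← P0.θ_pr d hdz e he.1]
  rcases P.comm_E P0.hyp hd he with h | h <;> rw [h]
  · exact Or.inl rfl
  · exact Or.inr (P0.pr_mul _ P.mem _ he.1)

/-- Elements fixing the image of `s` preserve the image of `E`. -/
theorem six_imE_invariant {l : L} (hl : ρ l (pr s) = pr s) {v : U} (hv : v ∈ P0.imE P) :
    ρ l v ∈ P0.imE P := by
  have hQ := P0.hyp.setting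
  have main : ∃ c : G, c * z = z * c ∧ c * s = s * c ∧ θ c = l := by
    obtain ⟨c, hcz, hθ⟩ := P0.θ_surj l
    have hcs : c * s * c⁻¹ ∈ Q := (hQ.normalized c hcz s).1 P.mem
    have h0 : pr (c * s * c⁻¹ * s⁻¹) = 0 := by
      rw [P0.pr_mul _ hcs _ (Q.inv_mem P.mem), P0.six_pr_inv P.mem, P0.θ_pr c hcz s P.mem, hθ, hl,
        P0.rep.add_self]
    rcases (P0.pr_zero _ (Q.mul_mem hcs (Q.inv_mem P.mem))).1 h0 with h | h
    · exact ⟨c, hcz, mul_inv_eq_iff_eq_mul.1 (mul_inv_eq_one.1 h), hθ⟩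
    obtain ⟨w, hw⟩ := P0.rep.nondeg _ (P0.six_ps_ne P)
    obtain ⟨a, ha, rfl⟩ := P0.pr_surj w
    have haz := P0.hyp.commute_z ha
    have hne : ¬ a * s = s * a := fun e => by
      rw [(P0.pr_comm a ha s P.mem).2 e] at hw
      exact zero_ne_one hw
    have has : a * s * a⁻¹ = z * s :=
      (conj_mem_two hQ.extraspecial hQ.mem_iff ha P.mem).resolve_left
        fun e => hne (mul_inv_eq_iff_eq_mul.1 e)
    refine ⟨a * c, ?_, ?_, ?_⟩
    · rw [mul_assoc, hcz, ← mul_assoc, haz, mul_assoc]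
    · refine mul_inv_eq_iff_eq_mul.1 ?_
      have e1 : c * s * c⁻¹ = z * s := mul_inv_eq_iff_eq_mul.1 h
      calc a * c * s * (a * c)⁻¹ = a * (c * s * c⁻¹) * a⁻¹ := by group
        _ = (a * z * a⁻¹) * (a * s * a⁻¹) := by rw [e1]; group
        _ = z * (z * s) := by rw [has, haz, mul_inv_cancel_right]
        _ = s := by rw [← mul_assoc, hQ.z_mul_z, one_mul]
    · rw [P0.θ_mul _ _ haz hcz, (P0.θ_ker a haz).2 ha, one_mul, hθ]
  obtain ⟨c, hcz, hcs, rfl⟩ := main
  obtain ⟨e, he, rfl⟩ := hv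
  exact ⟨c * e * c⁻¹, P.conj_mem_E P0.hyp hcz hcs he, P0.θ_pr c hcz e he.1⟩

/-- With a six dimensional fixed space of `x` there is no partner of the central involution. -/
theorem not_six_aux (hsix : Six ρ q B x ι) : False := by
  haveI : Finite U := Nat.finite_of_card_ne_zero (by rw [P0.rep.card]; norm_num)
  have hEle : Nat.card ↥P.E ≤ 32 := P.card_E_le P0.hyp
  have hprod := P0.six_card_imD P
  have hRsq : ∀ r ∈ P0.imD P, r * r = 1 := fun r hr => P0.six_imD_sq P hr
  obtain ⟨hR16, hRex⟩ := P0.spec.rank (P0.imD P) hRsq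
  have hEim := P0.six_card_imE P
  have hcases : Nat.card ↥(P0.imD P) = 16 ∧ Nat.card ↥P.E = 16 ∨
      Nat.card ↥(P0.imD P) = 8 ∧ Nat.card ↥P.E = 32 := by
    have h8 : 8 ≤ Nat.card ↥(P0.imD P) := by
      by_contra hlt
      push Not at hlt
      have := Nat.mul_le_mul (show Nat.card ↥(P0.imD P) ≤ 7 by omega) hEle
      omega
    interval_cases Nat.card ↥(P0.imD P) <;> omega
  set u := kPart ρ x (pr s) with hu
  set v := wPart ρ x (pr s) with hv
  have hsplit : u + v = pr s := P0.six_split _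
  by_cases hu0 : u = 0
  · have hxs : ρ x (pr s) = pr s := P0.six_kPart_eq_zero hu0
    have hEk : ∀ e ∈ P0.imE P, e + ρ x e + ρ x (ρ x e) = 0 → e = 0 := by
      intro e he hk
      by_contra hne
      exact zero_ne_one ((P0.six_imE_q P he).symm.trans (P0.six_anisotropic hsix hk hne).1)
    have hW : ∀ e ∈ P0.imE P, ρ x e = e := by
      intro e he
      have h1 := P0.six_imE_invariant P hxs he
      have h2 := P0.six_imE_invariant P hxs h1
      exact P0.six_kPart_eq_zero (hEk _ ((P0.imE P).add_mem h1 h2) (P0.six_kPart_mem e))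
    have h8 := P0.six_fixed_isotropic hsix (P0.imE P) hW
      fun a ha b hb => P0.six_imE_B P ha hb
    obtain ⟨hR, hE⟩ : Nat.card ↥(P0.imD P) = 16 ∧ Nat.card ↥P.E = 16 := by omega
    have hcomm : ∀ r ∈ P0.imD P, r * x = x * r := by
      intro r hr
      refine (P0.six_x_cases r).resolve_right fun hinv => ?_
      haveI : Nontrivial {v : U // v + ρ x v + ρ x (ρ x v) = 0} :=
        Finite.one_lt_card_iff_nontrivial.1 (by rw [hsix.card_plane]; norm_num)
      obtain ⟨⟨k, hk⟩, hk0⟩ := exists_ne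
        (⟨0, by simp [P0.rep.six_ρ_zero]⟩ : {v : U // v + ρ x v + ρ x (ρ x v) = 0})
      have hne : k ≠ 0 := fun h => hk0 (Subtype.ext h)
      have hfixK : ∀ y, y + ρ x y + ρ x (ρ x y) = 0 → ρ r y = y := by
        intro y hy
        have hB : B (pr s) y = 0 := by rw [P0.rep.B_comm]; exact P0.six_perp hy hxs
        have hm := P0.six_comm_cent P hr hB
        have h1 := P0.six_kPart_fixed (hW _ hm)
        rw [P0.six_kPart_add, ← P0.six_l_kPart] at h1
        have hky : kPart ρ x y = y := by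
          have := P0.rep.six_eq_of_add (show y + kPart ρ x y = 0 by
            simpa [kPart, add_assoc] using hy)
          exact this.symm
        rw [hky] at h1
        exact P0.rep.six_eq_of_add h1
      have hxk : ρ x k + ρ x (ρ x k) + ρ x (ρ x (ρ x k)) = 0 := by
        simpa [P0.rep.add, P0.rep.six_ρ_zero] using congrArg (ρ x) hk
      have e := hfixK _ hxk
      rw [P0.six_l_inv hinv, hfixK k hk] at e
      have e2 := congrArg (fun t => ρ x (ρ x t)) e
      simp only [P0.six_x3] at e2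
      exact hne (P0.six_plane_fixed hk e2)
    have := P0.spec.rank_centralizer (P0.imD P) hRsq hcomm
    omega
  have huK : u + ρ x u + ρ x (ρ x u) = 0 := P0.six_kPart_mem _
  have hvW : ρ x v = v := P0.six_wPart_fixed _
  obtain ⟨hqu, hBu⟩ := P0.six_anisotropic hsix huK hu0
  have hqv : q v = 1 := by
    have h := P0.rep.q_add u v
    rw [hsplit, P0.six_imE_q P (P0.six_ps_mem P), hqu, P0.six_perp huK hvW, add_zero] at h
    revert h
    generalize q v = a
    revert a
    decide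
  have hru : ∀ r ∈ P0.imD P, ρ r u = u := fun r hr => by
    rw [hu, P0.six_l_kPart, P0.six_imD_ps P hr]
  have hrv : ∀ r ∈ P0.imD P, ρ r v = v := fun r hr => by
    rw [hv, P0.six_l_wPart, P0.six_imD_ps P hr]
  rcases hcases with ⟨hR, hE⟩ | ⟨hR, hE⟩
  · obtain ⟨r, hr, hinv, hιr⟩ := hRex hR
    have hrr : ∀ w, ρ r (ρ r w) = w := fun w => by rw [← P0.rep.mul, hRsq r hr, P0.rep.six_one]
    have hperpC : ∀ w, ρ x w = w → ρ r w = w → B v w = 0 := by
      intro w hw hrw
      by_contra hne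
      have hone : B v w = 1 := by
        revert hne
        generalize B v w = a
        revert a
        decide
      have hy : ρ x u + ρ x (ρ x u) + ρ x (ρ x (ρ x u)) = 0 := by
        simpa [P0.rep.add, P0.rep.six_ρ_zero] using congrArg (ρ x) huK
      have hB : B (pr s) (ρ x u + w) = 0 := by
        rw [← hsplit, P0.rep.B_add, P0.rep.six_B_add_right, P0.rep.six_B_add_right, hBu,
          P0.six_perp huK hw, P0.rep.B_comm v (ρ x u), P0.six_perp hy hvW, hone]
        decide
      have hm := P0.six_comm_cent P hr hB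
      have e : ρ r (ρ x u + w) + (ρ x u + w) = u := by
        rw [P0.rep.add, P0.six_l_inv hinv, hru r hr, hrw,
          add_add_add_comm, P0.rep.add_self, add_zero]
        refine (P0.rep.six_eq_of_add ?_).symm
        rw [add_comm (ρ x (ρ x u)), ← add_assoc]
        exact huK
      rw [e] at hm
      exact zero_ne_one ((P0.six_imE_q P hm).symm.trans hqu)
    let C : AddSubgroup U :=
      { carrier := {w | ρ x w = w ∧ ∀ c, ρ x c = c → ρ r c = c → B w c = 0}
        zero_mem' := ⟨P0.rep.six_ρ_zero x, fun c _ _ => P0.rep.six_B_zero_left c⟩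
        neg_mem' := fun {a} ha => by rwa [P0.rep.six_neg a]
        add_mem' := fun {a b} ha hb => ⟨by rw [P0.rep.add, ha.1, hb.1], fun c h1 h2 => by
          rw [P0.rep.B_add, ha.2 c h1 h2, hb.2 c h1 h2, add_zero]⟩ }
    have hCr : ∀ w ∈ C, ρ r w = w := by
      intro w hw
      refine P0.rep.six_eq_of_add ?_
      by_contra hne
      obtain ⟨y, hy⟩ := P0.rep.nondeg _ hne
      have hfix : ρ x (ρ r w + w) = ρ r w + w := by
        rw [P0.rep.add, P0.six_l_fixed r hw.1, hw.1]
      rw [P0.rep.B_comm, ← P0.six_split y, P0.rep.six_B_add_right,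
        P0.rep.B_comm (ρ r w + w) (kPart ρ x y), P0.six_perp (P0.six_kPart_mem y) hfix,
        zero_add] at hy
      have hc := hw.2 (ρ r (wPart ρ x y) + wPart ρ x y)
        (by rw [P0.rep.add, P0.six_l_fixed r (P0.six_wPart_fixed y), P0.six_wPart_fixed y])
        (by rw [P0.rep.add, hrr, add_comm])
      rw [P0.rep.six_B_add_right] at hc
      have key : B w (ρ r (wPart ρ x y)) = B (ρ r w) (wPart ρ x y) := by
        conv_lhs => rw [← P0.rep.six_B_isom r, hrr]
      rw [key, ← P0.rep.B_add, hy] at hc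
      exact one_ne_zero hc
    have hC8 : Nat.card ↥C ≤ 8 := P0.six_fixed_isotropic hsix C (fun w hw => hw.1)
      fun a ha b hb => ha.2 b hb.1 (hCr b hb)
    have hιx : ∀ σ w, ρ x (ρ (ι σ) w) = ρ (ι σ) (ρ x w) := fun σ w => by
      rw [← P0.rep.mul, P0.spec.comm, P0.rep.mul]
    have hιr' : ∀ σ w, ρ r (ρ (ι σ) w) = ρ (ι σ) (ρ r w) := fun σ w => by
      rw [← P0.rep.mul, hιr, P0.rep.mul]
    have hCinv : ∀ σ, ∀ w ∈ C, ρ (ι σ) w ∈ C := by
      intro σ w hw
      refine ⟨by rw [hιx, hw.1], fun c h1 h2 => ?_⟩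
      rw [← P0.rep.six_B_isom (ι σ⁻¹), ← P0.rep.mul, ← map_mul, inv_mul_cancel, map_one,
        P0.rep.six_one]
      exact hw.2 _ (by rw [hιx, h1]) (by rw [hιr', h2])
    have hvfix : ∀ σ, ρ (ι σ) v = v := fun σ =>
      hsix.small_fixed C (fun w hw => hw.1) hCinv hC8 σ v ⟨hvW, hperpC⟩
    have hsfix : ∀ σ, ρ (ι σ) (pr s) = pr s := fun σ => by
      rw [← hsplit, P0.rep.add, hsix.fixes_plane σ u huK, hvfix σ]
    let T : AddSubgroup U :=
      { carrier := {w | w ∈ P0.imE P ∧ ρ x w = w}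
        zero_mem' := ⟨(P0.imE P).zero_mem, P0.rep.six_ρ_zero x⟩
        neg_mem' := fun {a} ha => by rwa [P0.rep.six_neg a]
        add_mem' := fun {a b} ha hb =>
          ⟨(P0.imE P).add_mem ha.1 hb.1, by rw [P0.rep.add, ha.2, hb.2]⟩ }
    have hTle : Nat.card ↥T ≤ 8 := by
      have := AddSubgroup.card_le_of_le (K := P0.imE P) (H := T) fun w hw => hw.1
      omega
    have hTfix := hsix.small_fixed T (fun w hw => hw.2)
      (fun σ w hw => ⟨P0.six_imE_invariant P (hsfix σ) hw.1, by rw [hιx, hw.2]⟩) hTle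
    have hnotinj : ¬ Function.Injective (fun e : ↥(P0.imE P) =>
        (⟨kPart ρ x (e : U), P0.six_kPart_mem _⟩ : {w : U // w + ρ x w + ρ x (ρ x w) = 0})) := by
      intro hinj
      have := Nat.card_le_card_of_injective _ hinj
      rw [hsix.card_plane] at this
      omega
    obtain ⟨a, b, hab, hne⟩ := Function.not_injective_iff.1 hnotinj
    have ht : (a : U) + b ∈ T := by
      refine ⟨(P0.imE P).add_mem a.2 b.2, P0.six_kPart_eq_zero ?_⟩
      rw [P0.six_kPart_add, show kPart ρ x (a : U) = kPart ρ x (b : U) from congrArg Subtype.val hab,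
        P0.rep.add_self]
    have hBvt : B v ((a : U) + b) = 0 := by
      have h := P0.six_imE_B P (P0.six_ps_mem P) ht.1
      rwa [← hsplit, P0.rep.B_add, P0.six_perp huK ht.2, zero_add] at h
    exact hne (Subtype.ext (P0.rep.six_eq_of_add (hsix.fixed_plane v _ hvW ht.2 hvfix
      (fun σ => hTfix σ _ ht) hqv (P0.six_imE_q P ht.1) hBvt)))
  · have htriv : ∀ r ∈ P0.imD P, r * x = x * r → r = 1 := by
      intro r hr hrx
      obtain ⟨d, hd, rfl⟩ := hr
      refine (P0.θ_ker d ((P.mem_D P0.hyp).1 hd).2).2 (P.mem_Q_of_centralizes P0.hyp hE hd ?_)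
      intro e he
      rcases P.comm_E P0.hyp hd he with h | h
      · exact (mul_inv_eq_iff_eq_mul.1 h).symm
      exfalso
      have h1 := P0.θ_pr d ((P.mem_D P0.hyp).1 hd).2 e he.1
      rw [h, P0.pr_mul _ P.mem _ he.1] at h1
      have h2 := congrArg (kPart ρ x) h1
      rw [P0.six_kPart_add, ← P0.six_l_kPart,
        P0.six_fix_plane hsix hrx huK (P0.six_kPart_mem _) hu0 (hru _ ⟨d, hd, rfl⟩), ← hu] at h2
      exact hu0 (add_eq_right.1 h2)
    have hone : ∀ r1 ∈ P0.imD P, r1 ≠ 1 → ∀ r2 ∈ P0.imD P, r2 ≠ 1 → r1 = r2 := by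
      intro r1 h1 n1 r2 h2 n2
      have i1 := (P0.six_x_cases r1).resolve_left fun h => n1 (htriv r1 h1 h)
      have i2 := (P0.six_x_cases r2).resolve_left fun h => n2 (htriv r2 h2 h)
      have e : r1 * r2 = 1 := by
        refine htriv _ ((P0.imD P).mul_mem h1 h2) (mul_inv_eq_iff_eq_mul.1 ?_)
        calc r1 * r2 * x * (r1 * r2)⁻¹ = r1 * (r2 * x * r2⁻¹) * r1⁻¹ := by group
          _ = (r1 * x * r1⁻¹)⁻¹ := by rw [i2]; group
          _ = x := by rw [i1, inv_inv]
      calc r1 = r1 * (r2 * r2) := by rw [hRsq r2 h2, mul_one]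
        _ = r2 := by rw [← mul_assoc, e, one_mul]
    by_cases hex : ∃ r0 ∈ P0.imD P, r0 ≠ 1
    · obtain ⟨r0, hr0, n0⟩ := hex
      have hsub : (P0.imD P : Set L) ⊆ {1, r0} := fun r hr => by
        by_cases hr1 : r = 1
        · exact Or.inl hr1
        · exact Or.inr (hone r hr hr1 r0 hr0 n0)
      have h2 := (Set.ncard_le_ncard hsub (Set.toFinite _)).trans (Set.ncard_insert_le _ _)
      rw [Set.ncard_singleton,
        show (P0.imD P : Set L).ncard = Nat.card ↥(P0.imD P) from rfl] at h2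
      omega
    · push Not at hex
      have hb : P0.imD P = ⊥ := (Subgroup.eq_bot_iff_forall _).2 hex
      rw [hb, Subgroup.card_bot] at hR
      omega

omit P in
/-- The exclusion, with the arguments in the order used by the assembly. -/
theorem not_six (hsix : Six ρ q B x ι) {g' s' : G} (P' : Partner z Q g' s') : False :=
  P0.not_six_aux P' hsix

end Pre

end CfsgLib.SmithNine70
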