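import Cfsg.Agent.SmithNine70.Model

/-!
Facts about the quadratic space and the generators checked by computation.
-/

set_option autoImplicit false
set_option synthInstance.maxSize 2000

namespace CfsgLib.SmithNine70

theorem w_add_self : ∀ u : W, u + u = 0 := by decide +kernel

theorem v_add_self (v : V) : v + v = 0 := Prod.ext (w_add_self _) (w_add_self _)

theorem z2_cases : ∀ a : ZMod 2, a = 0 ∨ a = 1 := by decide +kernel

theorem bw_comm : ∀ u v : W, bw u v = bw v u := by decide +kernel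

theorem bw_self : ∀ u : W, bw u u = 0 := by decide +kernel

theorem bw_add_left (u v w : W) : bw (u + v) w = bw u w + bw v w := by
  simp only [bw, Prod.fst_add, Prod.snd_add]; ring

theorem bw_add_right (u v w : W) : bw u (v + w) = bw u v + bw u w := by
  simp only [bw, Prod.fst_add, Prod.snd_add]; ring

theorem bw_zero_left : ∀ u : W, bw 0 u = 0 := by decide +kernel

theorem bw_zero_right : ∀ u : W, bw u 0 = 0 := by decide +kernel

theorem qv_add (u v : V) : qv (u + v) = qv u + qv v + bv u v := by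
  simp only [qv, bv, Prod.fst_add, Prod.snd_add, bw_add_left, bw_add_right, bw_comm v.1 u.2]
  ring

theorem qv_zero : qv 0 = 0 := bw_self 0

theorem bw_nondeg : ∀ u : W, u ≠ 0 → ∃ v : W, bw u v = 1 := by decide +kernel

/-- A word carrying the base vector to a given vector. -/
def wordTo (o : Fin 2) (u : W) : List (Fin 3) :=
  let k := 8 * u.1.val + 4 * u.2.1.val + 2 * u.2.2.1.val + u.2.2.2.val
  match o with
  | 0 => [[], [1, 2, 0, 2, 0], [2, 0, 2, 0], [2, 1, 1, 0, 2, 0], [0], [2, 0, 0], [1, 1, 2, 0, 0],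
      [1, 2, 0, 0], [], [0, 2, 0], [1, 1, 0, 2, 0], [1, 0, 2, 0], [0, 0], [2, 0], [1, 1, 2, 0],
      [1, 2, 0]].getD k []
  | 1 => [[], [2, 0, 0], [0, 2, 0, 0], [2, 2, 0], [0], [2, 0, 2], [2], [2, 0], [], [0, 0, 2],
      [1, 0, 2], [1, 1, 2], [0, 0], [1, 2], [2, 2], [0, 2]].getD k []

theorem word_to : ∀ o : Fin 2, ∀ u : W, u ≠ 0 → word o (wordTo o u) w0 = u := by decide +kernel

/-- A word fixing the base vector. -/
def wordFix : Fin 2 → List (Fin 3)
  | 0 => [1]
  | 1 => [0, 0, 1]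

theorem word_fix : ∀ o : Fin 2, word o (wordFix o) w0 = w0 := by decide +kernel

theorem span_fix : ∀ o : Fin 2, ∀ v : W, bw v w0 = 0 → v ≠ 0 → v ≠ w0 → ∀ u : W, bw u w0 = 0 →
    ∃ a b c : ZMod 2, u = a • w0 + b • v + c • word o (wordFix o) v := by decide +kernel

theorem gen_add : ∀ o : Fin 2, ∀ i : Fin 3, ∀ u v : W, gen o i (u + v) = gen o i u + gen o i v := by
  decide +kernel

theorem gen_form : ∀ o : Fin 2, ∀ i : Fin 3, ∀ u v : W, bw (gen o i u) (gen o i v) = bw u v := by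
  decide +kernel

theorem gen_cube : ∀ o : Fin 2, ∀ i : Fin 3, ∀ u : W, gen o i (gen o i (gen o i u)) = u := by
  decide +kernel

theorem isSymp_gen (o : Fin 2) (i : Fin 3) : IsSymp (gen o i) := ⟨gen_add o i, gen_form o i⟩

theorem isSymp_id : IsSymp id := ⟨fun _ _ => rfl, fun _ _ => rfl⟩

theorem IsSymp.comp {σ τ : W → W} (hσ : IsSymp σ) (hτ : IsSymp τ) : IsSymp (σ ∘ τ) :=
  ⟨fun u v => by simp [hτ.add, hσ.add], fun u v => by simp [hσ.form, hτ.form]⟩

theorem isSymp_word (o : Fin 2) : ∀ l : List (Fin 3), IsSymp (word o l)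
  | [] => isSymp_id
  | i :: l => (isSymp_gen o i).comp (isSymp_word o l)

theorem IsSymp.zero {σ : W → W} (hσ : IsSymp σ) : σ 0 = 0 := by
  have := hσ.add 0 0
  rw [add_zero, eq_comm, add_eq_left] at this
  exact this

theorem IsSymp.smul {σ : W → W} (hσ : IsSymp σ) (a : ZMod 2) (u : W) : σ (a • u) = a • σ u := by
  rcases z2_cases a with rfl | rfl
  · rw [zero_smul, zero_smul, hσ.zero]
  · rw [one_smul, one_smul]

theorem IsSymp.injective {σ : W → W} (hσ : IsSymp σ) : Function.Injective σ := by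
  intro u v e
  by_contra hne
  obtain ⟨y, hy⟩ := bw_nondeg (u + v) (fun e' => hne (by
    calc u = u + (v + v) := by rw [w_add_self, add_zero]
      _ = v := by rw [← add_assoc, e', zero_add]))
  rw [← hσ.form, hσ.add, e, w_add_self, bw_zero_left] at hy
  exact zero_ne_one hy

/-- The transvection fixing the hyperplane orthogonal to the base vector. -/
def tw (u : W) : W := u + bw u w0 • w0

theorem isSymp_tw : IsSymp tw :=
  ⟨by unfold tw; decide +kernel, by unfold tw; decide +kernel⟩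

/-- The vector not orthogonal to the base vector. -/
def y0 : W := (0, 1, 0, 0)

theorem decomp : ∀ u : W, u = bw u w0 • y0 + (u + bw u w0 • y0) ∧ bw (u + bw u w0 • y0) w0 = 0 := by
  decide +kernel

theorem y0_image : ∀ s : W, (∀ u : W, bw u w0 = 0 → bw s u = bw y0 u) → s = y0 ∨ s = y0 + w0 := by
  decide +kernel

/-- A symplectic map fixing the hyperplane is trivial or the transvection. -/
theorem IsSymp.eq_id_or_tw {σ : W → W} (hσ : IsSymp σ) (h : ∀ u : W, bw u w0 = 0 → σ u = u) :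
    σ = id ∨ σ = tw := by
  rcases y0_image (σ y0) (fun u hu => by rw [← hσ.form y0 u, h u hu]) with e | e
  · left; funext u
    obtain ⟨e1, e2⟩ := decomp u
    rw [e1, hσ.add, hσ.smul, e, h _ e2]; rfl
  · right; funext u
    obtain ⟨e1, e2⟩ := decomp u
    conv_lhs => rw [e1]
    rw [hσ.add, hσ.smul, e, h _ e2]
    simp only [tw, smul_add]
    have := w_add_self (bw u w0 • y0)
    calc bw u w0 • y0 + bw u w0 • w0 + (u + bw u w0 • y0)
        = u + bw u w0 • w0 + (bw u w0 • y0 + bw u w0 • y0) := by abel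
      _ = u + bw u w0 • w0 := by rw [this, add_zero]

theorem gl_id : ∀ a b c d : ZMod 2, a * d + b * c = 1 →
    (a • w0, c • w0) = ((w0, 0) : V) → (b • w0, d • w0) = ((0, w0) : V) →
    a = 1 ∧ b = 0 ∧ c = 0 ∧ d = 1 := by decide +kernel

theorem gl_invol : ∀ a b c d a' b' c' d' : ZMod 2, a * d + b * c = 1 → a' * d' + b' * c' = 1 →
    a * a + b * c = 1 → a * b + b * d = 0 → c * a + d * c = 0 → c * b + d * d = 1 →
    a' * a' + b' * c' = 1 → a' * b' + b' * d' = 0 → c' * a' + d' * c' = 0 → c' * b' + d' * d' = 1 →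
    a * a' + b * c' = a' * a + b' * c → a * b' + b * d' = a' * b + b' * d →
    c * a' + d * c' = c' * a + d' * c → c * b' + d * d' = c' * b + d' * d →
    ¬(a = 1 ∧ b = 0 ∧ c = 0 ∧ d = 1) → ¬(a' = 1 ∧ b' = 0 ∧ c' = 0 ∧ d' = 1) →
    a = a' ∧ b = b' ∧ c = c' ∧ d = d' := by decide +kernel

theorem pure_w : ∀ v : V, Pure v → ∃ w : W, w ≠ 0 ∧ (v = (w, 0) ∨ v = (0, w) ∨ v = (w, w)) := by
  rintro ⟨v1, v2⟩ ⟨h0, h⟩
  dsimp only at h
  rcases h with rfl | rfl | rfl
  · exact ⟨v2, fun e => h0 (by rw [e]; rfl), Or.inr (Or.inl rfl)⟩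
  · exact ⟨v1, fun e => h0 (by rw [e]; rfl), Or.inl rfl⟩
  · exact ⟨v1, fun e => h0 (by rw [e]; rfl), Or.inr (Or.inr rfl)⟩

theorem pure_fst : ∀ w : W, w ≠ 0 → Pure (w, 0) := fun w hw =>
  ⟨fun e => hw (congrArg Prod.fst e), Or.inr (Or.inl rfl)⟩

theorem w0_ne : w0 ≠ 0 := by decide

theorem y0_ne : y0 ≠ 0 := by decide

theorem bw_w0_y0 : bw w0 y0 = 1 := by decide

end CfsgLib.SmithNine70
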