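import Cfsg.Agent.SmithNine70.Lines
import Cfsg.Agent.SmithNine70.Facts

/-!
Coordinates from one nonsingular eigenvector of the elementary subgroup of order nine.
-/

set_option autoImplicit false
set_option linter.unusedSectionVars false
set_option synthInstance.maxSize 2000

namespace CfsgLib.SmithNine70

/-- Four coordinates in the field of four elements. -/
abbrev K4 := F4 × F4 × F4 × F4

/-- The exponents of the first generator on the four lines. -/
def chA : Fin 2 → Fin 4 → Fin 3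
  | 0 => ![1, 0, 2, 0]
  | 1 => ![1, 2, 2, 1]

/-- The exponents of the second generator on the four lines. -/
def chB : Fin 2 → Fin 4 → Fin 3
  | 0 => ![0, 1, 0, 2]
  | 1 => ![1, 1, 2, 2]

/-- Coordinate access. -/
def crd (k : K4) : Fin 4 → F4
  | 0 => k.1
  | 1 => k.2.1
  | 2 => k.2.2.1
  | 3 => k.2.2.2

/-- Multiplication of the coordinates by powers of `ω`. -/
def dK (c : Fin 4 → Fin 3) (k : K4) : K4 :=
  (wpow (c 0) k.1, wpow (c 1) k.2.1, wpow (c 2) k.2.2.1, wpow (c 3) k.2.2.2)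

/-- The cyclic shift. -/
def shiftK (k : K4) : K4 := (k.2.2.2, k.1, k.2.1, k.2.2.1)

/-- The Hankel map with parameter `h`. -/
def cK (h k : K4) : K4 :=
  let out : Fin 4 → F4 := fun i =>
    fmul (crd h i) k.1 + fmul (crd h (i + 1)) k.2.1 + fmul (crd h (i + 2)) k.2.2.1 +
      fmul (crd h (i + 3)) k.2.2.2
  (out 0, out 1, out 2, out 3)

/-- The parameter of the Hankel map. -/
def h0 : Fin 2 → K4
  | 0 => ((1, 0), (0, 0), (1, 0), (1, 0))
  | 1 => ((1, 0), (1, 0), (0, 0), (1, 0))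

/-- The four field coordinates of a vector of `W`. -/
def lam (u : W) : Fin 4 → F4
  | 0 => (u.1, u.2.1)
  | 1 => (u.2.2.1, u.2.2.2)
  | 2 => cj (u.1, u.2.1)
  | 3 => cj (u.2.2.1, u.2.2.2)

/-- The field coordinates of a vector of `V`. -/
def kmap (v : V) : K4 :=
  (lam v.1 0 + wmul (lam v.2 0), lam v.1 1 + wmul (lam v.2 1), lam v.1 2 + wmul (lam v.2 2),
    lam v.1 3 + wmul (lam v.2 3))

/-- The semilinear monomial map. -/
def tK (ε η : Bool) (j : Fin 4) (μ : F4) (k : K4) : K4 :=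
  let out : Fin 4 → F4 := fun i =>
    fmul μ ((if ε then cj else id) (crd k (if η then j - i else i - j)))
  (out 0, out 1, out 2, out 3)

/-- The symplectic part of a semilinear monomial map. -/
def sigT (ε η : Bool) (j : Fin 4) (u : W) : W :=
  let out : Fin 4 → F4 := fun i => (if ε then cj else id) (lam u (if η then j - i else i - j))
  ((out 0).1, (out 0).2, (out 1).1, (out 1).2)

theorem kmap_add (u v : V) : kmap (u + v) = kmap u + kmap v := by
  simp only [kmap, lam, cj, wmul, Prod.fst_add, Prod.snd_add, Prod.mk_add_mk, Prod.mk.injEq]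
  refine ⟨⟨?_, ?_⟩, ⟨?_, ?_⟩, ⟨?_, ?_⟩, ?_, ?_⟩ <;> ring

theorem kmap_zero : ∀ v : V, kmap v = 0 → v = 0 := by decide +kernel

theorem kmap_qv : ∀ v : V, qv v = (if (kmap v).1 = 0 then 0 else 1) + (if (kmap v).2.1 = 0 then 0 else 1) +
    (if (kmap v).2.2.1 = 0 then 0 else 1) + (if (kmap v).2.2.2 = 0 then 0 else 1) := by decide +kernel

theorem kmap_mX : ∀ v : V, kmap (mX v) = (wmul (kmap v).1, wmul (kmap v).2.1, wmul (kmap v).2.2.1,
    wmul (kmap v).2.2.2) := by decide +kernel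

theorem kmap_gA : ∀ o : Fin 2, ∀ v : V,
    kmap (tmap 1 0 0 1 (gA o) v) = dK (chA o) (kmap v) := by decide +kernel

theorem kmap_gB : ∀ o : Fin 2, ∀ v : V,
    kmap (tmap 1 0 0 1 (gB o) v) = dK (chB o) (kmap v) := by decide +kernel

theorem kmap_gC : ∀ o : Fin 2, ∀ v : V,
    kmap (tmap 1 0 0 1 (gC o) v) = cK (h0 o) (kmap v) := by decide +kernel

/-- The action of `c a b` on coordinates. -/
def cabK (o : Fin 2) (h k : K4) : K4 := cK h (dK (chA o) (dK (chB o) k))

theorem hankel_unique : ∀ o : Fin 2, ∀ h : K4,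
    cK h (cK h ((1, 0), 0, 0, 0)) = (((1, 0), 0, 0, 0) : K4) →
    cK h (cK h (0, (1, 0), 0, 0)) = ((0, (1, 0), 0, 0) : K4) →
    cabK o h (cabK o h (cabK o h ((1, 0), 0, 0, 0))) = (((1, 0), 0, 0, 0) : K4) →
    cabK o h (cabK o h (cabK o h (0, (1, 0), 0, 0))) = ((0, (1, 0), 0, 0) : K4) →
    cabK o h (cabK o h (cabK o h (0, 0, (1, 0), 0))) = ((0, 0, (1, 0), 0) : K4) →
    cabK o h (cabK o h (cabK o h (0, 0, 0, (1, 0)))) = ((0, 0, 0, (1, 0)) : K4) →
    h = h0 o := by decide +kernel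

theorem eigen_single : ∀ o : Fin 2, ∀ i : Fin 4, ∀ α β : Fin 3, α = chA o i → β = chB o i →
    ∀ j : Fin 4, j ≠ i → chA o j ≠ α ∨ chB o j ≠ β := by decide +kernel

theorem sigT_symp_form : ∀ ε η : Bool, ∀ j : Fin 4, ∀ u v : W,
    bw (sigT ε η j u) (sigT ε η j v) = bw u v := by decide +kernel

theorem sigT_add : ∀ ε η : Bool, ∀ j : Fin 4, ∀ u v : W,
    sigT ε η j (u + v) = sigT ε η j u + sigT ε η j v := by decide +kernel

theorem isSymp_sigT (ε η : Bool) (j : Fin 4) : IsSymp (sigT ε η j) :=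
  ⟨sigT_add ε η j, sigT_symp_form ε η j⟩

theorem kmap_tK : ∀ ε η : Bool, ∀ j : Fin 4, ∀ μ : F4, μ ≠ 0 →
    ∃ a b c d : ZMod 2, a * d + b * c = 1 ∧
      ∀ v : V, kmap (tmap a b c d (sigT ε η j) v) = tK ε η j μ (kmap v) := by decide +kernel

theorem wpow_eq_fmul : ∀ r : F4, ∀ a : Fin 3, wpow a r = fmul r (wpow a (1, 0)) := by decide

theorem sigT_id : ∀ u : W, sigT true false 2 u = u := by decide +kernel

variable {L : Type*} [Group L] {U : Type*} [AddCommGroup U] {ρ : L → U → U} {q : U → ZMod 2}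
  {B : U → U → ZMod 2} {x : L} {ι : Asix →* L}

/-- A nonsingular eigenvector with one of the two normalized pairs of eigenvalues. -/
structure Seed (ρ : L → U → U) (q : U → ZMod 2) (x : L) (ι : Asix →* L) (o : Fin 2) (e : U) :
    Prop where
  moved : e + ρ x e + ρ x (ρ x e) = 0
  nonsingular : q e = 1
  eigA : ρ (ι pA) e = line ρ x e (wpow (chA o 0) (1, 0))
  eigB : ρ (ι pB) e = line ρ x e (wpow (chB o 0) (1, 0))

theorem asix_rel : pA * pF = pF * pB⁻¹ ∧ pB * pF = pF * pA ∧ pF * (pF * (pF * pF)) = 1 ∧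
    pC * pF = pF⁻¹ * pC ∧ pC * pC = 1 ∧
    pC * pA * pB * (pC * pA * pB * (pC * pA * pB)) = 1 ∧ pA * pB = pB * pA ∧
    pA * (pA * pA) = 1 ∧ pB * (pB * pB) = 1 := by decide +kernel

section

variable (R : Rep ρ q B) (S : LSpec x ι)
include R S

theorem comm_x (σ : Asix) : ι σ * x = x * ι σ := (S.comm σ).symm

theorem x_moved_fixed (σ : Asix) {v : U} (hv : v + ρ x v + ρ x (ρ x v) = 0) :
    ρ (ι σ) v + ρ x (ρ (ι σ) v) + ρ x (ρ x (ρ (ι σ) v)) = 0 := by
  have hc : ∀ w, ρ x (ρ (ι σ) w) = ρ (ι σ) (ρ x w) := fun w => by rw [← R.mul, S.comm, R.mul]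
  rw [hc, hc, ← R.add, ← R.add, hv, R.zero]

/-- The image of the inverse of an element with known eigenvalue. -/
theorem eigen_inv {σ : Asix} {v : U} {i : Fin 3} (hv : v + ρ x v + ρ x (ρ x v) = 0)
    (h : ρ (ι σ) v = line ρ x v (wpow i (1, 0))) :
    ρ (ι σ⁻¹) v = line ρ x v (wpow (-i) (1, 0)) := by
  apply R.inj (ι σ)
  rw [map_inv, R.apply_inv, R.map_line (comm_x R S σ), h]
  show v = sm _ (line ρ x v _) + sm _ (ρ x (line ρ x v _))
  rw [R.line_fmul x hv]
  have key : ∀ i : Fin 3, fmul (wpow i (1, 0)) (wpow (-i) (1, 0)) = ((1, 0) : F4) := by decide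
  rw [key]
  simp [line]

/-- The image of a line. -/
theorem eigen_line {σ : Asix} {v : U} {i : Fin 3} (hv : v + ρ x v + ρ x (ρ x v) = 0)
    (h : ρ (ι σ) v = line ρ x v (wpow i (1, 0))) (p : F4) :
    ρ (ι σ) (line ρ x v p) = line ρ x v (wpow i p) := by
  rw [R.map_line (comm_x R S σ), h]
  show sm _ (line ρ x v _) + sm _ (ρ x (line ρ x v _)) = _
  rw [R.line_fmul x hv]
  have key : ∀ i : Fin 3, ∀ p, fmul (wpow i (1, 0)) p = wpow i p := by decide
  rw [key]

end

/-- The translates of the eigenvector. -/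
def eI (ρ : L → U → U) (ι : Asix →* L) (e : U) : Fin 4 → U
  | 0 => e
  | 1 => ρ (ι pF) e
  | 2 => ρ (ι pF) (ρ (ι pF) e)
  | 3 => ρ (ι pF) (ρ (ι pF) (ρ (ι pF) e))

/-- The map from coordinates. -/
def psi (ρ : L → U → U) (x : L) (ι : Asix →* L) (e : U) (k : K4) : U :=
  line ρ x (eI ρ ι e 0) k.1 + line ρ x (eI ρ ι e 1) k.2.1 + line ρ x (eI ρ ι e 2) k.2.2.1 +
    line ρ x (eI ρ ι e 3) k.2.2.2

namespace Seed

variable {o : Fin 2} {e : U} (E : Seed ρ q x ι o e) (R : Rep ρ q B) (S : LSpec x ι)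
include E R S

theorem eI_moved (i : Fin 4) :
    eI ρ ι e i + ρ x (eI ρ ι e i) + ρ x (ρ x (eI ρ ι e i)) = 0 := by
  fin_cases i
  · exact E.moved
  · exact x_moved_fixed R S pF E.moved
  · exact x_moved_fixed R S pF (x_moved_fixed R S pF E.moved)
  · exact x_moved_fixed R S pF (x_moved_fixed R S pF (x_moved_fixed R S pF E.moved))

theorem q_eI (i : Fin 4) : q (eI ρ ι e i) = 1 := by
  fin_cases i <;> simp only [eI, R.isom] <;> exact E.nonsingular

theorem eig_step {v : U} {α β : Fin 3} (hv : v + ρ x v + ρ x (ρ x v) = 0)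
    (ha : ρ (ι pA) v = line ρ x v (wpow α (1, 0))) (hb : ρ (ι pB) v = line ρ x v (wpow β (1, 0))) :
    ρ (ι pA) (ρ (ι pF) v) = line ρ x (ρ (ι pF) v) (wpow (-β) (1, 0)) ∧
      ρ (ι pB) (ρ (ι pF) v) = line ρ x (ρ (ι pF) v) (wpow α (1, 0)) := by
  constructor
  · rw [← R.mul, ← map_mul, asix_rel.1, map_mul, R.mul, eigen_inv R S hv hb,
      R.map_line (comm_x R S pF)]
  · rw [← R.mul, ← map_mul, asix_rel.2.1, map_mul, R.mul, ha, R.map_line (comm_x R S pF)]

theorem eig (i : Fin 4) :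
    ρ (ι pA) (eI ρ ι e i) = line ρ x (eI ρ ι e i) (wpow (chA o i) (1, 0)) ∧
      ρ (ι pB) (eI ρ ι e i) = line ρ x (eI ρ ι e i) (wpow (chB o i) (1, 0)) := by
  have s0 := And.intro E.eigA E.eigB
  have s1 := E.eig_step R S E.moved s0.1 s0.2
  have s2 := E.eig_step R S (E.eI_moved R S 1) s1.1 s1.2
  have s3 := E.eig_step R S (E.eI_moved R S 2) s2.1 s2.2
  have key : ∀ o : Fin 2, chA o 1 = -chB o 0 ∧ chB o 1 = chA o 0 ∧ chA o 2 = -chA o 0 ∧
      chB o 2 = -chB o 0 ∧ chA o 3 = -(-chB o 0) ∧ chB o 3 = -chA o 0 := by decide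
  obtain ⟨k1, k2, k3, k4, k5, k6⟩ := key o
  fin_cases i
  · exact s0
  · show _ ∧ _
    rw [show ((⟨1, by norm_num⟩ : Fin 4)) = 1 from rfl, k1, k2]; exact s1
  · show _ ∧ _
    rw [show ((⟨2, by norm_num⟩ : Fin 4)) = 2 from rfl, k3, k4]; exact s2
  · show _ ∧ _
    rw [show ((⟨3, by norm_num⟩ : Fin 4)) = 3 from rfl, k5, k6]; exact s3

theorem psi_add (k k' : K4) : psi ρ x ι e (k + k') = psi ρ x ι e k + psi ρ x ι e k' := by
  simp only [psi, Prod.fst_add, Prod.snd_add, R.line_add]; abel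

theorem psi_x (k : K4) :
    ρ x (psi ρ x ι e k) = psi ρ x ι e (wmul k.1, wmul k.2.1, wmul k.2.2.1, wmul k.2.2.2) := by
  simp only [psi, R.add, R.line_wmul x (E.eI_moved R S _)]

theorem psi_A (k : K4) : ρ (ι pA) (psi ρ x ι e k) = psi ρ x ι e (dK (chA o) k) := by
  simp only [psi, dK, R.add, eigen_line R S (E.eI_moved R S _) (E.eig R S _).1]

theorem psi_B (k : K4) : ρ (ι pB) (psi ρ x ι e k) = psi ρ x ι e (dK (chB o) k) := by
  simp only [psi, dK, R.add, eigen_line R S (E.eI_moved R S _) (E.eig R S _).2]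

theorem psi_F (k : K4) : ρ (ι pF) (psi ρ x ι e k) = psi ρ x ι e (shiftK k) := by
  have h4 : ρ (ι pF) (eI ρ ι e 3) = eI ρ ι e 0 := by
    simp only [eI]
    rw [← R.mul, ← R.mul, ← R.mul, ← map_mul, ← map_mul, ← map_mul,
      show pF * pF * pF * pF = pF * (pF * (pF * pF)) by group, asix_rel.2.2.1, map_one, R.one]
  simp only [psi, shiftK, R.add, R.map_line (comm_x R S pF), h4]
  show _ = line ρ x (eI ρ ι e 0) _ + line ρ x (ρ (ι pF) (eI ρ ι e 0)) _ +
    line ρ x (ρ (ι pF) (eI ρ ι e 1)) _ + line ρ x (ρ (ι pF) (eI ρ ι e 2)) _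
  abel

theorem pairing (i j : Fin 4) (r p : F4) :
    B (line ρ x (eI ρ ι e i) r) (line ρ x (eI ρ ι e j) p) =
      if i = j then r.1 * p.2 + r.2 * p.1 else 0 := by
  split_ifs with hij
  · subst hij
    have hb := R.B_self_x x (E.eI_moved R S i)
    rw [E.q_eI R S i] at hb
    have hz : ∀ a : ZMod 2, a = 0 ∨ a = 1 := by decide
    obtain ⟨r1, r2⟩ := r
    obtain ⟨p1, p2⟩ := p
    rcases hz r1 with rfl | rfl <;> rcases hz r2 with rfl | rfl <;> rcases hz p1 with rfl | rfl <;>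
      rcases hz p2 with rfl | rfl <;>
      simp [line, R.B_add, R.B_add', R.B_zero, R.B_zero', R.B_self, hb, R.B_comm (ρ x _) (eI ρ ι e i)] <;>
      decide
  · -- distinct lines
    set u := line ρ x (eI ρ ι e i) r with hu
    have hu0 := R.line_mem_moved x (E.eI_moved R S i) r
    rcases eigen_single o i _ _ rfl rfl j (Ne.symm hij) with hd | hd
    · refine R.orth_eigen (comm_x R S pA) hu0 (E.eI_moved R S j) (chA o i) (chA o j) hd.symm ?_
        (E.eig R S j).1 p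
      rw [eigen_line R S (E.eI_moved R S i) (E.eig R S i).1]
      show _ = sm _ (line ρ x _ r) + sm _ (ρ x (line ρ x _ r))
      rw [R.line_fmul x (E.eI_moved R S i)]
      rw [wpow_eq_fmul]
    · refine R.orth_eigen (comm_x R S pB) hu0 (E.eI_moved R S j) (chB o i) (chB o j) hd.symm ?_
        (E.eig R S j).2 p
      rw [eigen_line R S (E.eI_moved R S i) (E.eig R S i).2]
      show _ = sm _ (line ρ x _ r) + sm _ (ρ x (line ρ x _ r))
      rw [R.line_fmul x (E.eI_moved R S i)]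
      rw [wpow_eq_fmul]

theorem psi_pairing (k : K4) (j : Fin 4) (p : F4) :
    B (psi ρ x ι e k) (line ρ x (eI ρ ι e j) p) = (crd k j).1 * p.2 + (crd k j).2 * p.1 := by
  simp only [psi, R.B_add, E.pairing R S]
  fin_cases j <;> simp [crd]

theorem psi_injective : Function.Injective (psi ρ x ι e) := by
  intro k k' h
  have h0 : psi ρ x ι e (k + k') = 0 := by rw [E.psi_add R S, h, R.add_self]
  have hz : ∀ j, crd (k + k') j = 0 := by
    intro j
    have a1 := E.psi_pairing R S (k + k') j (1, 0)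
    have a2 := E.psi_pairing R S (k + k') j (0, 1)
    rw [h0, R.B_zero] at a1 a2
    simp only [mul_zero, mul_one, zero_add, add_zero] at a1 a2
    exact Prod.ext a2.symm a1.symm
  have key : ∀ a b : F4, a + b = 0 → a = b := by decide
  exact Prod.ext (key _ _ (hz 0)) (Prod.ext (key _ _ (hz 1)) (Prod.ext (key _ _ (hz 2)) (key _ _ (hz 3))))

theorem psi_bijective : Function.Bijective (psi ρ x ι e) := by
  haveI : Finite U := Nat.finite_of_card_ne_zero (by rw [R.card]; norm_num)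
  refine (Nat.bijective_iff_injective_and_card _).2 ⟨E.psi_injective R S, ?_⟩
  rw [R.card]
  simp [Nat.card_prod, Nat.card_zmod]

theorem q_psi (k : K4) : q (psi ρ x ι e k) = (if k.1 = 0 then 0 else 1) + (if k.2.1 = 0 then 0 else 1) +
    (if k.2.2.1 = 0 then 0 else 1) + (if k.2.2.2 = 0 then 0 else 1) := by
  simp only [psi, R.q_add, R.B_add, E.pairing R S, R.q_line x (E.eI_moved R S _), E.q_eI R S]
  simp

/-- The whole space is moved by `x`. -/
theorem all_moved (v : U) : v + ρ x v + ρ x (ρ x v) = 0 := by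
  obtain ⟨k, rfl⟩ := (E.psi_bijective R S).2 v
  rw [E.psi_x R S, E.psi_x R S, ← E.psi_add R S, ← E.psi_add R S]
  have : k + (wmul k.1, wmul k.2.1, wmul k.2.2.1, wmul k.2.2.2) + (wmul (wmul k.1), wmul (wmul k.2.1),
      wmul (wmul k.2.2.1), wmul (wmul k.2.2.2)) = 0 := by
    have key : ∀ p : F4, p + wmul p + wmul (wmul p) = 0 := by decide
    exact Prod.ext (key _) (Prod.ext (key _) (Prod.ext (key _) (key _)))
  rw [this]
  simp [psi, R.line_zero]

theorem psi_line (g : K4) (p : F4) : line ρ x (psi ρ x ι e g) p =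
    psi ρ x ι e (fmul g.1 p, fmul g.2.1 p, fmul g.2.2.1 p, fmul g.2.2.2 p) := by
  simp only [psi, ← R.line_fmul x (E.eI_moved R S _)]
  simp only [line, R.add, sm_add_right]
  abel

theorem psi_C : ∀ k : K4, ρ (ι pC) (psi ρ x ι e k) = psi ρ x ι e (cK (h0 o) k) := by
  obtain ⟨h, hh⟩ := (E.psi_bijective R S).2 (ρ (ι pC) e)
  have hf : ∀ (v : U), ρ (ι pC) (ρ (ι pF) v) = ρ (ι pF⁻¹) (ρ (ι pC) v) := fun v => by
    rw [← R.mul, ← map_mul, asix_rel.2.2.2.1, map_mul, R.mul]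
  have hfi : ∀ k : K4, ρ (ι pF⁻¹) (psi ρ x ι e k) = psi ρ x ι e (shiftK (shiftK (shiftK k))) := by
    intro k
    apply R.inj (ι pF)
    rw [map_inv, R.apply_inv, E.psi_F R S]
    rfl
  have e1 : ρ (ι pC) (eI ρ ι e 1) = psi ρ x ι e (shiftK (shiftK (shiftK h))) := by
    simp only [eI]; rw [hf, ← hh, hfi]
  have e2 : ρ (ι pC) (eI ρ ι e 2) = psi ρ x ι e (shiftK (shiftK h)) := by
    show ρ (ι pC) (ρ (ι pF) (eI ρ ι e 1)) = _
    rw [hf, e1, hfi]; rfl
  have e3 : ρ (ι pC) (eI ρ ι e 3) = psi ρ x ι e (shiftK h) := by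
    show ρ (ι pC) (ρ (ι pF) (eI ρ ι e 2)) = _
    rw [hf, e2, hfi]; rfl
  have gen : ∀ k : K4, ρ (ι pC) (psi ρ x ι e k) = psi ρ x ι e (cK h k) := by
    intro k
    have e0 : ρ (ι pC) (eI ρ ι e 0) = psi ρ x ι e h := hh.symm
    conv_lhs => rw [psi]
    simp only [R.add, R.map_line (comm_x R S pC), e0, e1, e2, e3, E.psi_line R S, ← E.psi_add R S]
    congr 1
  have hab : ∀ k, ρ (ι (pC * pA * pB)) (psi ρ x ι e k) = psi ρ x ι e (cabK o h k) := fun k => by
    rw [map_mul, map_mul, R.mul, R.mul, E.psi_B R S, E.psi_A R S, gen]; rfl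
  have hcc : ∀ k, cK h (cK h k) = k := fun k => E.psi_injective R S (by
    rw [← gen, ← gen, ← R.mul, ← map_mul, asix_rel.2.2.2.2.1, map_one, R.one])
  have h3 : ∀ k, cabK o h (cabK o h (cabK o h k)) = k := fun k => E.psi_injective R S (by
    rw [← hab, ← hab, ← hab, ← R.mul, ← R.mul, ← map_mul, ← map_mul,
      show pC * pA * pB * (pC * pA * pB) * (pC * pA * pB) =
        pC * pA * pB * (pC * pA * pB * (pC * pA * pB)) from mul_assoc _ _ _,
      asix_rel.2.2.2.2.2.1, map_one, R.one])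
  have := hankel_unique o h (hcc _) (hcc _) (h3 _) (h3 _) (h3 _) (h3 _)
  subst this
  exact gen

/-- The identification with the model. -/
def toU (_E : Seed ρ q x ι o e) (v : V) : U := psi ρ x ι e (kmap v)

theorem toU_add (u v : V) : E.toU (u + v) = E.toU u + E.toU v := by
  rw [toU, toU, toU, kmap_add, E.psi_add R S]

theorem toU_bijective : Function.Bijective E.toU := by
  haveI : Finite U := Nat.finite_of_card_ne_zero (by rw [R.card]; norm_num)
  refine (Nat.bijective_iff_injective_and_card _).2 ⟨fun u v h => ?_, ?_⟩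
  · have h1 := E.psi_injective R S h
    have h2 : kmap (u + v) = 0 := by
      rw [kmap_add, h1]
      have key : ∀ a : F4, a + a = 0 := by decide
      exact Prod.ext (key _) (Prod.ext (key _) (Prod.ext (key _) (key _)))
    have := kmap_zero _ h2
    calc u = u + (v + v) := by rw [v_add_self, add_zero]
      _ = v := by rw [← add_assoc, this, zero_add]
  · rw [R.card]; simp [Nat.card_prod, Nat.card_zmod]

theorem q_toU (v : V) : q (E.toU v) = qv v := by
  rw [kmap_qv v, toU, E.q_psi R S]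

theorem x_toU (v : V) : ρ x (E.toU v) = E.toU (mX v) := by
  rw [toU, toU, E.psi_x R S, kmap_mX]

theorem A_toU (v : V) : ρ (ι pA) (E.toU v) = E.toU (tmap 1 0 0 1 (gA o) v) := by
  rw [toU, toU, E.psi_A R S, kmap_gA]

theorem B_toU (v : V) : ρ (ι pB) (E.toU v) = E.toU (tmap 1 0 0 1 (gB o) v) := by
  rw [toU, toU, E.psi_B R S, kmap_gB]

theorem C_toU (v : V) : ρ (ι pC) (E.toU v) = E.toU (tmap 1 0 0 1 (gC o) v) := by
  rw [toU, toU, E.psi_C R S, kmap_gC]

end Seed

end CfsgLib.SmithNine70
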