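import Cfsg.Agent.SmithNine70.Space

/-!
Basic lemmas about the quadratic space with its group action and the four lines spanned by an
eigenvector of the elementary subgroup of order nine and its translates.
-/

set_option autoImplicit false
set_option linter.unusedSectionVars false
set_option synthInstance.maxSize 2000

namespace CfsgLib.SmithNine70

/-- The field of four elements in the basis `1, ω`. -/
abbrev F4 := ZMod 2 × ZMod 2

/-- Multiplication by `ω`. -/
def wmul (p : F4) : F4 := (p.2, p.1 + p.2)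

/-- Conjugation. -/
def cj (p : F4) : F4 := (p.1 + p.2, p.2)

/-- The product. -/
def fmul (h p : F4) : F4 := (h.1 * p.1 + h.2 * p.2, h.1 * p.2 + h.2 * p.1 + h.2 * p.2)

/-- Multiplication by a power of `ω` given by an exponent modulo three. -/
def wpow : Fin 3 → F4 → F4
  | 0, p => p
  | 1, p => wmul p
  | 2, p => wmul (wmul p)

/-- The value of `a • u` without choosing a module structure. -/
def sm {U : Type*} [AddCommGroup U] (a : ZMod 2) (u : U) : U := if a = 0 then 0 else u

section Smul

variable {U : Type*} [AddCommGroup U]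

@[simp] theorem sm_zero (u : U) : sm 0 u = 0 := if_pos rfl

@[simp] theorem sm_one (u : U) : sm 1 u = u := if_neg one_ne_zero

theorem sm_add_left (hU : ∀ u : U, u + u = 0) (a b : ZMod 2) (u : U) :
    sm (a + b) u = sm a u + sm b u := by
  have hz : ∀ a : ZMod 2, a = 0 ∨ a = 1 := by decide
  rcases hz a with rfl | rfl <;> rcases hz b with rfl | rfl <;>
    simp [show (1 : ZMod 2) + 1 = 0 from rfl, hU u]

theorem sm_map {U' : Type*} [AddCommGroup U'] (f : U → U') (hf : f 0 = 0) (a : ZMod 2) (u : U) :
    f (sm a u) = sm a (f u) := by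
  unfold sm; split_ifs <;> simp [hf]

theorem sm_add_right (a : ZMod 2) (u v : U) : sm a (u + v) = sm a u + sm a v := by
  unfold sm; split_ifs <;> simp

end Smul

variable {L : Type*} [Group L] {U : Type*} [AddCommGroup U] {ρ : L → U → U} {q : U → ZMod 2}
  {B : U → U → ZMod 2} (R : Rep ρ q B)
include R

namespace Rep

theorem one (v : U) : ρ 1 v = v := by
  have h : ∀ u, ρ 1 (ρ 1 u) = ρ 1 u := fun u => by rw [← R.mul, one_mul]
  haveI : Finite U := Nat.finite_of_card_ne_zero (by rw [R.card]; norm_num)
  have hinj : Function.Injective (ρ 1) := by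
    intro u u' e
    by_contra hne
    obtain ⟨w, hw⟩ := R.nondeg (u + u') fun e0 => hne (by
      calc u = u + (u' + u') := by rw [R.add_self, add_zero]
        _ = u' := by rw [← add_assoc, e0, zero_add])
    have h0 : ρ 1 (u + u') = 0 := by rw [R.add, e, R.add_self]
    have e1 : q (ρ 1 (w + (u + u'))) = q (ρ 1 w) + q (ρ 1 (u + u')) + B (ρ 1 w) (ρ 1 (u + u')) := by
      rw [R.add, R.q_add]
    rw [h0, R.isom, R.isom, R.q_add, hw] at e1
    have hB0 : B (ρ 1 w) 0 = 0 := by
      rw [R.B_comm]
      have := R.B_add 0 0 (ρ 1 w)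
      rw [add_zero] at this
      exact add_eq_left.1 this.symm
    have hq0 : q (u + u') = q 0 := by rw [← R.isom 1, h0]
    rw [hB0, add_zero, hq0] at e1
    exact one_ne_zero (add_eq_left.1 e1)
  exact hinj (h v)

theorem zero (a : L) : ρ a 0 = 0 := by
  have := R.add a 0 0
  rw [add_zero] at this
  exact add_eq_left.1 this.symm

theorem inv_apply (a : L) (v : U) : ρ a⁻¹ (ρ a v) = v := by
  rw [← R.mul, inv_mul_cancel, R.one]

theorem apply_inv (a : L) (v : U) : ρ a (ρ a⁻¹ v) = v := by
  rw [← R.mul, mul_inv_cancel, R.one]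

theorem inj (a : L) : Function.Injective (ρ a) :=
  Function.LeftInverse.injective (R.inv_apply a)

theorem B_zero (v : U) : B 0 v = 0 := by
  have := R.B_add 0 0 v
  rw [add_zero] at this
  exact add_eq_left.1 this.symm

theorem B_zero' (v : U) : B v 0 = 0 := by rw [R.B_comm, R.B_zero]

theorem B_add' (u v w : U) : B u (v + w) = B u v + B u w := by
  rw [R.B_comm, R.B_add, R.B_comm v, R.B_comm w]

theorem B_inv (a : L) (u v : U) : B (ρ a u) (ρ a v) = B u v := by
  have h1 := R.q_add (ρ a u) (ρ a v)
  rw [← R.add, R.isom, R.isom, R.isom, R.q_add] at h1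
  exact (add_left_cancel h1).symm

theorem q_zero : q 0 = 0 := by
  have := R.q_add 0 0
  rw [R.B_zero, add_zero, add_zero] at this
  exact add_eq_left.1 this.symm

theorem B_sm (a : ZMod 2) (u v : U) : B (sm a u) v = a * B u v := by
  have hz : ∀ a : ZMod 2, a = 0 ∨ a = 1 := by decide
  rcases hz a with rfl | rfl <;> simp [R.B_zero]

theorem ρ_sm (a : L) (c : ZMod 2) (u : U) : ρ a (sm c u) = sm c (ρ a u) := sm_map _ (R.zero a) _ _

/-- Vectors fixed and vectors moved without fixed part are orthogonal. -/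
theorem orth_fixed_moved (k : L) {u v : U} (hv : ρ k v = v) (hu : u + ρ k u + ρ k (ρ k u) = 0) :
    B u v = 0 := by
  have h1 : B (ρ k u) v = B u v := by
    have := R.B_inv k u v
    rwa [hv] at this
  have h2 : B (ρ k (ρ k u)) v = B u v := by
    have := R.B_inv k (ρ k u) v
    rw [hv] at this
    rw [this, h1]
  have h3 := congrArg (fun t => B t v) hu
  simp only [R.B_add, R.B_zero, h1, h2] at h3
  have key : ∀ b : ZMod 2, b + b + b = 0 → b = 0 := by decide
  exact key _ h3

end Rep

/-- A vector `e` with `x²e = e + xe`, and the images of the coordinates. -/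
def line (ρ : L → U → U) (x : L) (e : U) (p : F4) : U := sm p.1 e + sm p.2 (ρ x e)

namespace Rep

theorem line_add (x : L) (e : U) (p p' : F4) :
    line ρ x e (p + p') = line ρ x e p + line ρ x e p' := by
  simp only [line, Prod.fst_add, Prod.snd_add, sm_add_left R.add_self]; abel

theorem line_zero (x : L) (e : U) : line ρ x e 0 = 0 := by simp [line]

theorem line_wmul (x : L) {e : U} (he : e + ρ x e + ρ x (ρ x e) = 0) (p : F4) :
    ρ x (line ρ x e p) = line ρ x e (wmul p) := by
  have h2 : ρ x (ρ x e) = e + ρ x e := by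
    calc ρ x (ρ x e) = (e + ρ x e) + (e + ρ x e) + ρ x (ρ x e) := by rw [R.add_self, zero_add]
      _ = (e + ρ x e) + (e + ρ x e + ρ x (ρ x e)) := by abel
      _ = e + ρ x e := by rw [he, add_zero]
  simp only [line, wmul, R.add, R.ρ_sm, h2, sm_add_left R.add_self, sm_add_right]
  abel

theorem line_fmul (x : L) {e : U} (he : e + ρ x e + ρ x (ρ x e) = 0) (h p : F4) :
    sm p.1 (line ρ x e h) + sm p.2 (ρ x (line ρ x e h)) = line ρ x e (fmul h p) := by
  rw [R.line_wmul x he]
  have hz : ∀ a : ZMod 2, a = 0 ∨ a = 1 := by decide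
  obtain ⟨p1, p2⟩ := p
  rcases hz p1 with rfl | rfl <;> rcases hz p2 with rfl | rfl <;>
    simp only [sm_zero, sm_one, fmul, mul_zero, mul_one, add_zero, zero_add, ← R.line_add]
  · exact (R.line_zero x e).symm
  all_goals (obtain ⟨h1, h2⟩ := h; first | rfl | (congr 1; revert h1 h2; decide))

theorem q_line (x : L) {e : U} (he : e + ρ x e + ρ x (ρ x e) = 0) (p : F4) :
    q (line ρ x e p) = if p = 0 then 0 else q e := by
  have h2 : q (e + ρ x e) = q e := by
    rw [show e + ρ x e = (e + ρ x e) + (e + ρ x e + ρ x (ρ x e)) by rw [he, add_zero],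
      show e + ρ x e + (e + ρ x e + ρ x (ρ x e)) = (e + ρ x e) + (e + ρ x e) + ρ x (ρ x e) by abel,
      R.add_self, zero_add, R.isom, R.isom]
  have hz : ∀ a : ZMod 2, a = 0 ∨ a = 1 := by decide
  obtain ⟨p1, p2⟩ := p
  rcases hz p1 with rfl | rfl <;> rcases hz p2 with rfl | rfl <;>
    simp [line, R.q_zero, R.isom, h2, Prod.ext_iff]

theorem B_self_x (x : L) {e : U} (he : e + ρ x e + ρ x (ρ x e) = 0) : B e (ρ x e) = q e := by
  have h := R.q_line x he (1, 1)
  simp only [line, sm_one, R.q_add, R.isom] at h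
  rw [if_neg (by decide)] at h
  have key : ∀ a b : ZMod 2, a + a + b = a → b = a := by decide
  exact key _ _ h

theorem line_mem_moved (x : L) {e : U} (he : e + ρ x e + ρ x (ρ x e) = 0) (p : F4) :
    line ρ x e p + ρ x (line ρ x e p) + ρ x (ρ x (line ρ x e p)) = 0 := by
  rw [R.line_wmul x he, R.line_wmul x he, ← R.line_add, ← R.line_add,
    show p + wmul p + wmul (wmul p) = 0 by revert p; decide, R.line_zero]

/-- Elements of the group commuting with `x` act linearly on lines. -/
theorem map_line {x k : L} (hk : k * x = x * k) (e : U) (p : F4) :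
    ρ k (line ρ x e p) = line ρ x (ρ k e) p := by
  have : ρ k (ρ x e) = ρ x (ρ k e) := by rw [← R.mul, hk, R.mul]
  simp only [line, R.add, R.ρ_sm, this]

/-- Eigenvectors with different eigenvalues are orthogonal. -/
theorem orth_eigen {x k : L} (hk : k * x = x * k) {u v : U}
    (hu0 : u + ρ x u + ρ x (ρ x u) = 0) (hv0 : v + ρ x v + ρ x (ρ x v) = 0) (i j : Fin 3) (hij : i ≠ j)
    (hu : ρ k u = line ρ x u (wpow i (1, 0))) (hv : ρ k v = line ρ x v (wpow j (1, 0))) (p : F4) :
    B u (line ρ x v p) = 0 := by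
  -- the pairing with the line is invariant under a nontrivial rotation
  have hstep : ∀ p, B u (line ρ x v p) = B u (line ρ x v (wpow (j - i) p)) := by
    intro p
    have e1 : B u (line ρ x v p) = B (ρ k u) (ρ k (line ρ x v p)) := (R.B_inv k _ _).symm
    rw [R.map_line hk, hv, hu] at e1
    have ev : line ρ x (line ρ x v (wpow j (1, 0))) p = line ρ x v (fmul (wpow j (1, 0)) p) :=
      R.line_fmul x hv0 _ p
    rw [ev] at e1
    have hpow : ∀ (w : U) (h0 : w + ρ x w + ρ x (ρ x w) = 0) (r : F4),
        ρ x (line ρ x w r) = line ρ x w (wmul r) := fun w h0 r => R.line_wmul x h0 r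
    have hu' : ∀ i : Fin 3, ∀ r, B (line ρ x u (wpow i (1, 0))) (line ρ x v r) =
        B u (line ρ x v (wpow (-i) r)) := by
      intro i r
      fin_cases i
      · simp [wpow, line, R.zero]
      · have h1 : line ρ x u (wpow 1 (1, 0)) = ρ x u := by simp [wpow, wmul, line]
        have h3 : line ρ x v r = ρ x (line ρ x v (wpow 2 r)) := by
          rw [hpow v hv0]; congr 1; revert r; decide
        show B (line ρ x u (wpow 1 (1, 0))) _ = B u (line ρ x v (wpow (-1) r))
        rw [h1, h3, R.B_inv]; rfl
      · have h1 : line ρ x u (wpow 2 (1, 0)) = ρ x (ρ x u) := by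
          rw [show ρ x (ρ x u) = u + ρ x u from ?_]
          · simp [wpow, wmul, line]
          calc ρ x (ρ x u) = (u + ρ x u) + (u + ρ x u) + ρ x (ρ x u) := by rw [R.add_self, zero_add]
            _ = (u + ρ x u) + (u + ρ x u + ρ x (ρ x u)) := by abel
            _ = _ := by rw [hu0, add_zero]
        have h3 : line ρ x v r = ρ x (ρ x (line ρ x v (wpow 1 r))) := by
          rw [hpow v hv0, hpow v hv0]; congr 1; revert r; decide
        show B (line ρ x u (wpow 2 (1, 0))) _ = B u (line ρ x v (wpow (-2) r))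
        rw [h1, h3, R.B_inv, R.B_inv]; rfl
    rw [hu'] at e1
    rw [e1]
    have key0 : ∀ i j : Fin 3, ∀ p, wpow (-i) (fmul (wpow j (1, 0)) p) = wpow (j - i) p := by decide
    rw [key0]
  have key : ∀ d : Fin 3, d ≠ 0 → ∀ p : F4, p + wpow d p + wpow d (wpow d p) = 0 := by decide
  have h3 := congrArg (fun r => B u (line ρ x v r)) (key (j - i) (sub_ne_zero.2 hij.symm) p)
  simp only [R.line_add, R.B_add', R.line_zero, R.B_zero', ← hstep] at h3
  have k2 : ∀ b : ZMod 2, b + b + b = 0 → b = 0 := by decide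
  exact k2 _ h3

end Rep

end CfsgLib.SmithNine70
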