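import Mathlib

/-!
The eight dimensional quadratic space `F₂² ⊗ W` with `W` the natural symplectic module of the
alternating group of degree six, with explicit matrices for generators and the facts about them
that are checked by computation.

`W` is written as pairs of elements of the field of four elements in the basis `1, ω`; it is the set
of vectors `(l, m, conj l, conj m)` of the four dimensional unitary space.
-/

set_option autoImplicit false

namespace CfsgLib.SmithNine70

/-- The symplectic module. -/
abbrev W := ZMod 2 × ZMod 2 × ZMod 2 × ZMod 2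

/-- The quadratic space. -/
abbrev V := W × W

/-- The symplectic form. -/
def bw (u v : W) : ZMod 2 :=
  u.1 * v.2.1 + u.2.1 * v.1 + u.2.2.1 * v.2.2.2 + u.2.2.2 * v.2.2.1

/-- The quadratic form. -/
def qv (v : V) : ZMod 2 := bw v.1 v.2

/-- The polar form. -/
def bv (u v : V) : ZMod 2 := bw u.1 v.2 + bw u.2 v.1

/-- The base vector of `W`. -/
def w0 : W := (1, 0, 0, 0)

/-- Multiplication of the first field coordinate by `ω`. -/
def rotl (u : W) : W := (u.2.1, u.1 + u.2.1, u.2.2.1, u.2.2.2)

/-- Multiplication of the second field coordinate by `ω`. -/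
def rotr (u : W) : W := (u.1, u.2.1, u.2.2.2, u.2.2.1 + u.2.2.2)

/-- The first 3-cycle, for either of the two orbits of characters. -/
def gA : Fin 2 → W → W
  | 0, u => rotl u
  | 1, u => rotr (rotr (rotl u))

/-- The second 3-cycle. -/
def gB : Fin 2 → W → W
  | 0, u => rotr u
  | 1, u => rotr (rotl u)

/-- The element of order four. -/
def gF (u : W) : W := (u.2.2.1 + u.2.2.2, u.2.2.2, u.1, u.2.1)

/-- The double transposition outside the normalizer of the elementary subgroup of order nine. -/
def gC : Fin 2 → W → W
  | 0, u => (u.2.1 + u.2.2.1 + u.2.2.2, u.2.2.2, u.1 + u.2.1 + u.2.2.2, u.2.1)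
  | 1, u => (u.1 + u.2.2.2, u.2.1, u.2.1 + u.2.2.1 + u.2.2.2, u.2.2.2)

/-- The third 3-cycle. -/
def gA' (o : Fin 2) (u : W) : W := gC o (gA o (gC o u))

/-- The generators of odd order. -/
def gen (o : Fin 2) : Fin 3 → W → W
  | 0 => gA o
  | 1 => gB o
  | 2 => gA' o

/-- Evaluation of a word in the generators. -/
def word (o : Fin 2) : List (Fin 3) → W → W
  | [], u => u
  | i :: l, u => gen o i (word o l u)

/-- An automorphism of the symplectic space. -/
structure IsSymp (σ : W → W) : Prop where
  add : ∀ u v, σ (u + v) = σ u + σ v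
  form : ∀ u v, bw (σ u) (σ v) = bw u v

/-- The map of `V` given by a `2 × 2` matrix and a map of `W`. -/
def tmap (a b c d : ZMod 2) (σ : W → W) (v : V) : V :=
  (a • σ v.1 + b • σ v.2, c • σ v.1 + d • σ v.2)

/-- The maps lying in the product of `GL₂(2)` and the symplectic group. -/
def Good (f : V → V) : Prop :=
  ∃ (a b c d : ZMod 2) (σ : W → W), a * d + b * c = 1 ∧ IsSymp σ ∧ f = tmap a b c d σ

/-- The element of order three acting on the first factor. -/
def mX (v : V) : V := (v.2, v.1 + v.2)

/-- A pure vector. -/
def Pure (v : V) : Prop := v ≠ 0 ∧ (v.1 = 0 ∨ v.2 = 0 ∨ v.1 = v.2)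

end CfsgLib.SmithNine70
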