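import Cfsg.Agent.SmithNine70.Setup

/-!
A partner lies over a pure vector and the intersection of the two extraspecial groups is determined.
-/

set_option autoImplicit false
set_option synthInstance.maxSize 2000
set_option linter.unusedSectionVars false

namespace CfsgLib.SmithNine70

open Cfsg CfsgLib.LargeExtraspecial

variable {G : Type*} [Group G] [Finite G] {z : G} {Q : Subgroup G} {o : Fin 2} {pr : G → V}
  {act : G → V → V} {g s : G}

/-- The values in the intersection belonging to the partner over `(w, 0)`. -/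
def InE (w : W) (v : V) : Prop := bw v.1 w = 0 ∧ (v.2 = 0 ∨ v.2 = w)

theorem indep : ∀ p p' : W, p ≠ 0 → p' ≠ 0 → p ≠ p' → ∀ a b c d : ZMod 2,
    a * d + b * c = 1 → ((a • p + b • p', c • p + d • p') : V) = (p, p') →
    a = 1 ∧ b = 0 ∧ c = 0 ∧ d = 1 := by decide +kernel

theorem gl_fix : ∀ a b c d : ZMod 2, ∀ v : W, v ≠ 0 → a * d + b * c = 1 →
    ((a • v, c • v) : V) = (v, 0) → a = 1 ∧ c = 0 ∧ d = 1 := by decide +kernel

theorem phi_zero : ∀ u v : W, bw u w0 = 0 → bw y0 w0 = 1 → v = w0 → bw (u + v) y0 = bw u y0 + 1 := by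
  decide +kernel

theorem y0_w0 : bw y0 w0 = 1 := by decide

/-- A symplectic map moving every vector by the base vector or not at all fixes the hyperplane. -/
theorem IsSymp.fix_of_near {σ : W → W} (hσ : IsSymp σ) (h : ∀ u, σ u = u ∨ σ u = u + w0) (u : W)
    (hu : bw u w0 = 0) : σ u = u := by
  rcases h u with e | e
  · exact e
  exfalso
  have := hσ.form u y0
  rw [e] at this
  rcases h y0 with e' | e' <;> rw [e'] at this <;>
    simp only [bw_add_left, bw_add_right, hu, bw_comm w0 y0, y0_w0, bw_self] at this <;>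
    simp at this

namespace Setup

variable (h : Setup z Q o pr act)
include h

variable (P : Partner z Q g s)
include P

theorem comm_s_z : s * z = z * s := h.hyp.commute_z P.mem

theorem pr_s_ne : pr s ≠ 0 := fun e => by
  rcases (h.pr_zero s P.mem).1 e with k | k
  · exact h.hyp.om_ne_one P.om k
  · exact P.ne k

theorem act_fix_s {d : G} (hd : d ∈ P.D) : act d (pr s) = pr s := by
  have hdz := Subgroup.mem_centralizer_singleton_iff.1 hd.2
  rw [← h.act_pr d hdz s P.mem]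
  have : d * s * d⁻¹ = s := mul_inv_eq_iff_eq_mul.2 ((P.setting' h.hyp).comm hd.1)
  rw [this]

theorem act_E {d e : G} (hd : d ∈ P.D) (he : e ∈ P.E) :
    act d (pr e) = pr e ∨ act d (pr e) = pr s + pr e := by
  rw [← h.act_pr d (Subgroup.mem_centralizer_singleton_iff.1 hd.2) e he.1]
  rcases P.comm_E h.hyp hd he with k | k <;> rw [k]
  · exact Or.inl rfl
  · exact Or.inr (h.pr_mul _ P.mem _ he.1)

theorem act_perp {d : G} (hd : d ∈ P.D) {v : V} (hv : bv v (pr s) = 0) :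
    ∃ e ∈ P.E, pr e = act d v + v := by
  obtain ⟨q, hq, rfl⟩ := h.pr_surj v
  have hdz := Subgroup.mem_centralizer_singleton_iff.1 hd.2
  refine ⟨_, P.comm_cent h.hyp hd hq (h.commute_of hq P.mem hv), ?_⟩
  rw [h.pr_mul _ (h.conj_mem hdz hq) _ (Q.inv_mem hq), h.act_pr d hdz q hq, h.pr_inv hq]

/-- The square of an element of `D` lies in `Q`. -/
theorem sq_D {d : G} (hd : d ∈ P.D) : d * d ∈ Q := by
  rcases h.hyp.inQ_sq ((P.mem_D h.hyp).1 hd).1 with k | k <;> rw [k]
  · exact Q.one_mem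
  · exact P.mem

theorem comm_D {d d' : G} (hd : d ∈ P.D) (hd' : d' ∈ P.D) : act d ∘ act d' = act d' ∘ act d := by
  have h1 := Subgroup.mem_centralizer_singleton_iff.1 hd.2
  have h2 := Subgroup.mem_centralizer_singleton_iff.1 hd'.2
  rw [← h.act_mul h1 h2, ← h.act_mul h2 h1]
  rcases h.hyp.inQ_comm ((P.mem_D h.hyp).1 hd).1 ((P.mem_D h.hyp).1 hd').1 with k | k
  · rw [show d * d' = d' * d from mul_inv_eq_iff_eq_mul.1 (mul_inv_eq_one.1 k)]
  · rw [show d * d' = s * (d' * d) by rw [← k]; group,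
      h.act_mul (h.comm_s_z P) (SmithNine70.comm_mul h2 h1), h.act_Q P.mem]
    rfl

theorem invol_D {d : G} (hd : d ∈ P.D) (v : V) : act d (act d v) = v := by
  have h1 := Subgroup.mem_centralizer_singleton_iff.1 hd.2
  have := h.act_mul h1 h1
  rw [h.act_Q (h.sq_D P hd)] at this
  exact (congrFun this v).symm

/-- A finite set of possible actions of `D` bounds the index of `E` in `D`. -/
theorem card_D_le (S : Finset (V → V)) (hS : ∀ d ∈ P.D, act d ∈ S) :
    256 ≤ S.card * Nat.card ↥P.E := by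
  classical
  haveI : Fintype ↥P.D := Fintype.ofFinite _
  haveI : Fintype ↥P.E := Fintype.ofFinite _
  let rep : (V → V) → G := fun f => if hf : ∃ d ∈ P.D, act d = f then hf.choose else 1
  have hrep : ∀ d ∈ P.D, rep (act d) ∈ P.D ∧ act (rep (act d)) = act d := fun d hd => by
    have hf : ∃ d' ∈ P.D, act d' = act d := ⟨d, hd, rfl⟩
    simp only [rep, dif_pos hf]
    exact hf.choose_spec
  have hmem : ∀ d : ↥P.D, (rep (act (d : G)))⁻¹ * d ∈ P.E := fun d => by
    rw [← P.D_inf_Q h.hyp]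
    refine ⟨P.D.mul_mem (P.D.inv_mem (hrep d d.2).1) d.2, h.mem_Q_of_act_eq ?_ ?_ (hrep d d.2).2⟩
    · exact Subgroup.mem_centralizer_singleton_iff.1 (hrep d d.2).1.2
    · exact Subgroup.mem_centralizer_singleton_iff.1 d.2.2
  let f : ↥P.D → {x // x ∈ S} × ↥P.E := fun d => (⟨act (d : G), hS d d.2⟩, ⟨_, hmem d⟩)
  have hf : Function.Injective f := by
    intro a b e
    have e1 := congrArg (fun p => p.1.1) e
    have e2 := congrArg (fun p => (p.2 : G)) e
    simp only [f] at e1 e2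
    rw [e1, mul_right_inj] at e2
    exact Subtype.ext e2
  have := Nat.card_le_card_of_injective f hf
  rwa [P.card_D h.hyp, Nat.card_prod, Nat.card_eq_fintype_card (α := {x // x ∈ S}),
    Fintype.card_coe] at this

/-- Either the partner has a large intersection or some element of `D` acts on the first factor
only. -/
theorem dichotomy : Nat.card ↥P.E = 32 ∨
    (Nat.card ↥P.E = 16 ∧ ∃ d ∈ P.D, d ∉ Q ∧ ∃ a b c e, act d = tmap a b c e id) := by
  have hDC : P.D ≤ Subgroup.centralizer ({z} : Set G) := inf_le_right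
  have hQC : Q ≤ Subgroup.centralizer ({z} : Set G) := fun q hq =>
    Subgroup.mem_centralizer_singleton_iff.2 (h.hyp.commute_z hq)
  have hn : P.D ≤ Subgroup.normalizer (Q : Set G) := fun d hd => Subgroup.mem_normalizer_iff.2
    fun q => h.hyp.setting.normalized d (Subgroup.mem_centralizer_singleton_iff.1 hd.2) q
  set R := P.D ⊔ Q with hR
  have hmemR : ∀ x ∈ R, ∃ d ∈ P.D, ∃ q ∈ Q, d * q = x := fun x hx => by
    rw [hR, ← SetLike.mem_coe, Subgroup.coe_mul_of_left_le_normalizer_right P.D Q hn] at hx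
    obtain ⟨d, hd, q, hq, rfl⟩ := hx
    exact ⟨d, hd, q, hq, rfl⟩
  have hsq : ∀ x ∈ R, x * x ∈ Q := fun x hx => by
    obtain ⟨d, hd, q, hq, rfl⟩ := hmemR x hx
    have hdz := Subgroup.mem_centralizer_singleton_iff.1 hd.2
    rw [show d * q * (d * q) = (d * q * d⁻¹) * (d * d) * q by group]
    exact Q.mul_mem (Q.mul_mem (h.conj_mem hdz hq) (h.sq_D P hd)) hq
  obtain ⟨hle, heq⟩ := h.rank R le_sup_right (sup_le hDC hQC) hsq
  have hcard : Nat.card ↥R * Nat.card ↥P.E = 131072 := by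
    have h1 := card_sup_mul_inf hn
    rw [P.D_inf_Q h.hyp, P.card_D h.hyp, h.hyp.card] at h1
    exact h1
  have hle32 := P.card_E_le h.hyp
  have hge : 16 ≤ Nat.card ↥P.E := by
    by_contra hlt
    push Not at hlt
    have := Nat.mul_le_mul hle (Nat.le_of_lt_succ hlt)
    omega
  obtain ⟨k, hk⟩ : ∃ k, Nat.card ↥P.E = 2 ^ k := by
    obtain ⟨k, -, hk⟩ := (Nat.dvd_prime_pow Nat.prime_two).1
      (show Nat.card ↥P.E ∣ 2 ^ 17 from ⟨Nat.card ↥R, by rw [mul_comm, hcard]; norm_num⟩)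
    exact ⟨k, hk⟩
  have hk4 : 4 ≤ k := (Nat.pow_le_pow_iff_right (show 1 < 2 by norm_num)).1 (hk ▸ hge)
  have hk5 : k ≤ 5 := (Nat.pow_le_pow_iff_right (show 1 < 2 by norm_num)).1 (hk ▸ hle32)
  obtain rfl | rfl : k = 4 ∨ k = 5 := by omega
  · have hE : Nat.card ↥P.E = 16 := hk
    refine Or.inr ⟨hE, ?_⟩
    have hR8 : Nat.card ↥R = 8192 := by rw [hE] at hcard; omega
    obtain ⟨r, hr, hrQ, a, b, c, e, hact⟩ := heq hR8
    obtain ⟨d, hd, q, hq, rfl⟩ := hmemR r hr
    have hdQ : d ∉ Q := fun hdQ => hrQ (Q.mul_mem hdQ hq)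
    refine ⟨d, hd, hdQ, a, b, c, e, ?_⟩
    rw [← hact, h.act_mul (Subgroup.mem_centralizer_singleton_iff.1 hd.2) (h.hyp.commute_z hq),
      h.act_Q hq, Function.comp_id]
  · exact Or.inl hk

/-- The index two subgroup of `D` acting on the second factor only. -/
theorem K_index (S : Finset (V → V))
    (hS : ∀ d ∈ P.D, ∀ σ, IsSymp σ → act d = tmap 1 0 0 1 σ → act d ∈ S) :
    128 ≤ S.card * Nat.card ↥P.E := by
  classical
  by_cases hall : ∀ d ∈ P.D, ∃ σ, IsSymp σ ∧ act d = tmap 1 0 0 1 σ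
  · have := h.card_D_le P S fun d hd => by
      obtain ⟨σ, hσ, e⟩ := hall d hd
      exact hS d hd σ hσ e
    omega
  · push Not at hall
    obtain ⟨d0, hd0, hno⟩ := hall
    have hd0z := Subgroup.mem_centralizer_singleton_iff.1 hd0.2
    have := h.card_D_le P (S ∪ S.image (fun f => act d0 ∘ f)) fun d hd => by
      have hdz := Subgroup.mem_centralizer_singleton_iff.1 hd.2
      obtain ⟨a, b, c, e, σ, hdet, hσ, hact⟩ := h.good d hdz
      by_cases htriv : a = 1 ∧ b = 0 ∧ c = 0 ∧ e = 1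
      · obtain ⟨rfl, rfl, rfl, rfl⟩ := htriv
        exact Finset.mem_union_left _ (hS d hd σ hσ hact)
      obtain ⟨a', b', c', e', σ', hdet', hσ', hact'⟩ := h.good d0 hd0z
      have hne' : ¬(a' = 1 ∧ b' = 0 ∧ c' = 0 ∧ e' = 1) := fun ⟨x1, x2, x3, x4⟩ =>
        hno σ' hσ' (by rw [hact', x1, x2, x3, x4])
      have key : ∀ (x y : G), x ∈ P.D → y ∈ P.D → ∀ a1 b1 c1 d1 a2 b2 c2 d2 σ1 σ2,
          IsSymp σ1 → IsSymp σ2 → act x = tmap a1 b1 c1 d1 σ1 → act y = tmap a2 b2 c2 d2 σ2 →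
          ∀ v, act x (act y v) = tmap (a1 * a2 + b1 * c2) (a1 * b2 + b1 * d2)
            (c1 * a2 + d1 * c2) (c1 * b2 + d1 * d2) (σ1 ∘ σ2) v := by
        intro x y _ _ a1 b1 c1 d1 a2 b2 c2 d2 σ1 σ2 h1 _ e1 e2 v
        rw [e1, e2, tmap_comp h1]
      have uniq : ∀ {a1 b1 c1 d1 a2 b2 c2 d2 : ZMod 2} {σ1 σ2 : W → W}, IsSymp σ1 → IsSymp σ2 →
          (∀ v, tmap a1 b1 c1 d1 σ1 v = tmap a2 b2 c2 d2 σ2 v) →
          a1 = a2 ∧ b1 = b2 ∧ c1 = c2 ∧ d1 = d2 := by
        intro a1 b1 c1 d1 a2 b2 c2 d2 σ1 σ2 h1 h2 e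
        exact tmap_scalar_eq h1 h2 e
      have i1 := tmap_eq_id (hσ.comp hσ) (gl_det _ _ _ _ _ _ _ _ hdet hdet) fun v => by
        rw [← key d d hd hd _ _ _ _ _ _ _ _ σ σ hσ hσ hact hact, h.invol_D P hd]
      have i2 := tmap_eq_id (hσ'.comp hσ') (gl_det _ _ _ _ _ _ _ _ hdet' hdet') fun v => by
        rw [← key d0 d0 hd0 hd0 _ _ _ _ _ _ _ _ σ' σ' hσ' hσ' hact' hact', h.invol_D P hd0]
      have i3 := uniq (hσ.comp hσ') (hσ'.comp hσ) (fun v => by
        rw [← key d d0 hd hd0 _ _ _ _ _ _ _ _ σ σ' hσ hσ' hact hact',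
          ← key d0 d hd0 hd _ _ _ _ _ _ _ _ σ' σ hσ' hσ hact' hact]
        exact congrFun (h.comm_D P hd hd0) v)
      obtain ⟨rfl, rfl, rfl, rfl⟩ := gl_invol a b c e a' b' c' e' hdet hdet' i1.1 i1.2.1 i1.2.2.1
        i1.2.2.2.1 i2.1 i2.2.1 i2.2.2.1 i2.2.2.2.1 i3.1 i3.2.1 i3.2.2.1 i3.2.2.2 htriv hne'
      refine Finset.mem_union_right _ (Finset.mem_image.2 ⟨act (d0 * d), ?_, ?_⟩)
      · refine hS _ (P.D.mul_mem hd0 hd) (σ' ∘ σ) (hσ'.comp hσ) (funext fun v => ?_)
        rw [h.act_mul hd0z hdz, Function.comp_apply,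
          key d0 d hd0 hd _ _ _ _ _ _ _ _ σ' σ hσ' hσ hact' hact, i2.1, i2.2.1, i2.2.2.1, i2.2.2.2.1]
      · funext v
        rw [Function.comp_apply, h.act_mul hd0z hdz, Function.comp_apply, h.invol_D P hd0]
    have h2 : (S ∪ S.image (fun f => act d0 ∘ f)).card ≤ 2 * S.card :=
      (Finset.card_union_le _ _).trans (by have := Finset.card_image_le (s := S) (f := fun f => act d0 ∘ f); omega)
    have h3 := this.trans (Nat.mul_le_mul_right _ h2)
    rw [mul_assoc] at h3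
    omega

end Setup

end CfsgLib.SmithNine70
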