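import Cfsg.Agent.SmithNine70.Spec
import Cfsg.Agent.SmithNine70.Pair

/-!
The quadratic space of dimension eight with the action of a group like `S₃ × A₆`, before
coordinates are chosen, and its link to the extraspecial group.
-/

set_option autoImplicit false

namespace CfsgLib.SmithNine70

open Cfsg

/-- A quadratic space of order `256` with a faithful group of isometries. -/
structure Rep {L : Type*} [Group L] {U : Type*} [AddCommGroup U] (ρ : L → U → U)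
    (q : U → ZMod 2) (B : U → U → ZMod 2) : Prop where
  card : Nat.card U = 256
  add_self : ∀ u : U, u + u = 0
  q_add : ∀ u v, q (u + v) = q u + q v + B u v
  B_comm : ∀ u v, B u v = B v u
  B_self : ∀ u, B u u = 0
  B_add : ∀ u v w, B (u + v) w = B u w + B v w
  nondeg : ∀ v, v ≠ 0 → ∃ u, B u v = 1
  mul : ∀ a b v, ρ (a * b) v = ρ a (ρ b v)
  add : ∀ a u v, ρ a (u + v) = ρ a u + ρ a v
  isom : ∀ a v, q (ρ a v) = q v
  faithful : ∀ a, (∀ v, ρ a v = v) → a = 1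
  isotropic_le : ∀ S : AddSubgroup U, (∀ u ∈ S, ∀ v ∈ S, B u v = 0) → Nat.card ↥S ≤ 16

/-- The case of a six dimensional fixed space of the normal subgroup of order three. -/
structure Six {L : Type*} [Group L] {U : Type*} [AddCommGroup U] (ρ : L → U → U)
    (q : U → ZMod 2) (B : U → U → ZMod 2) (x : L) (ι : Asix →* L) : Prop where
  card_plane : Nat.card {v : U // v + ρ x v + ρ x (ρ x v) = 0} = 4
  fixes_plane : ∀ σ v, v + ρ x v + ρ x (ρ x v) = 0 → ρ (ι σ) v = v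
  small_fixed : ∀ S : AddSubgroup U, (∀ u ∈ S, ρ x u = u) → (∀ σ, ∀ u ∈ S, ρ (ι σ) u ∈ S) →
    Nat.card ↥S ≤ 8 → ∀ σ, ∀ u ∈ S, ρ (ι σ) u = u
  fixed_plane : ∀ v t, ρ x v = v → ρ x t = t → (∀ σ, ρ (ι σ) v = v) → (∀ σ, ρ (ι σ) t = t) →
    q v = 1 → q t = 0 → B v t = 0 → t = 0

/-- The extraspecial group with its coordinates and the action of the centralizer. -/
structure Pre {G : Type*} [Group G] (z : G) (Q : Subgroup G) {L : Type*} [Group L]
    {U : Type*} [AddCommGroup U] (θ : G → L) (pr : G → U) (ρ : L → U → U) (q : U → ZMod 2)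
    (B : U → U → ZMod 2) (x : L) (ι : Asix →* L) : Prop where
  hyp : Hyp z Q
  rep : Rep ρ q B
  spec : LSpec x ι
  θ_mul : ∀ a b : G, a * z = z * a → b * z = z * b → θ (a * b) = θ a * θ b
  θ_surj : ∀ l, ∃ c : G, c * z = z * c ∧ θ c = l
  θ_ker : ∀ c : G, c * z = z * c → (θ c = 1 ↔ c ∈ Q)
  pr_mul : ∀ a ∈ Q, ∀ b ∈ Q, pr (a * b) = pr a + pr b
  pr_zero : ∀ a ∈ Q, (pr a = 0 ↔ a = 1 ∨ a = z)
  pr_surj : ∀ v, ∃ a ∈ Q, pr a = v
  pr_sq : ∀ a ∈ Q, (q (pr a) = 0 ↔ a * a = 1)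
  pr_comm : ∀ a ∈ Q, ∀ b ∈ Q, (B (pr a) (pr b) = 0 ↔ a * b = b * a)
  θ_pr : ∀ c, c * z = z * c → ∀ a ∈ Q, pr (c * a * c⁻¹) = ρ (θ c) (pr a)

end CfsgLib.SmithNine70
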