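import Cfsg.Agent.SmithNine70.Shape

/-!
Every partner lies over a pure vector, and over `(w, 0)` the intersection is `w⊥ ⊗ a + ⟨w⟩ ⊗ b`.
-/

set_option autoImplicit false
set_option synthInstance.maxSize 2000
set_option linter.unusedSectionVars false

namespace CfsgLib.SmithNine70

open Cfsg CfsgLib.LargeExtraspecial

variable {G : Type*} [Group G] [Finite G] {z : G} {Q : Subgroup G} {o : Fin 2} {pr : G → V}
  {act : G → V → V} {g s : G}

theorem indep_span : ∀ a b c d : ZMod 2, ∀ p p' : W, a • p + b • p' = 0 → p ≠ 0 → p' ≠ 0 → p ≠ p' →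
    c = 0 → d = 0 → a = 0 ∧ b = 0 := by decide +kernel

/-- Four vectors moved to an independent pair and to zero form a basis. -/
theorem span_four {σ : W → W} (hσ : IsSymp σ) {p p' v v' : W} (hp : p ≠ 0) (hp' : p' ≠ 0)
    (hne : p ≠ p') (f1 : σ p = p) (f2 : σ p' = p') (f3 : σ v = p + v) (f4 : σ v' = p' + v') (u : W) :
    ∃ a b c d : ZMod 2, u = a • p + b • p' + c • v + d • v' := by
  let φ : ZMod 2 × ZMod 2 × ZMod 2 × ZMod 2 → W := fun x =>
    x.1 • p + x.2.1 • p' + x.2.2.1 • v + x.2.2.2 • v'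
  have hinj : Function.Injective φ := by
    intro x y e
    have hφ : ∀ a b, φ (a + b) = φ a + φ b := fun a b => by
      simp only [φ, Prod.fst_add, Prod.snd_add, add_smul]; abel
    have e0 : φ (x + y) = 0 := by rw [hφ, e, w_add_self]
    obtain ⟨a, b, c, d, hxy⟩ : ∃ a b c d, x + y = (a, b, c, d) := ⟨_, _, _, _, rfl⟩
    rw [hxy] at e0
    simp only [φ] at e0
    have hσe := congrArg σ e0
    rw [hσ.zero] at hσe
    simp only [hσ.add, hσ.smul, f1, f2, f3, f4, smul_add] at hσe
    have hcd : c • p + d • p' = 0 := by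
      calc c • p + d • p' = (a • p + b • p' + (c • p + c • v) + (d • p' + d • v')) +
          (a • p + b • p' + c • v + d • v') := by
            have := w_add_self (a • p + b • p' + c • v + d • v')
            calc c • p + d • p' = c • p + d • p' + 0 := (add_zero _).symm
              _ = _ := by rw [← this]; abel
        _ = 0 := by rw [hσe, e0, add_zero]
    obtain ⟨hc, hd⟩ := indep_span c d 0 0 p p' hcd hp hp' hne rfl rfl
    subst hc hd
    rw [zero_smul, zero_smul, add_zero, add_zero] at e0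
    obtain ⟨ha, hb⟩ := indep_span a b 0 0 p p' e0 hp hp' hne rfl rfl
    subst ha hb
    calc x = x + (y + y) := by rw [show y + y = 0 from w_add_self y, add_zero]
      _ = y := by rw [← add_assoc, hxy]; exact zero_add y
  obtain ⟨⟨a, b, c, d⟩, hu⟩ := (Finite.injective_iff_surjective.1 hinj) u
  exact ⟨a, b, c, d, hu.symm⟩

namespace Setup

variable (h : Setup z Q o pr act)
include h

/-- With a large intersection, an element of `D` outside `Q` moves some element of `E`. -/
theorem exists_moved (P : Partner z Q g s) (hE : Nat.card ↥P.E = 32) {d : G} (hd : d ∈ P.D)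
    (hdQ : d ∉ Q) : ∃ e ∈ P.E, act d (pr e) = pr s + pr e := by
  by_contra hno
  push Not at hno
  refine hdQ (P.mem_Q_of_centralizes h.hyp hE hd fun e he => ?_)
  rcases P.comm_E h.hyp hd he with k | k
  · exact (mul_inv_eq_iff_eq_mul.1 k).symm
  · exfalso
    refine hno e he ?_
    rw [← h.act_pr d (Subgroup.mem_centralizer_singleton_iff.1 hd.2) e he.1, k,
      h.pr_mul _ P.mem _ he.1]

theorem partner_pure (P : Partner z Q g s) : Pure (pr s) := by
  refine ⟨h.pr_s_ne P, ?_⟩
  by_contra hnp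
  push Not at hnp
  obtain ⟨hp, hp', hne⟩ := hnp
  set p := (pr s).1
  set p' := (pr s).2
  have hs : pr s = (p, p') := rfl
  rcases h.dichotomy P with hE | ⟨hE, d, hd, hdQ, a, b, c, e, hact⟩
  swap
  · obtain ⟨a', b', c', e', σ, hdet, hσ, hact'⟩ := h.good d (Subgroup.mem_centralizer_singleton_iff.1 hd.2)
    obtain ⟨rfl, rfl, rfl, rfl⟩ := tmap_scalar_eq hσ isSymp_id (fun v => by rw [← hact', hact])
    have hfix := h.act_fix_s P hd
    rw [hact, hs] at hfix
    obtain ⟨rfl, rfl, rfl, rfl⟩ := indep p p' hp hp' hne _ _ _ _ hdet (by simpa [tmap] using hfix)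
    refine hdQ ((h.act_ker d (Subgroup.mem_centralizer_singleton_iff.1 hd.2)).1 ?_)
    rw [hact]; funext v; exact tmap_one v
  -- the second factor determines the action
  have hfixσ : ∀ d ∈ P.D, ∀ σ : W → W, act d = tmap 1 0 0 1 σ → σ p = p ∧ σ p' = p' := by
    intro d hd σ e
    have := h.act_fix_s P hd
    rw [e, hs] at this
    simpa [tmap] using this
  have huniq : ∀ d ∈ P.D, ∀ d' ∈ P.D, ∀ σ σ' : W → W, IsSymp σ → IsSymp σ' →
      act d = tmap 1 0 0 1 σ → act d' = tmap 1 0 0 1 σ' → d ∉ Q → d' ∉ Q → act d = act d' := by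
    intro d hd d' hd' σ σ' hσ hσ' ed ed' hdQ hd'Q
    obtain ⟨x, hx, hxd⟩ := h.exists_moved P hE hd hdQ
    have hxd0 := hxd
    rw [ed, hs] at hxd
    have hxd1 := congrArg Prod.fst hxd
    have hxd2 := congrArg Prod.snd hxd
    simp only [tmap, one_smul, zero_smul, add_zero, zero_add, Prod.fst_add, Prod.snd_add] at hxd1 hxd2
    have hspan := span_four hσ hp hp' hne (hfixσ d hd σ ed).1 (hfixσ d hd σ ed).2 hxd1 hxd2
    rcases h.act_E P hd' hx with k | k
    · -- `d'` fixes a basis
      exfalso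
      rw [ed'] at k
      have k1 := congrArg Prod.fst k
      have k2 := congrArg Prod.snd k
      simp only [tmap, one_smul, zero_smul, add_zero, zero_add] at k1 k2
      refine hd'Q ((h.act_ker d' (Subgroup.mem_centralizer_singleton_iff.1 hd'.2)).1 ?_)
      have : σ' = id := funext fun u => by
        obtain ⟨a, b, c, e, rfl⟩ := hspan u
        simp only [hσ'.add, hσ'.smul, (hfixσ d' hd' σ' ed').1, (hfixσ d' hd' σ' ed').2, k1, k2, id]
      rw [ed', this]; funext v; exact tmap_one v
    · rw [ed', hs] at k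
      have k1 := congrArg Prod.fst k
      have k2 := congrArg Prod.snd k
      simp only [tmap, one_smul, zero_smul, add_zero, zero_add, Prod.fst_add, Prod.snd_add] at k1 k2
      have : σ' = σ := funext fun u => by
        obtain ⟨a, b, c, e, rfl⟩ := hspan u
        simp only [hσ'.add, hσ'.smul, hσ.add, hσ.smul, (hfixσ d' hd' σ' ed').1,
          (hfixσ d' hd' σ' ed').2, (hfixσ d hd σ ed).1, (hfixσ d hd σ ed).2, k1, k2, hxd1, hxd2]
      rw [ed, ed', this]
  classical
  by_cases hex : ∃ d ∈ P.D, d ∉ Q ∧ ∃ σ, IsSymp σ ∧ act d = tmap 1 0 0 1 σ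
  · obtain ⟨d, hd, hdQ, σ, hσ, ed⟩ := hex
    have := h.K_index P {id, act d} fun x hx τ hτ ex => by
      by_cases hxQ : x ∈ Q
      · simp [h.act_Q hxQ]
      · simp [huniq x hx d hd τ σ hτ hσ ex ed hxQ hdQ]
    have h2 : ({id, act d} : Finset (V → V)).card ≤ 2 := Finset.card_le_two
    have := this.trans (Nat.mul_le_mul_right _ h2)
    omega
  · push Not at hex
    have := h.K_index P {id} fun x hx τ hτ ex => by
      have hxQ : x ∈ Q := by
        by_contra hxQ
        exact hex x hx hxQ τ hτ ex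
      simp [h.act_Q hxQ]
    rw [Finset.card_singleton] at this
    omega

theorem small_acts : ∀ a b c d : ZMod 2, a * d + b * c = 1 → a = 1 → c = 0 →
    (a, b, c, d) = (1, 0, 0, 1) ∨ (a, b, c, d) = (1, 1, 0, 1) := by decide +kernel

/-- The pairs with second entry off the line are not all fixed by the second factor. -/
theorem pr_E_snd (P : Partner z Q g s) (hs : pr s = (w0, 0)) (hE : Nat.card ↥P.E = 32) {e : G}
    (he : e ∈ P.E) : (pr e).2 = 0 ∨ (pr e).2 = w0 := by
  classical
  by_contra hne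
  push Not at hne
  have hperp : bw (pr e).2 w0 = 0 := by
    have := h.bv_of_commute he.1 P.mem (P.E_comm h.hyp he (P.s_mem_E h.hyp))
    rwa [hs, bv, bw_zero_right, zero_add] at this
  obtain ⟨c, hc, ec⟩ := h.lift_word (wordFix o)
  -- an element fixing `s`
  obtain ⟨k, hk, hks, ek⟩ : ∃ k, k * z = z * k ∧ k * s = s * k ∧ act k = act c := by
    have hfix : act c (pr s) = pr s := by rw [hs, ec]; simp [tmap, word_fix, (isSymp_word o _).zero]
    rw [← h.act_pr c hc s P.mem] at hfix
    rcases h.pr_congr (h.conj_mem hc P.mem) P.mem hfix with k | k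
    · exact ⟨c, hc, mul_inv_eq_iff_eq_mul.1 k, rfl⟩
    · obtain ⟨q, hq, hqs⟩ := h.conj_z_mul P.mem (h.pr_s_ne P)
      have hqz := h.hyp.commute_z hq
      refine ⟨q * c, comm_mul hqz hc, ?_, by rw [h.act_mul hqz hc, h.act_Q hq]; rfl⟩
      rw [← mul_inv_eq_iff_eq_mul]
      calc q * c * s * (q * c)⁻¹ = q * (c * s * c⁻¹) * q⁻¹ := by group
        _ = q * z * s * q⁻¹ := by rw [k, mul_assoc q z s]
        _ = z * (q * s * q⁻¹) := by rw [hqz]; group
        _ = s := by rw [hqs, ← mul_assoc, h.hyp.setting.z_mul_z, one_mul]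
  have he' := P.conj_mem_E h.hyp hk hks he
  have hpe' : (pr (k * e * k⁻¹)).2 = word o (wordFix o) (pr e).2 := by
    rw [h.act_pr k hk e he.1, ek, ec]; simp [tmap]
  have hK : ∀ d ∈ P.D, ∀ σ, IsSymp σ → act d = tmap 1 0 0 1 σ → σ = id ∨ σ = tw := by
    intro d hd σ hσ ed
    have hf : ∀ x ∈ P.E, σ (pr x).2 = (pr x).2 := by
      intro x hx
      rcases h.act_E P hd hx with k | k <;> rw [ed] at k
      · simpa [tmap] using congrArg Prod.snd k
      · simpa [tmap, hs] using congrArg Prod.snd k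
    have hf0 : σ w0 = w0 := by
      have := h.act_fix_s P hd
      rw [ed, hs] at this
      simpa [tmap, hσ.zero] using this
    refine hσ.eq_id_or_tw fun u hu => ?_
    obtain ⟨a, b, c', rfl⟩ := span_fix o _ hperp hne.1 hne.2 u hu
    have h2 := hf _ he'
    rw [hpe'] at h2
    simp only [hσ.add, hσ.smul, hf0, hf e he, h2]
  have := h.K_index P {id, tmap 1 0 0 1 tw} fun d hd σ hσ ed => by
    rcases hK d hd σ hσ ed with rfl | rfl
    · simp [ed, show tmap 1 0 0 1 (id : W → W) = id from funext tmap_one]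
    · simp [ed]
  have h2 : ({id, tmap 1 0 0 1 tw} : Finset (V → V)).card ≤ 2 := Finset.card_le_two
  have := this.trans (Nat.mul_le_mul_right _ h2)
  omega

theorem image_E_card (P : Partner z Q g s) (S : Finset V) (hS : ∀ e ∈ P.E, pr e ∈ S) :
    Nat.card ↥P.E ≤ 2 * S.card ∧
      (Nat.card ↥P.E = 2 * S.card → ∀ a ∈ Q, pr a ∈ S → a ∈ P.E) := by
  classical
  set T : Set G := {a | a ∈ Q ∧ pr a ∈ S} with hT
  have hsub : (P.E : Set G) ⊆ T := fun e he => ⟨he.1, hS e he⟩
  have hTcard : T.ncard ≤ 2 * S.card := by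
    let rep : V → G := fun v => (h.pr_surj v).choose
    have hrep : ∀ v, rep v ∈ Q ∧ pr (rep v) = v := fun v => (h.pr_surj v).choose_spec
    have hss : T ⊆ ↑(S.image rep ∪ S.image (fun v => z * rep v)) := by
      rintro a ⟨ha, haS⟩
      rw [Finset.coe_union, Finset.coe_image, Finset.coe_image]
      rcases h.pr_congr ha (hrep (pr a)).1 (hrep (pr a)).2.symm with k | k
      · exact Or.inl ⟨_, haS, k.symm⟩
      · exact Or.inr ⟨_, haS, k.symm⟩
    have := Set.ncard_le_ncard hss (Set.toFinite _)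
    rw [Set.ncard_coe_finset] at this
    refine this.trans ((Finset.card_union_le _ _).trans ?_)
    have h1 := Finset.card_image_le (s := S) (f := rep)
    have h2 := Finset.card_image_le (s := S) (f := fun v => z * rep v)
    omega
  have hEn : (P.E : Set G).ncard = Nat.card ↥P.E := rfl
  refine ⟨hEn ▸ (Set.ncard_le_ncard hsub (Set.toFinite _)).trans hTcard, fun he a ha haS => ?_⟩
  have := Set.eq_of_subset_of_ncard_le hsub (by rw [hEn, he]; exact hTcard) (Set.toFinite _)
  show a ∈ (P.E : Set G)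
  rw [this]
  exact ⟨ha, haS⟩

theorem card_values : (Finset.univ.filter fun v : V => bw v.1 w0 = 0 ∧ (v.2 = 0 ∨ v.2 = w0)).card = 16 := by
  decide +kernel

theorem card_perp : (Finset.univ.filter fun v : V => bw v.1 w0 = 0 ∧ v.2 = 0).card = 8 := by
  decide +kernel

theorem card_first : (Finset.univ.filter fun v : V => v.2 = 0).card = 16 := by decide +kernel

theorem card_E_eq (P : Partner z Q g s) (hs : pr s = (w0, 0)) : Nat.card ↥P.E = 32 := by
  classical
  rcases h.dichotomy P with hE | ⟨hE, d, hd, hdQ, a, b, c, e, hact⟩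
  · exact hE
  exfalso
  obtain ⟨a', b', c', e', σ, hdet, hσ, hact'⟩ := h.good d (Subgroup.mem_centralizer_singleton_iff.1 hd.2)
  obtain ⟨rfl, rfl, rfl, rfl⟩ := tmap_scalar_eq hσ isSymp_id (fun v => by rw [← hact', hact])
  have hfix := h.act_fix_s P hd
  rw [hact, hs] at hfix
  have hf : a' = 1 ∧ c' = 0 ∧ e' = 1 :=
    gl_fix a' b' c' e' w0 w0_ne hdet (by simpa [tmap] using hfix)
  obtain ⟨rfl, rfl, rfl⟩ := hf
  have hb : b' = 1 := by
    rcases z2_cases b' with rfl | rfl
    · exact absurd ((h.act_ker d (Subgroup.mem_centralizer_singleton_iff.1 hd.2)).1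
        (by rw [hact]; funext v; exact tmap_one v)) hdQ
    · rfl
  subst hb
  -- all of `w₀⊥ ⊗ a` lies in `E`
  have hmem : ∀ v : V, bw v.1 w0 = 0 → v.2 = 0 → ∃ x ∈ P.E, pr x = v := by
    rintro ⟨v1, v2⟩ h1 h2
    dsimp only at h1 h2
    subst h2
    obtain ⟨x, hx, ex⟩ := h.act_perp P hd (v := (0, v1)) (by rw [hs, bv]; simp [h1, bw_zero_left])
    refine ⟨x, hx, ?_⟩
    rw [ex, hact]
    simp [tmap, w_add_self]
  -- and nothing else
  have hall : ∀ x ∈ P.E, bw (pr x).1 w0 = 0 ∧ (pr x).2 = 0 := by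
    set S := Finset.univ.filter fun v : V => bw v.1 w0 = 0 ∧ v.2 = 0
    let rep : V → G := fun v => if hv : ∃ x ∈ P.E, pr x = v then hv.choose else 1
    have hrep : ∀ v ∈ S, rep v ∈ P.E ∧ pr (rep v) = v := fun v hv => by
      simp only [S, Finset.mem_filter] at hv
      have hv' := hmem v hv.2.1 hv.2.2
      simp only [rep, dif_pos hv']
      exact hv'.choose_spec
    have hsub : (↑(S.image rep ∪ S.image (fun v => z * rep v)) : Set G) ⊆ P.E := by
      intro x hx
      simp only [Finset.coe_union, Finset.coe_image, Set.mem_union, Set.mem_image] at hx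
      rcases hx with ⟨v, hv, rfl⟩ | ⟨v, hv, rfl⟩
      · exact (hrep v hv).1
      · exact P.E.mul_mem (P.z_mem_E h.hyp) (hrep v hv).1
    have hinj : Set.InjOn rep S := fun u hu v hv e => by
      rw [← (hrep u hu).2, ← (hrep v hv).2, e]
    have hdisj : Disjoint (S.image rep) (S.image fun v => z * rep v) := by
      rw [Finset.disjoint_left]
      intro x hx1 hx2
      obtain ⟨u, hu, rfl⟩ := Finset.mem_image.1 hx1
      obtain ⟨v, hv, e⟩ := Finset.mem_image.1 hx2
      have e' := congrArg pr e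
      rw [h.pr_z_mul (hrep v hv).1.1, (hrep v hv).2, (hrep u hu).2] at e'
      subst e'
      exact h.hyp.setting.z_ne_one (mul_eq_right.1 e)
    have hcard : (S.image rep ∪ S.image (fun v => z * rep v)).card = 16 := by
      rw [Finset.card_union_of_disjoint hdisj, Finset.card_image_of_injOn hinj,
        Finset.card_image_of_injOn (fun u hu v hv e => hinj hu hv (mul_left_cancel e))]
      rw [show S.card = 8 from card_perp h]
    intro x hx
    have hEeq := Set.eq_of_subset_of_ncard_le hsub (by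
      rw [Set.ncard_coe_finset, hcard]
      exact le_of_eq hE) (Set.toFinite _)
    rw [← SetLike.mem_coe, ← hEeq] at hx
    simp only [Finset.coe_union, Finset.coe_image, Set.mem_union, Set.mem_image] at hx
    rcases hx with ⟨v, hv, rfl⟩ | ⟨v, hv, rfl⟩
    · rw [(hrep v hv).2]; simpa [S] using hv
    · rw [h.pr_z_mul (hrep v hv).1.1, (hrep v hv).2]; simpa [S] using hv
  -- so the actions of `D` are few
  have := h.card_D_le P ({id, tmap 1 1 0 1 id, tmap 1 0 0 1 tw, tmap 1 1 0 1 tw} : Finset (V → V))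
    fun x hx => by
      obtain ⟨p, q, r, t, τ, hdet', hτ, ex⟩ := h.good x (Subgroup.mem_centralizer_singleton_iff.1 hx.2)
      have hfx := h.act_fix_s P hx
      rw [ex, hs] at hfx
      have hτw : τ w0 ≠ 0 := fun e => w0_ne (hτ.injective (by rw [e, hτ.zero]))
      simp only [tmap, hτ.zero, smul_zero, add_zero, Prod.mk.injEq] at hfx
      obtain ⟨rfl, rfl⟩ : p = 1 ∧ r = 0 :=
        ⟨smul_cancel p 1 (τ w0) w0 hτw w0_ne (by rw [hfx.1, one_smul]), by
          rcases z2_cases r with e | e
          · exact e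
          · exact absurd (by simpa [e] using hfx.2) hτw⟩
      obtain rfl : t = 1 := by simpa using hdet'
      have hτid : τ = id ∨ τ = tw := hτ.eq_id_or_tw fun u hu => by
        obtain ⟨y, hy, ey⟩ := h.act_perp P hx (v := (0, u)) (by rw [hs, bv]; simp [hu, bw_zero_left])
        have := (hall y hy).2
        rw [ey, ex] at this
        simp [tmap, hτ.zero] at this
        calc τ u = τ u + (u + u) := by rw [w_add_self, add_zero]
          _ = u := by rw [← add_assoc, this, zero_add]
      have hid : tmap 1 0 0 1 (id : W → W) = id := funext tmap_one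
      rcases hτid with rfl | rfl <;> rcases z2_cases q with rfl | rfl <;> simp [ex, hid]
  have h4 : ({id, tmap 1 1 0 1 id, tmap 1 0 0 1 tw, tmap 1 1 0 1 tw} : Finset (V → V)).card ≤ 4 :=
    Finset.card_le_four
  have := this.trans (Nat.mul_le_mul_right _ h4)
  omega

/-- The intersection belonging to a partner over the base vector. -/
theorem mem_E_base (P : Partner z Q g s) (hs : pr s = (w0, 0)) {a : G} (ha : a ∈ Q) :
    a ∈ P.E ↔ InE w0 (pr a) := by
  classical
  have hE := h.card_E_eq P hs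
  have hsnd : ∀ e ∈ P.E, (pr e).2 = 0 ∨ (pr e).2 = w0 := fun e he => h.pr_E_snd P hs hE he
  have hq : ∀ e ∈ P.E, bw (pr e).1 (pr e).2 = 0 := fun e he =>
    (h.pr_sq e he.1).2 (P.E_sq h.hyp he)
  have hbv : ∀ e ∈ P.E, ∀ e' ∈ P.E, bw (pr e).1 (pr e').2 + bw (pr e).2 (pr e').1 = 0 :=
    fun e he e' he' => h.bv_of_commute he.1 he'.1 (P.E_comm h.hyp he he')
  have hex : ∃ e ∈ P.E, (pr e).2 = w0 := by
    by_contra hno
    push Not at hno
    have h0 : ∀ e ∈ P.E, pr e ∈ Finset.univ.filter fun v : V => v.2 = 0 := fun e he => by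
      simpa using (hsnd e he).resolve_right (hno e he)
    have hall := (h.image_E_card P _ h0).2 (by rw [card_first h, hE])
    have hK : ∀ d ∈ P.D, ∀ σ, IsSymp σ → act d = tmap 1 0 0 1 σ → σ = id ∨ σ = tw := by
      intro d hd σ hσ ed
      have hnear : ∀ u, σ u = u ∨ σ u = u + w0 := fun u => by
        obtain ⟨x, hx, ex⟩ := h.pr_surj (u, 0)
        have hxE := hall x hx (by simp [ex])
        rcases h.act_E P hd hxE with k | k <;> rw [ex, ed] at k <;>
          simp [tmap, hσ.zero, hs] at k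
        · exact Or.inl k
        · exact Or.inr (k.trans (add_comm _ _))
      exact hσ.eq_id_or_tw (hσ.fix_of_near hnear)
    have := h.K_index P {id, tmap 1 0 0 1 tw} fun d hd σ hσ ed => by
      rcases hK d hd σ hσ ed with rfl | rfl
      · simp [ed, show tmap 1 0 0 1 (id : W → W) = id from funext tmap_one]
      · simp [ed]
    have h2 : ({id, tmap 1 0 0 1 tw} : Finset (V → V)).card ≤ 2 := Finset.card_le_two
    have := this.trans (Nat.mul_le_mul_right _ h2)
    omega
  obtain ⟨e0, he0, e02⟩ := hex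
  have hfst : ∀ e ∈ P.E, bw (pr e).1 w0 = 0 := by
    intro e he
    rcases hsnd e he with k | k
    · have := hbv e he e0 he0
      rwa [e02, k, bw_zero_left, add_zero] at this
    · have := hq e he
      rwa [k] at this
  have hin : ∀ e ∈ P.E, pr e ∈ Finset.univ.filter fun v : V => bw v.1 w0 = 0 ∧ (v.2 = 0 ∨ v.2 = w0) :=
    fun e he => by simp [hfst e he, hsnd e he]
  refine ⟨fun hae => ⟨hfst a hae, hsnd a hae⟩, fun hv => ?_⟩
  exact (h.image_E_card P _ hin).2 (by rw [card_values h, hE]) a ha (by simpa [InE] using hv)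

/-- The intersection belonging to a partner over `(w, 0)`. -/
theorem inQ_iff_inE (P : Partner z Q g s) {w : W} (hs : pr s = (w, 0)) {a : G} (ha : a ∈ Q) :
    InQ z Q s a ↔ InE w (pr a) := by
  have hw : w ≠ 0 := fun e => h.pr_s_ne P (by rw [hs, e]; rfl)
  obtain ⟨c, hc, ec⟩ := h.lift_word (wordTo o w)
  set σ := word o (wordTo o w) with hσdef
  have hσ : IsSymp σ := isSymp_word o _
  have hσw : σ w0 = w := word_to o w hw
  have hci := comm_inv hc
  have P' := P.moved c⁻¹ hci h.hyp
  have hs' : pr (c⁻¹ * s * c⁻¹⁻¹) = (w0, 0) := by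
    rw [h.act_pr c⁻¹ hci s P.mem, hs]
    have := h.act_inv_left hc (w0, 0)
    rw [ec] at this
    simpa [tmap, hσw, hσ.zero] using this
  have key := h.mem_E_base P' hs' (h.conj_mem hci ha)
  rw [P'.mem_E h.hyp] at key
  have h1 : InQ z Q s a ↔ InQ z Q (c⁻¹ * s * c⁻¹⁻¹) (c⁻¹ * a * c⁻¹⁻¹) := by
    refine ⟨fun k => k.conj _, fun k => ?_⟩
    have := k.conj c
    simpa [mul_assoc] using this
  rw [h1, ← and_iff_right (h.conj_mem hci ha) (b := InQ z Q _ _), key]
  have hv : pr a = tmap 1 0 0 1 σ (pr (c⁻¹ * a * c⁻¹⁻¹)) := by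
    rw [h.act_pr c⁻¹ hci a ha, ← ec, h.act_inv_right hc]
  rw [hv]
  generalize pr (c⁻¹ * a * c⁻¹⁻¹) = v
  obtain ⟨v1, v2⟩ := v
  simp only [InE, tmap, one_smul, zero_smul, add_zero, zero_add]
  rw [← hσw, hσ.form]
  refine and_congr_right fun _ => ⟨?_, ?_⟩
  · rintro (rfl | rfl)
    · exact Or.inl hσ.zero
    · exact Or.inr rfl
  · rintro (k | k)
    · exact Or.inl (hσ.injective (k.trans hσ.zero.symm))
    · exact Or.inr (hσ.injective k)

/-- The pure lifts are exactly the conjugates of `z` in `Q`, apart from `z`. -/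
theorem pure_om {g s : G} (P : Partner z Q g s) {a : G} (ha : a ∈ Q) (hv : Pure (pr a)) :
    Om z a := by
  obtain ⟨c, hc, ec⟩ := h.exists_move (h.partner_pure P)
  obtain ⟨k, hk, ek⟩ := h.exists_move hv
  have e : act (k * c⁻¹) (pr s) = pr a := by
    rw [h.act_mul hk (comm_inv hc), Function.comp_apply, ← ec, h.act_inv_left hc, ek]
  obtain ⟨m, -, hma⟩ := h.exists_conj_eq P.mem ha (comm_mul hk (comm_inv hc)) hv.1 e
  exact hma ▸ P.om.conj m

end Setup

end CfsgLib.SmithNine70
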